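import Mathlib

/-!
# Permutation matrices as a homomorphism (helper338)
-/

set_option autoImplicit false

namespace Cfsg.Agent.H338.AltDeg

/-- The permutation representation. -/
def permHom (n : ℕ) (F : Type*) [Field F] : Equiv.Perm (Fin n) →* Matrix (Fin n) (Fin n) F where
  toFun s := Matrix.of fun i j => if i = s j then 1 else 0
  map_one' := by
    ext i j
    rw [Matrix.of_apply, Matrix.one_apply]
    by_cases h : i = j
    · subst h; simp
    · rw [if_neg h, if_neg (by simpa using h)]
  map_mul' := by
    intro s t
    ext i k
    rw [Matrix.mul_apply, Finset.sum_eq_single (t k)]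
    · show (if i = s (t k) then (1 : F) else 0) =
        (if i = s (t k) then (1 : F) else 0) * (if t k = t k then (1 : F) else 0)
      rw [if_pos (rfl : t k = t k), mul_one]
    · intro j _ hj
      show (if i = s j then (1 : F) else 0) * (if j = t k then (1 : F) else 0) = 0
      rw [if_neg hj, mul_zero]
    · intro h
      exact absurd (Finset.mem_univ _) h

theorem permHom_injective (n : ℕ) (F : Type*) [Field F] : Function.Injective (permHom n F) := by
  intro s t h
  ext j
  have h1 := congrFun (congrFun h (s j)) j
  have h2 : (if s j = s j then (1 : F) else 0) = if s j = t j then 1 else 0 := h1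
  rw [if_pos rfl] at h2
  by_contra hne
  have h3 : ¬ s j = t j := fun h => hne (by rw [h])
  rw [if_neg h3] at h2
  exact one_ne_zero h2

/-- The permutation representation of the alternating group. -/
def altHom (n : ℕ) (F : Type*) [Field F] :
    alternatingGroup (Fin n) →* Matrix.GeneralLinearGroup (Fin n) F :=
  (MonoidHom.toHomUnits (permHom n F)).comp (alternatingGroup (Fin n)).subtype

theorem altHom_injective (n : ℕ) (F : Type*) [Field F] : Function.Injective (altHom n F) := by
  intro s t h
  apply Subtype.ext
  apply permHom_injective n F
  exact congrArg Units.val h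

end Cfsg.Agent.H338.AltDeg
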