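import Cfsg.Agent.H338.Dual2

/-!
# Lifts of elementary abelian 2-subgroups to central extensions (helper338)
-/

set_option autoImplicit false

namespace Cfsg.Agent.H338.AltLift

open Cfsg.Agent.H338.Dual2 Subgroup

/-- A non-degenerate alternating form: the order is a square. -/
theorem sq_of_alt {A : Type*} [CommGroup A] [Finite A] (hsq : ∀ a : A, a * a = 1) (B : A →* Dl A)
    (hB : Function.Injective B) (halt : ∀ a, B a a = 1) : ∃ m, Nat.card A = m * m := by
  classical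
  have hsym : ∀ a b, B a b = B b a := by
    intro a b
    have h1 := halt (a * b)
    rw [map_mul B, dl_mul_apply, map_mul (B a), map_mul (B b), halt, halt, one_mul, mul_one] at h1
    exact mul_right_cancel (h1.trans (unit_sq (B b a)).symm)
  have hfin : Set.Finite {U : Subgroup A | ∀ a ∈ U, ∀ b ∈ U, B a b = 1} := Set.toFinite _
  obtain ⟨U, hU⟩ := hfin.exists_maximal ⟨⊥, by
    intro a ha b hb
    rw [mem_bot] at ha
    rw [ha, map_one]
    rfl⟩
  obtain ⟨hU1, hU2⟩ := hU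
  -- `U` is its own orthogonal
  let W : Subgroup A := (perp U).comap B
  have hW : ∀ a, a ∈ W ↔ ∀ u ∈ U, B a u = 1 := fun a => Iff.rfl
  have hUW : U ≤ W := fun a ha => (hW a).2 (hU1 a ha)
  have hWU : W ≤ U := by
    intro x hx
    have h1 : U ≤ U ⊔ zpowers x := le_sup_left
    have h2 : U ⊔ zpowers x ≤ U := by
      apply hU2 _ h1
      have key : ∀ a ∈ U ⊔ zpowers x, ∃ u ∈ U, a = u ∨ a = u * x := by
        intro a ha
        obtain ⟨u, hu, z, hz, rfl⟩ := Subgroup.mem_sup.1 ha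
        obtain ⟨k, rfl⟩ := mem_zpowers_iff.1 hz
        rcases Int.even_or_odd k with ⟨m, rfl⟩ | ⟨m, rfl⟩
        · refine ⟨u, hu, Or.inl ?_⟩
          rw [zpow_add, ← mul_zpow, hsq, one_zpow, mul_one]
        · refine ⟨u, hu, Or.inr ?_⟩
          rw [zpow_add, zpow_mul, zpow_one, show (2 : ℤ) = ((2 : ℕ) : ℤ) from rfl, zpow_natCast,
            pow_two, hsq, one_zpow, one_mul]
      intro a ha b hb
      obtain ⟨u, hu, hau⟩ := key a ha
      obtain ⟨v, hv, hbv⟩ := key b hb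
      have e1 := hU1 u hu v hv
      have e2 := (hW x).1 hx v hv
      have e3 : B u x = 1 := by rw [hsym]; exact (hW x).1 hx u hu
      have e4 := halt x
      rcases hau with rfl | rfl <;> rcases hbv with rfl | rfl
      · exact e1
      · rw [map_mul (B a), e1, e3, mul_one]
      · rw [map_mul B, dl_mul_apply, e1, e2, mul_one]
      · rw [map_mul B, dl_mul_apply, map_mul (B u), map_mul (B x), e1, e2, e3, e4]
        rfl
    exact h2 (Subgroup.mem_sup_right (mem_zpowers x))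
  have hWU' : W = U := le_antisymm hWU hUW
  have hbij : Function.Bijective B := by
    rw [Nat.bijective_iff_injective_and_card]
    exact ⟨hB, (card_dual hsq).symm⟩
  have h1 : Nat.card W = Nat.card (perp U) := by
    refine Nat.card_congr (Equiv.ofBijective (fun w : W => (⟨B w, w.2⟩ : perp U)) ⟨?_, ?_⟩)
    · intro w w' h
      exact Subtype.ext (hB (congrArg Subtype.val h))
    · rintro ⟨χ, hχ⟩
      obtain ⟨a, rfl⟩ := hbij.2 χ
      exact ⟨⟨a, hχ⟩, rfl⟩
  refine ⟨Nat.card U, ?_⟩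
  rw [← card_perp hsq U, ← h1, hWU']

/-- If the lifts of `V` do not commute, there is a non-degenerate invariant alternating form. -/
theorem exists_form {L K : Type*} [Group L] [Finite L] [Group K] (π : L →* K)
    (hπ : Function.Surjective π) (hker : ∀ x : L, π x = 1 → ∀ l : L, x * l = l * x)
    (V : Subgroup K) (hab : ∀ a ∈ V, ∀ b ∈ V, a * b = b * a) (hsq : ∀ v ∈ V, v * v = 1)
    (hirr : ∀ W : Subgroup K, W ≤ V → (∀ g ∈ normalizer (V : Set K), ∀ w ∈ W, g * w * g⁻¹ ∈ W) →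
      W = ⊥ ∨ W = V) (h : ¬ ∀ a b : L, π a ∈ V → π b ∈ V → a * b = b * a) :
    ∃ β : V → V → ℤˣ, (∀ a b c, β (a * b) c = β a c * β b c) ∧
      (∀ a b c, β a (b * c) = β a b * β a c) ∧ (∀ a, β a a = 1) ∧
      (∀ (g : K) (_ : g ∈ normalizer (V : Set K)) (a b a' b' : V), (a' : K) = g * a * g⁻¹ →
        (b' : K) = g * b * g⁻¹ → β a' b' = β a b) ∧
      (∀ a, (∀ b, β a b = 1) → a = 1) := by
  classical
  push Not at h
  obtain ⟨a0, b0, ha0, hb0, hne⟩ := h
  -- the group of possible commutators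
  let T : Subgroup L :=
    { carrier := {z | π z = 1 ∧ z * z = 1}
      one_mem' := ⟨map_one π, one_mul 1⟩
      mul_mem' := by
        rintro a b ⟨ha, ha'⟩ ⟨hb, hb'⟩
        refine ⟨by rw [map_mul, ha, hb, one_mul], ?_⟩
        calc a * b * (a * b) = a * (b * a) * b := by group
          _ = a * (a * b) * b := by rw [hker a ha b]
          _ = (a * a) * (b * b) := by group
          _ = 1 := by rw [ha', hb', one_mul]
      inv_mem' := by
        rintro a ⟨ha, ha'⟩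
        exact ⟨by rw [map_inv, ha, inv_one], by rw [← mul_inv_rev, ha', inv_one]⟩ }
  let instT : CommGroup T :=
    { (inferInstance : Group T) with
      mul_comm := fun a b => Subtype.ext (hker a a.2.1 b) }
  have hsqT : ∀ t : T, t * t = 1 := fun t => Subtype.ext t.2.2
  have hcm : ∀ a b : L, π a ∈ V → π b ∈ V → a * b * a⁻¹ * b⁻¹ ∈ T := by
    intro a b ha hb
    have h1 : π (a * b * a⁻¹ * b⁻¹) = 1 := by
      rw [map_mul, map_mul, map_mul, map_inv, map_inv, hab _ ha _ hb]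
      group
    refine ⟨h1, ?_⟩
    have h2 : π (a * a) = 1 := by rw [map_mul, hsq _ ha]
    have h3 := hker _ h2 b
    have h4 := hker _ h1 (a)
    calc a * b * a⁻¹ * b⁻¹ * (a * b * a⁻¹ * b⁻¹)
        = ((a * b * a⁻¹ * b⁻¹) * a) * b * a⁻¹ * b⁻¹ := by group
      _ = (a * (a * b * a⁻¹ * b⁻¹)) * b * a⁻¹ * b⁻¹ := by rw [h4]
      _ = (a * a * b) * (a * a)⁻¹ * b⁻¹ := by group
      _ = (b * (a * a)) * (a * a)⁻¹ * b⁻¹ := by rw [h3]
      _ = 1 := by group
  let C : ∀ a b : L, π a ∈ V → π b ∈ V → T := fun a b ha hb => ⟨a * b * a⁻¹ * b⁻¹, hcm a b ha hb⟩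
  obtain ⟨χ, hχ⟩ := exists_sep hsqT (a := C a0 b0 ha0 hb0) (by
    intro h1
    apply hne
    have h2 : a0 * b0 * a0⁻¹ * b0⁻¹ = 1 := congrArg Subtype.val h1
    rw [mul_inv_eq_one, mul_inv_eq_iff_eq_mul] at h2
    exact h2)
  -- commutators depend only on the images
  have hdep1 : ∀ a a' b : L, π a = π a' → a * b * a⁻¹ * b⁻¹ = a' * b * a'⁻¹ * b⁻¹ := by
    intro a a' b haa
    have h1 : π (a'⁻¹ * a) = 1 := by rw [map_mul, map_inv, haa, inv_mul_cancel]
    have h2 := hker _ h1 b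
    calc a * b * a⁻¹ * b⁻¹ = a' * ((a'⁻¹ * a) * b) * a⁻¹ * b⁻¹ := by group
      _ = a' * (b * (a'⁻¹ * a)) * a⁻¹ * b⁻¹ := by rw [h2]
      _ = a' * b * a'⁻¹ * b⁻¹ := by group
  have hdep2 : ∀ a b b' : L, π b = π b' → a * b * a⁻¹ * b⁻¹ = a * b' * a⁻¹ * b'⁻¹ := by
    intro a b b' hbb
    have h1 : π (b'⁻¹ * b) = 1 := by rw [map_mul, map_inv, hbb, inv_mul_cancel]
    have h2 := hker _ h1 a⁻¹
    calc a * b * a⁻¹ * b⁻¹ = a * b' * ((b'⁻¹ * b) * a⁻¹) * b⁻¹ := by group
      _ = a * b' * (a⁻¹ * (b'⁻¹ * b)) * b⁻¹ := by rw [h2]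
      _ = a * b' * a⁻¹ * b'⁻¹ := by group
  have hl : ∀ v : V, π (Classical.choose (hπ v)) = v := fun v => Classical.choose_spec (hπ v)
  have hlV : ∀ v : V, π (Classical.choose (hπ v)) ∈ V := fun v => by rw [hl]; exact v.2
  let β : V → V → ℤˣ := fun v w =>
    χ (C (Classical.choose (hπ v)) (Classical.choose (hπ w)) (hlV v) (hlV w))
  have hβ : ∀ (v w : V) (a b : L) (ha : π a = v) (hb : π b = w),
      β v w = χ (C a b (by rw [ha]; exact v.2) (by rw [hb]; exact w.2)) := by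
    intro v w a b ha hb
    have h1 : C (Classical.choose (hπ v)) (Classical.choose (hπ w)) (hlV v) (hlV w) =
        C a b (by rw [ha]; exact v.2) (by rw [hb]; exact w.2) := by
      apply Subtype.ext
      show _ * _ * _⁻¹ * _⁻¹ = a * b * a⁻¹ * b⁻¹
      rw [hdep1 _ a _ (by rw [hl, ha]), hdep2 a _ b (by rw [hl, hb])]
    show χ _ = χ _
    rw [h1]
  have hmul1 : ∀ a b c, β (a * b) c = β a c * β b c := by
    intro a b c
    have ha := hl a
    have hb := hl b
    have hc := hl c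
    set a' := Classical.choose (hπ a)
    set b' := Classical.choose (hπ b)
    set c' := Classical.choose (hπ c)
    rw [hβ (a * b) c (a' * b') c' (by rw [map_mul, ha, hb]; rfl) hc, hβ a c a' c' ha hc,
      hβ b c b' c' hb hc, ← map_mul χ]
    congr 1
    apply Subtype.ext
    show a' * b' * c' * (a' * b')⁻¹ * c'⁻¹ = (a' * c' * a'⁻¹ * c'⁻¹) * (b' * c' * b'⁻¹ * c'⁻¹)
    have h1 := hker _ (hcm b' c' (by rw [hb]; exact b.2) (by rw [hc]; exact c.2)).1
    calc a' * b' * c' * (a' * b')⁻¹ * c'⁻¹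
        = a' * ((b' * c' * b'⁻¹ * c'⁻¹) * (c' * a'⁻¹ * c'⁻¹)) := by group
      _ = a' * ((c' * a'⁻¹ * c'⁻¹) * (b' * c' * b'⁻¹ * c'⁻¹)) := by rw [h1]
      _ = _ := by group
  have hmul2 : ∀ a b c, β a (b * c) = β a b * β a c := by
    intro a b c
    have ha := hl a
    have hb := hl b
    have hc := hl c
    set a' := Classical.choose (hπ a)
    set b' := Classical.choose (hπ b)
    set c' := Classical.choose (hπ c)
    rw [hβ a (b * c) a' (b' * c') ha (by rw [map_mul, hb, hc]; rfl), hβ a b a' b' ha hb,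
      hβ a c a' c' ha hc, ← map_mul χ]
    congr 1
    apply Subtype.ext
    show a' * (b' * c') * a'⁻¹ * (b' * c')⁻¹ = (a' * b' * a'⁻¹ * b'⁻¹) * (a' * c' * a'⁻¹ * c'⁻¹)
    have h1 := hker _ (hcm a' c' (by rw [ha]; exact a.2) (by rw [hc]; exact c.2)).1
    calc a' * (b' * c') * a'⁻¹ * (b' * c')⁻¹
        = (a' * b' * a'⁻¹) * ((a' * c' * a'⁻¹ * c'⁻¹) * b'⁻¹) := by group
      _ = (a' * b' * a'⁻¹) * (b'⁻¹ * (a' * c' * a'⁻¹ * c'⁻¹)) := by rw [h1]
      _ = _ := by group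
  have halt : ∀ a, β a a = 1 := by
    intro a
    have h1 : C (Classical.choose (hπ a)) (Classical.choose (hπ a)) (hlV a) (hlV a) = 1 := by
      apply Subtype.ext
      show _ * _ * _⁻¹ * _⁻¹ = 1
      group
    show χ _ = 1
    rw [h1, map_one]
  have hinv : ∀ (g : K) (_ : g ∈ normalizer (V : Set K)) (a b a' b' : V),
      (a' : K) = g * a * g⁻¹ → (b' : K) = g * b * g⁻¹ → β a' b' = β a b := by
    intro g hg a b a' b' ha' hb'
    obtain ⟨gh, rfl⟩ := hπ g
    have ha := hl a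
    have hb := hl b
    set ah := Classical.choose (hπ a)
    set bh := Classical.choose (hπ b)
    rw [hβ a' b' (gh * ah * gh⁻¹) (gh * bh * gh⁻¹) (by rw [map_mul, map_mul, map_inv, ha, ha'])
      (by rw [map_mul, map_mul, map_inv, hb, hb']), hβ a b ah bh ha hb]
    congr 1
    apply Subtype.ext
    show (gh * ah * gh⁻¹) * (gh * bh * gh⁻¹) * (gh * ah * gh⁻¹)⁻¹ * (gh * bh * gh⁻¹)⁻¹ =
      ah * bh * ah⁻¹ * bh⁻¹
    have h1 := hker _ (hcm ah bh (by rw [ha]; exact a.2) (by rw [hb]; exact b.2)).1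
    calc (gh * ah * gh⁻¹) * (gh * bh * gh⁻¹) * (gh * ah * gh⁻¹)⁻¹ * (gh * bh * gh⁻¹)⁻¹
        = gh * ((ah * bh * ah⁻¹ * bh⁻¹) * gh⁻¹) := by group
      _ = gh * (gh⁻¹ * (ah * bh * ah⁻¹ * bh⁻¹)) := by rw [h1]
      _ = _ := by group
  refine ⟨β, hmul1, hmul2, halt, hinv, ?_⟩
  -- the radical
  have hone : ∀ b, β 1 b = 1 := by
    intro b
    have h1 := hmul1 1 1 b
    rw [one_mul] at h1
    exact (mul_eq_left.1 h1.symm)
  let Rad : Subgroup K :=
    { carrier := {x | ∃ hx : x ∈ V, ∀ b, β ⟨x, hx⟩ b = 1}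
      one_mem' := ⟨one_mem _, hone⟩
      mul_mem' := by
        rintro x y ⟨hx, hx'⟩ ⟨hy, hy'⟩
        refine ⟨V.mul_mem hx hy, fun b => ?_⟩
        have h1 := hmul1 ⟨x, hx⟩ ⟨y, hy⟩ b
        rw [hx', hy', one_mul] at h1
        exact h1
      inv_mem' := by
        rintro x ⟨hx, hx'⟩
        have h1 : x⁻¹ = x := inv_eq_of_mul_eq_one_left (hsq x hx)
        rw [h1]
        exact ⟨hx, hx'⟩ }
  have hRV : Rad ≤ V := fun x hx => hx.1
  rcases hirr Rad hRV (by
    rintro g hg w ⟨hw, hw'⟩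
    have hgw : g * w * g⁻¹ ∈ V := (mem_normalizer_iff.1 hg w).1 hw
    refine ⟨hgw, fun b => ?_⟩
    have hgb : g⁻¹ * b * g ∈ V := by
      have := (mem_normalizer_iff.1 (inv_mem hg) b).1 b.2
      rwa [inv_inv] at this
    rw [hinv g hg ⟨w, hw⟩ ⟨g⁻¹ * b * g, hgb⟩ ⟨g * w * g⁻¹, hgw⟩ b rfl (by
      show (b : K) = g * (g⁻¹ * b * g) * g⁻¹
      group)]
    exact hw' _) with h1 | h1
  · intro a ha
    have h2 : (a : K) ∈ Rad := ⟨a.2, ha⟩
    rw [h1, mem_bot] at h2
    exact Subtype.ext h2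
  · exfalso
    have h2 : π a0 ∈ Rad := by rw [h1]; exact ha0
    obtain ⟨h3, h4⟩ := h2
    have h5 := h4 ⟨π b0, hb0⟩
    rw [hβ ⟨π a0, h3⟩ ⟨π b0, hb0⟩ a0 b0 rfl rfl] at h5
    exact hχ h5

/-- The lifts commute when `|V|` is not a square. -/
theorem lift_comm {L K : Type*} [Group L] [Finite L] [Group K] [Finite K] (π : L →* K)
    (hπ : Function.Surjective π) (hker : ∀ x : L, π x = 1 → ∀ l : L, x * l = l * x)
    (V : Subgroup K) (hab : ∀ a ∈ V, ∀ b ∈ V, a * b = b * a) (hsq : ∀ v ∈ V, v * v = 1)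
    (hirr : ∀ W : Subgroup K, W ≤ V → (∀ g ∈ normalizer (V : Set K), ∀ w ∈ W, g * w * g⁻¹ ∈ W) →
      W = ⊥ ∨ W = V) (hns : ∀ m, Nat.card V ≠ m * m) :
    ∀ a b : L, π a ∈ V → π b ∈ V → a * b = b * a := by
  by_contra h
  obtain ⟨β, h1, h2, h3, -, h5⟩ := exists_form π hπ hker V hab hsq hirr h
  let inst : CommGroup V :=
    { (inferInstance : Group V) with mul_comm := fun a b => Subtype.ext (hab a a.2 b b.2) }
  let B : V →* Dl V := MonoidHom.mk' (fun a => (MonoidHom.mk' (β a) (h2 a) : V →* ℤˣ)) (by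
    intro a b
    apply Dl.ext
    intro c
    exact h1 a b c)
  obtain ⟨m, hm⟩ := sq_of_alt (A := V) (fun a => Subtype.ext (hsq a a.2)) B (by
    rw [injective_iff_map_eq_one]
    intro a ha
    apply h5
    intro b
    exact congrArg (fun χ : Dl V => χ b) ha) h3
  exact hns m hm

end Cfsg.Agent.H338.AltLift
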