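import Cfsg.Agent.H338.M24Dual

/-!
# Modules of order `2^11` for `M24`: form with homomorphisms (helper338)
-/

set_option autoImplicit false
open scoped Pointwise
open Cfsg MulAction

namespace Cfsg.Agent.H338.M24Orb

section

variable {A : Type*} [CommGroup A] [Finite A] [MulDistribMulAction M24 A]

/-- Orbits on non-trivial vectors have length at least 276. -/
theorem Mod24.le_index (M : Mod24 A) {u : A} (hu : u ≠ 1) : 276 ≤ (stabilizer M24 u).index := by
  obtain ⟨v, hv, fv⟩ := M.exists_fixed
  by_cases h : u ∈ orbit M24 v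
  · have h1 : (stabilizer M24 u).index = (stabilizer M24 v).index := by
      rw [index_stabilizer, index_stabilizer, orbit_eq_iff.2 h]
    rw [h1]
    rcases M.index_cases hv fv with h2 | h2 <;> omega
  · have h1 := M.orbit253 hv fv hu h
    have h2 := Cfsg.Agent.S1589.result.2.2.2 (stabilizer M24 u)
    have h3 : 0 < (stabilizer M24 u).index := Nat.pos_of_ne_zero Subgroup.index_ne_zero_of_finite
    omega

end

theorem comm_of_sq {A : Type*} [Group A] (hsq : ∀ a : A, a * a = 1) (a b : A) : a * b = b * a := by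
  have h1 := hsq (a * b)
  calc a * b = (a * b)⁻¹ := eq_inv_of_mul_eq_one_left h1
    _ = b⁻¹ * a⁻¹ := mul_inv_rev _ _
    _ = b * a := by rw [inv_eq_of_mul_eq_one_left (hsq a), inv_eq_of_mul_eq_one_left (hsq b)]

variable {A : Type*} [Group A] [Finite A]

theorem no_offender_hom (hcard : Nat.card A = 2 ^ 11) (hsq : ∀ a : A, a * a = 1)
    (φ : M24 →* MulAut A) (hφ : ∃ (g : M24) (a : A), φ g a ≠ a) (B : Subgroup M24)
    (hB : ∀ b ∈ B, b * b = 1) (hne : B ≠ ⊥) (A0 : Subgroup A)
    (h1 : ∀ b ∈ B, ∀ a ∈ A0, φ b a = a) (h2 : ∀ b ∈ B, ∀ a : A, φ b a * a ∈ A0) :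
    Nat.card A0 * Nat.card B < 2 ^ 11 := by
  let inst : CommGroup A := { (inferInstance : Group A) with mul_comm := comm_of_sq hsq }
  let act : MulDistribMulAction M24 A :=
    { smul := fun g a => φ g a
      one_smul := fun a => by
        show φ 1 a = a
        rw [map_one]; rfl
      mul_smul := fun g h a => by
        show φ (g * h) a = φ g (φ h a)
        rw [map_mul]; rfl
      smul_mul := fun g a b => map_mul (φ g) a b
      smul_one := fun g => map_one (φ g) }
  have M : Mod24 A := ⟨hcard, hsq, hφ⟩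
  exact no_offender M B hB hne A0 h1 h2

theorem irr_hom (hcard : Nat.card A = 2 ^ 11) (hsq : ∀ a : A, a * a = 1)
    (φ : M24 →* MulAut A) (hφ : ∃ (g : M24) (a : A), φ g a ≠ a) (W : Subgroup A)
    (hW : ∀ g : M24, ∀ a ∈ W, φ g a ∈ W) : W = ⊥ ∨ W = ⊤ := by
  let inst : CommGroup A := { (inferInstance : Group A) with mul_comm := comm_of_sq hsq }
  let act : MulDistribMulAction M24 A :=
    { smul := fun g a => φ g a
      one_smul := fun a => by
        show φ 1 a = a
        rw [map_one]; rfl
      mul_smul := fun g h a => by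
        show φ (g * h) a = φ g (φ h a)
        rw [map_mul]; rfl
      smul_mul := fun g a b => map_mul (φ g) a b
      smul_one := fun g => map_one (φ g) }
  have M : Mod24 A := ⟨hcard, hsq, hφ⟩
  exact M.irr W hW

open Cfsg.Agent.H338.Dual2

/-- Orbits on non-trivial characters have length at least 276. -/
theorem dual_orbit_hom (hcard : Nat.card A = 2 ^ 11) (hsq : ∀ a : A, a * a = 1)
    (φ : M24 →* MulAut A) (hφ : ∃ (g : M24) (a : A), φ g a ≠ a) (χ : A →* ℤˣ) (hχ : χ ≠ 1) :
    276 ≤ Nat.card (Set.range fun g : M24 => χ.comp (φ g).toMonoidHom) := by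
  let inst : CommGroup A := { (inferInstance : Group A) with mul_comm := comm_of_sq hsq }
  let act : MulDistribMulAction M24 A :=
    { smul := fun g a => φ g a
      one_smul := fun a => by
        show φ 1 a = a
        rw [map_one]; rfl
      mul_smul := fun g h a => by
        show φ (g * h) a = φ g (φ h a)
        rw [map_mul]; rfl
      smul_mul := fun g a b => map_mul (φ g) a b
      smul_one := fun g => map_one (φ g) }
  have M : Mod24 A := ⟨hcard, hsq, hφ⟩
  obtain ⟨χ', hχ'⟩ : ∃ χ' : Dl A, χ' = χ := ⟨χ, rfl⟩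
  have h1 := M.dual.le_index (u := χ') (by rw [hχ']; exact hχ)
  rw [index_stabilizer] at h1
  have h2 : orbit M24 χ' = (Set.range fun g : M24 => χ.comp (φ g).toMonoidHom) := by
    subst hχ'
    ext ψ
    constructor
    · rintro ⟨g, rfl⟩
      exact ⟨g⁻¹, rfl⟩
    · rintro ⟨g, rfl⟩
      refine ⟨g⁻¹, ?_⟩
      show MonoidHom.comp χ' (φ (g⁻¹)⁻¹).toMonoidHom = _
      rw [inv_inv]
  rw [h2] at h1
  exact h1

end Cfsg.Agent.H338.M24Orb
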