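import Cfsg.Agent.H338.MkLoc
import Cfsg.Agent.H338.M24Hom
import Cfsg.Prelude.Def_Spor_Mathieu

/-!
# `2^11 : M24`: reduction to simple groups (helper338)
-/

set_option autoImplicit false

namespace Cfsg.Agent.H338.Big24

open Subgroup Cfsg.Agent.H338.Reduce Cfsg.Agent.H338.LocSyl

variable {G : Type*} [Group G]

/-- The situation in a simple group. -/
structure Big (V : Subgroup G) (f : normalizer (V : Set G) →* Cfsg.M24) : Prop where
  simple : IsSimpleGroup G
  na : ¬ ∀ x y : G, Commute x y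
  sq : ∀ v ∈ V, v * v = 1
  comm : ∀ a ∈ V, ∀ b ∈ V, a * b = b * a
  card : Nat.card V = 2 ^ 11
  cent : ∀ g : G, (∀ v ∈ V, g * v = v * g) → g ∈ V
  surj : Function.Surjective f
  ker : f.ker = V.subgroupOf (normalizer (V : Set G))
  sylow : ¬ 2 ^ 22 ∣ Nat.card G

variable {V : Subgroup G} {f : normalizer (V : Set G) →* Cfsg.M24}

theorem card_normalizer [Finite G] (f : normalizer (V : Set G) →* Cfsg.M24)
    (hf : Function.Surjective f) (hk : f.ker = V.subgroupOf (normalizer (V : Set G)))
    (hc : Nat.card V = 2 ^ 11) : Nat.card (normalizer (V : Set G)) = 2 ^ 11 * 244823040 := by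
  rw [← Subgroup.card_mul_index f.ker, Subgroup.index_ker, MonoidHom.range_eq_top.2 hf,
    Subgroup.card_top, Cfsg.Agent.S0364.result, hk,
    Nat.card_congr (Subgroup.subgroupOfEquivOfLe le_normalizer).toEquiv, hc]

theorem ntriv [Finite G] (f : normalizer (V : Set G) →* Cfsg.M24)
    (hf : Function.Surjective f) (hk : f.ker = V.subgroupOf (normalizer (V : Set G)))
    (hab : ∀ a ∈ V, ∀ b ∈ V, a * b = b * a)
    (hcent : ∀ g : G, (∀ v ∈ V, g * v = v * g) → g ∈ V) :
    ∃ (g : Cfsg.M24) (a : V), act f hf hk hab g a ≠ a := by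
  by_contra hcon
  push Not at hcon
  have hnt : ∃ g : Cfsg.M24, g ≠ 1 := ⟨M24Orb.x11, M24Orb.x11_ne⟩
  obtain ⟨g, hg⟩ := hnt
  obtain ⟨x, rfl⟩ := hf g
  apply hg
  have hx : (x : G) ∈ V := by
    apply hcent
    intro v hv
    have h1 := act_apply f hf hk hab x ⟨v, hv⟩
    rw [hcon] at h1
    have h2 : v = x * v * (x : G)⁻¹ := h1
    rw [eq_mul_inv_iff_mul_eq] at h2
    exact h2.symm
  have h1 : x ∈ f.ker := by rw [hk]; exact hx
  exact h1

theorem main1 [Finite G] (V : Subgroup G) (hV : Cfsg.IsElementaryAbelian 2 V)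
    (hcard : Nat.card V = 2 ^ 11) (hC : Subgroup.centralizer (V : Set G) = V)
    (hM : Cfsg.Spor.IsoM24 (normalizer (V : Set G) ⧸ V.subgroupOf (normalizer (V : Set G))))
    (hO : ∀ T : Sylow 2 (normalizer (V : Set G)), ∀ s : normalizer (V : Set G),
      s ∈ (T : Subgroup (normalizer (V : Set G))) → orderOf s = 2 →
      (∀ y ∈ (T : Subgroup (normalizer (V : Set G))), y * s = s * y) →
      Cfsg.pPrimeCore 2 (centralizer ({(s : G)} : Set G)) = ⊥) :
    V.Normal ∨ ∃ f : normalizer (V : Set G) →* Cfsg.M24, Big V f := by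
  have : Fact (Nat.Prime 2) := ⟨Nat.prime_two⟩
  obtain ⟨q⟩ := hM
  let f : normalizer (V : Set G) →* Cfsg.M24 :=
    q.toMonoidHom.comp (QuotientGroup.mk' (V.subgroupOf (normalizer (V : Set G))))
  have hf : Function.Surjective f := q.surjective.comp (QuotientGroup.mk'_surjective _)
  have hk : f.ker = V.subgroupOf (normalizer (V : Set G)) := by
    ext x
    rw [MonoidHom.mem_ker]
    show q (QuotientGroup.mk' _ x) = 1 ↔ _
    rw [MulEquiv.map_eq_one_iff, ← MonoidHom.mem_ker, QuotientGroup.ker_mk']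
  have hsq : ∀ v ∈ V, v * v = 1 := fun v hv => by rw [← pow_two]; exact hV.2 v hv
  have hab : ∀ a ∈ V, ∀ b ∈ V, a * b = b * a := by
    intro a ha b hb
    exact congrArg Subtype.val (hV.1.is_comm.comm (⟨a, ha⟩ : V) ⟨b, hb⟩)
  have hcent : ∀ g : G, (∀ v ∈ V, g * v = v * g) → g ∈ V := by
    intro g hg
    rw [← hC, mem_centralizer_iff]
    intro v hv
    exact (hg v hv).symm
  have hsqV : ∀ a : V, a * a = 1 := fun a => Subtype.ext (hsq a a.2)
  have hnt := ntriv f hf hk hab hcent
  have hsimp : IsSimpleGroup Cfsg.M24 := Cfsg.Agent.S0365.result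
  have hirr : ∀ W : Subgroup G, W ≤ V →
      (∀ g ∈ normalizer (V : Set G), ∀ w ∈ W, g * w * g⁻¹ ∈ W) → W = ⊥ ∨ W = V := by
    intro W hW hWn
    rcases M24Orb.irr_hom hcard hsqV (act f hf hk hab) hnt (W.subgroupOf V) (by
      intro g a ha
      obtain ⟨x, rfl⟩ := hf g
      show ((act f hf hk hab (f x) a : V) : G) ∈ W
      rw [act_apply]
      exact hWn x x.2 a ha) with h | h
    · left
      rw [Subgroup.subgroupOf_eq_bot, disjoint_iff, inf_eq_left.2 hW] at h
      exact h
    · right
      rw [Subgroup.subgroupOf_eq_top] at h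
      exact le_antisymm hW h
  have L : Loc V 11 23 := mk_loc f hf hk hsq hcard (by norm_num) hcent hirr (by norm_num)
    (by norm_num) (by rw [Cfsg.Agent.S0364.result]; norm_num) hO
  rcases L.reduce with h | ⟨K, hK, hKs, hKna, hNK, -⟩
  · exact Or.inl h
  right
  have hcN := card_normalizer f hf hk hcard
  -- a Sylow 2-subgroup of `N`
  obtain ⟨T⟩ : Nonempty (Sylow 2 (normalizer (V : Set G))) := inferInstance
  let S : Subgroup G := (T : Subgroup (normalizer (V : Set G))).map (normalizer (V : Set G)).subtype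
  have hSN : S ≤ normalizer (V : Set G) := map_subtype_le _
  have hScard : Nat.card S = 2 ^ 21 := by
    have h1 : Nat.card S = Nat.card T := Nat.card_congr (Subgroup.equivMapOfInjective _
      (normalizer (V : Set G)).subtype (normalizer (V : Set G)).subtype_injective).symm.toEquiv
    rw [h1, T.card_eq_multiplicity, hcN]
    congr 1
    rw [show 2 ^ 11 * 244823040 = 2 ^ 21 * 239085 by norm_num]
    rw [Nat.factorization_mul (by norm_num) (by norm_num), Nat.Prime.factorization_pow Nat.prime_two]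
    rw [Finsupp.add_apply, Finsupp.single_eq_same,
      Nat.factorization_eq_zero_of_not_dvd (by norm_num)]
  have hVS : V ≤ S := by
    have h1 : IsPGroup 2 (V.subgroupOf (normalizer (V : Set G))) := by
      apply IsPGroup.of_card (n := 11)
      rw [Nat.card_congr (Subgroup.subgroupOfEquivOfLe le_normalizer).toEquiv, hcard]
    have h2 : V.subgroupOf (normalizer (V : Set G)) ≤ (T : Subgroup (normalizer (V : Set G))) :=
      h1.le_sylow_of_normal T
    intro v hv
    exact ⟨⟨v, le_normalizer hv⟩, h2 hv, rfl⟩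
  have hnorm : normalizer (S : Set G) ≤ normalizer (V : Set G) := by
    apply normalizer_le f hf hk hsq hab _ S hVS hSN
    intro B hB hne A0 h1 h2
    rw [hcard]
    exact M24Orb.no_offender_hom hcard hsqV (act f hf hk hab) hnt B hB hne A0 h1 h2
  have hidx : ¬ 2 ∣ S.index := not_dvd_index (normalizer (V : Set G)) S hScard
    (by rw [hcN]; norm_num) hnorm
  have hKtop : K = ⊤ := eq_top K _ S hK hNK hSN hScard hidx hnorm
  subst hKtop
  have hGs : IsSimpleGroup G := by
    have h1 : Function.Bijective (Subgroup.topEquiv (G := G)) := MulEquiv.bijective _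
    exact (MulEquiv.isSimpleGroup_congr (Subgroup.topEquiv (G := G))).1 hKs
  refine ⟨f, hGs, ?_, hsq, hab, hcard, hcent, hf, hk, ?_⟩
  · intro h
    exact hKna fun x _ y _ => h x y
  · intro h22
    apply hidx
    have h1 := S.card_mul_index
    rw [hScard] at h1
    rw [← h1, pow_succ] at h22
    exact Nat.dvd_of_mul_dvd_mul_left (by positivity) h22

end Cfsg.Agent.H338.Big24
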