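import Mathlib

/-!
# Idempotents permuted cyclically by a unit (helper338)
-/

set_option autoImplicit false

namespace Cfsg.Agent.H338.CycId

variable {R : Type*} [Ring R] {p : ℕ} [hp : Fact p.Prime]

/-- Orthogonal non-zero idempotents, `Q i` sent to `Q (i + 1)` by `y`. -/
structure Cyc (Q : ZMod p → R) (y z : R) : Prop where
  same : ∀ i, Q i * Q i = Q i
  ne : ∀ i j, i ≠ j → Q i * Q j = 0
  two : ∀ i, (2 : ℤ) • Q i ≠ 0
  yz : y * z = 1
  zy : z * y = 1
  conj : ∀ i, y * Q i * z = Q (i + 1)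

variable {Q : ZMod p → R} {y z : R}

/-- The elements acting by signs. -/
noncomputable def D0 (Q : ZMod p → R) (c : ZMod p → ℤˣ) : R :=
  1 + ∑ i, (((c i : ℤˣ) : ℤ) - 1) • Q i

theorem D0_mul_Q (H : Cyc Q y z) (c : ZMod p → ℤˣ) (j : ZMod p) :
    D0 Q c * Q j = ((c j : ℤˣ) : ℤ) • Q j := by
  unfold D0
  rw [add_mul, one_mul, Finset.sum_mul, Finset.sum_eq_single j]
  · rw [smul_mul_assoc, H.same, sub_smul, one_smul]
    abel
  · intro i _ hi
    rw [smul_mul_assoc, H.ne i j hi, smul_zero]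
  · intro h
    exact absurd (Finset.mem_univ _) h

theorem D0_mul (H : Cyc Q y z) (c d : ZMod p → ℤˣ) : D0 Q c * D0 Q d = D0 Q (c * d) := by
  conv_lhs => rw [D0.eq_1 Q d]
  rw [mul_add, mul_one, Finset.mul_sum]
  have h1 : ∀ i ∈ (Finset.univ : Finset (ZMod p)), D0 Q c * ((((d i : ℤˣ) : ℤ) - 1) • Q i) =
      ((((c i : ℤˣ) : ℤ)) * (((d i : ℤˣ) : ℤ) - 1)) • Q i := by
    intro i _
    rw [mul_smul_comm, D0_mul_Q H, smul_smul, mul_comm]
  rw [Finset.sum_congr rfl h1]
  unfold D0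
  rw [add_assoc, ← Finset.sum_add_distrib]
  congr 1
  apply Finset.sum_congr rfl
  intro i _
  rw [← add_smul]
  congr 1
  rw [Pi.mul_apply, Units.val_mul]
  ring

theorem D0_one : D0 Q (1 : ZMod p → ℤˣ) = 1 := by
  unfold D0
  simp

theorem D0_inj (H : Cyc Q y z) {c : ZMod p → ℤˣ} (h : D0 Q c = 1) : c = 1 := by
  funext j
  by_contra hj
  have h1 := D0_mul_Q H c j
  rw [h, one_mul, (Int.units_eq_one_or (c j)).resolve_left hj] at h1
  apply H.two j
  have h2 : (((-1 : ℤˣ) : ℤ)) • Q j = - Q j := by simp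
  rw [h2] at h1
  rw [two_smul]
  nth_rewrite 1 [h1]
  exact neg_add_cancel _

/-- shift -/
def shift (c : ZMod p → ℤˣ) : ZMod p → ℤˣ := fun i => c (i - 1)

theorem conj_D0 (H : Cyc Q y z) (c : ZMod p → ℤˣ) : y * D0 Q c * z = D0 Q (shift c) := by
  unfold D0
  rw [mul_add, mul_one, add_mul, H.yz, Finset.mul_sum, Finset.sum_mul]
  congr 1
  refine Fintype.sum_equiv (Equiv.addRight (1 : ZMod p)) _ _ fun i => ?_
  show y * (((((c i : ℤˣ) : ℤ) - 1)) • Q i) * z = ((((c (i + 1 - 1) : ℤˣ) : ℤ) - 1)) • Q (i + 1)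
  rw [add_sub_cancel_right, mul_smul_comm, smul_mul_assoc, H.conj]

/-- As a homomorphism to units. -/
noncomputable def D (H : Cyc Q y z) : (ZMod p → ℤˣ) →* Rˣ :=
  MonoidHom.toHomUnits
    { toFun := D0 Q
      map_one' := D0_one
      map_mul' := fun c d => (D0_mul H c d).symm }

theorem coe_D (H : Cyc Q y z) (c : ZMod p → ℤˣ) : ((D H c : Rˣ) : R) = D0 Q c := rfl

theorem D_injective (H : Cyc Q y z) : Function.Injective (D H) := by
  rw [injective_iff_map_eq_one]
  intro c hc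
  apply D0_inj H
  rw [← coe_D H, hc]
  rfl

theorem const_of_shift {c : ZMod p → ℤˣ} (h : shift c = c) (i : ZMod p) : c i = c 0 := by
  have h1 : ∀ n : ℕ, c (n : ZMod p) = c 0 := by
    intro n
    induction n with
    | zero => simp
    | succ n ih =>
      have h2 := congrFun h ((n : ZMod p) + 1)
      unfold shift at h2
      rw [add_sub_cancel_right] at h2
      push_cast
      rw [← h2, ih]
  have h2 := h1 (ZMod.val i)
  rwa [ZMod.natCast_zmod_val] at h2

theorem eq_one_of_comm (H : Cyc Q y z) (hodd : p ≠ 2) {c : ZMod p → ℤˣ} (h0 : c 0 = 1)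
    (h : y * D0 Q (c * (shift c)⁻¹) * z = D0 Q (c * (shift c)⁻¹)) : c = 1 := by
  rw [conj_D0 H] at h
  have h1 : shift (c * (shift c)⁻¹) = c * (shift c)⁻¹ := by
    apply D_injective H
    apply Units.ext
    rw [coe_D, coe_D]
    exact h
  set u := c * (shift c)⁻¹ with hu
  have h2 : ∀ i, u i = u 0 := const_of_shift h1
  have h3 : ∏ i, u i = 1 := by
    rw [hu]
    simp only [Pi.mul_apply, Pi.inv_apply]
    rw [Finset.prod_mul_distrib, Finset.prod_inv_distrib]
    have h4 : ∏ i, shift c i = ∏ i, c i :=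
      Fintype.prod_equiv (Equiv.subRight (1 : ZMod p)) _ _ fun i => rfl
    rw [h4, mul_inv_cancel]
  rw [Finset.prod_congr rfl fun i _ => h2 i, Finset.prod_const, Finset.card_univ, ZMod.card] at h3
  have h4 : u 0 = 1 := by
    rcases Int.units_eq_one_or (u 0) with h5 | h5
    · exact h5
    · exfalso
      rw [h5, (hp.out.odd_of_ne_two hodd).neg_one_pow] at h3
      exact absurd h3 (by decide)
  have h5 : shift c = c := by
    funext i
    have h6 : u i = 1 := by rw [h2 i, h4]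
    rw [hu, Pi.mul_apply, Pi.inv_apply, mul_inv_eq_one] at h6
    exact h6.symm
  funext i
  have h7 := const_of_shift h5 i
  rw [h0] at h7
  exact h7

end Cfsg.Agent.H338.CycId
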