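import Mathlib

/-!
# Duals of elementary abelian 2-groups (helper338)

`Dl A = (A →* ℤˣ)` with the contragredient action; `perp W`; character sums.
-/

set_option autoImplicit false

namespace Cfsg.Agent.H338.Dual2

/-- The dual group. -/
def Dl (A : Type*) [CommGroup A] : Type _ := A →* ℤˣ

variable {A : Type*} [CommGroup A]

noncomputable instance : CommGroup (Dl A) := inferInstanceAs (CommGroup (A →* ℤˣ))

instance : FunLike (Dl A) A ℤˣ := inferInstanceAs (FunLike (A →* ℤˣ) A ℤˣ)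

instance : MonoidHomClass (Dl A) A ℤˣ := inferInstanceAs (MonoidHomClass (A →* ℤˣ) A ℤˣ)

theorem Dl.ext {χ ψ : Dl A} (h : ∀ a, χ a = ψ a) : χ = ψ := MonoidHom.ext h

theorem dl_mul_apply (χ ψ : Dl A) (a : A) : (χ * ψ) a = χ a * ψ a := rfl

theorem dl_one_apply (a : A) : (1 : Dl A) a = 1 := rfl

instance [Finite A] : Finite (Dl A) :=
  Finite.of_injective (fun χ : Dl A => (fun a => χ a : A → ℤˣ)) fun _ _ h => Dl.ext (congrFun h)

theorem unit_sq (u : ℤˣ) : u * u = 1 := Int.units_mul_self u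

theorem Dl.sq (χ : Dl A) : χ * χ = 1 := Dl.ext fun _ => unit_sq _

theorem root2 : HasEnoughRootsOfUnity ℤ 2 where
  prim := ⟨-1, IsPrimitiveRoot.neg_one 0 (by decide)⟩
  cyc := inferInstance

theorem exponent_dvd (hsq : ∀ a : A, a * a = 1) : Monoid.exponent A ∣ 2 :=
  Monoid.exponent_dvd_of_forall_pow_eq_one fun a => by rw [pow_two, hsq]

theorem rootA (hsq : ∀ a : A, a * a = 1) : HasEnoughRootsOfUnity ℤ (Monoid.exponent A) :=
  root2.of_dvd ℤ (exponent_dvd hsq)

theorem card_dual [Finite A] (hsq : ∀ a : A, a * a = 1) : Nat.card (Dl A) = Nat.card A := by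
  have := rootA hsq
  exact CommGroup.card_monoidHom_of_hasEnoughRootsOfUnity A ℤ

theorem exists_sep [Finite A] (hsq : ∀ a : A, a * a = 1) {a : A} (ha : a ≠ 1) :
    ∃ χ : Dl A, χ a ≠ 1 := by
  have := rootA hsq
  exact CommGroup.exists_apply_ne_one_of_hasEnoughRootsOfUnity A ℤ ha

/-- The annihilator. -/
def perp (W : Subgroup A) : Subgroup (Dl A) where
  carrier := {χ | ∀ w ∈ W, χ w = 1}
  one_mem' := fun _ _ => rfl
  mul_mem' := fun {χ ψ} hχ hψ w hw => by rw [dl_mul_apply, hχ w hw, hψ w hw, one_mul]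
  inv_mem' := fun {χ} hχ w hw => by
    have h : χ⁻¹ = χ := inv_eq_of_mul_eq_one_left (Dl.sq χ)
    rw [h]
    exact hχ w hw

theorem mem_perp {W : Subgroup A} {χ : Dl A} : χ ∈ perp W ↔ ∀ w ∈ W, χ w = 1 := Iff.rfl

theorem card_perp [Finite A] (hsq : ∀ a : A, a * a = 1) (W : Subgroup A) :
    Nat.card (perp W) * Nat.card W = Nat.card A := by
  have := rootA hsq
  have h1 := CommGroup.card_domRestrictHom_ker (M := ℤ) W
  have h2 : Nat.card (perp W) = Nat.card (MonoidHom.domRestrictHom W ℤˣ).ker := by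
    refine Nat.card_congr (Equiv.subtypeEquivRight ?_)
    intro χ
    exact (MonoidHom.domRestrict_eq_one_iff (s := W) (f := (χ : A →* ℤˣ))).symm
  rw [h2, h1]
  exact (Subgroup.card_eq_card_quotient_mul_card_subgroup W).symm

section action

variable {G : Type*} [Group G] [MulDistribMulAction G A]

/-- The contragredient action. -/
noncomputable instance : MulDistribMulAction G (Dl A) where
  smul g χ := (MonoidHom.comp (χ : A →* ℤˣ) (MulDistribMulAction.toMonoidHom A g⁻¹) : A →* ℤˣ)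
  one_smul χ := Dl.ext fun a => by
    show χ ((1 : G)⁻¹ • a) = χ a
    rw [inv_one, one_smul]
  mul_smul g h χ := Dl.ext fun a => by
    show χ ((g * h)⁻¹ • a) = χ (h⁻¹ • g⁻¹ • a)
    rw [mul_inv_rev, mul_smul]
  smul_mul g χ ψ := rfl
  smul_one g := rfl

theorem dl_smul_apply (g : G) (χ : Dl A) (a : A) : (g • χ) a = χ (g⁻¹ • a) := rfl

end action

/-! ### Character sums -/

theorem sum_dual [Finite A] [Fintype (Dl A)] (hsq : ∀ a : A, a * a = 1) {a : A} (ha : a ≠ 1) :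
    ∑ χ : Dl A, ((χ a : ℤˣ) : ℤ) = 0 := by
  obtain ⟨ψ, hψ⟩ := exists_sep hsq ha
  have hψ' : ψ a = -1 := (Int.units_eq_one_or (ψ a)).resolve_left hψ
  have h : ∑ χ : Dl A, ((χ a : ℤˣ) : ℤ) = ∑ χ : Dl A, (((ψ * χ) a : ℤˣ) : ℤ) := by
    exact (Fintype.sum_equiv (Equiv.mulLeft ψ) _ _ fun χ => rfl).symm
  have h2 : ∑ χ : Dl A, (((ψ * χ) a : ℤˣ) : ℤ) = - ∑ χ : Dl A, ((χ a : ℤˣ) : ℤ) := by
    rw [← Finset.sum_neg_distrib]
    apply Finset.sum_congr rfl
    intro χ _
    rw [dl_mul_apply, hψ']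
    simp
  rw [h2] at h
  omega

theorem sum_dual_one [Finite A] [Fintype (Dl A)] (hsq : ∀ a : A, a * a = 1) :
    ∑ χ : Dl A, ((χ 1 : ℤˣ) : ℤ) = Nat.card A := by
  have h : ∀ χ : Dl A, ((χ 1 : ℤˣ) : ℤ) = 1 := fun χ => by rw [map_one]; rfl
  rw [Finset.sum_congr rfl fun χ _ => h χ, Finset.sum_const, Finset.card_univ,
    ← Nat.card_eq_fintype_card, card_dual hsq]
  simp

/-- The sum of a character over a set. -/
def F (O : Finset A) (χ : Dl A) : ℤ := ∑ a ∈ O, ((χ a : ℤˣ) : ℤ)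

theorem F_one (O : Finset A) : F O (1 : Dl A) = O.card := by
  unfold F
  rw [Finset.card_eq_sum_ones]
  push_cast
  exact Finset.sum_congr rfl fun a _ => rfl

theorem sum_F [Finite A] [Fintype (Dl A)] (hsq : ∀ a : A, a * a = 1) (O : Finset A)
    (hO : (1 : A) ∉ O) : ∑ χ : Dl A, F O χ = 0 := by
  unfold F
  rw [Finset.sum_comm]
  apply Finset.sum_eq_zero
  intro a ha
  apply sum_dual hsq
  rintro rfl
  exact hO ha

theorem sum_F_sq [Finite A] [Fintype (Dl A)] (hsq : ∀ a : A, a * a = 1) (O : Finset A) :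
    ∑ χ : Dl A, F O χ * F O χ = Nat.card A * O.card := by
  classical
  have h1 : ∀ χ : Dl A, F O χ * F O χ = ∑ a ∈ O, ∑ b ∈ O, ((χ (a * b) : ℤˣ) : ℤ) := by
    intro χ
    unfold F
    rw [Finset.sum_mul_sum]
    apply Finset.sum_congr rfl
    intro a _
    apply Finset.sum_congr rfl
    intro b _
    rw [map_mul]
    simp
  rw [Finset.sum_congr rfl fun χ _ => h1 χ, Finset.sum_comm]
  have h2 : ∀ a ∈ O, ∑ χ : Dl A, ∑ b ∈ O, ((χ (a * b) : ℤˣ) : ℤ) = Nat.card A := by
    intro a ha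
    rw [Finset.sum_comm, Finset.sum_eq_single a]
    · rw [hsq, sum_dual_one hsq]
    · intro b _ hb
      apply sum_dual hsq
      intro h
      apply hb
      have h3 := hsq a
      exact (mul_left_cancel (h.trans h3.symm))
    · intro h
      exact absurd ha h
  rw [Finset.sum_congr rfl h2, Finset.sum_const]
  simp [mul_comm]

theorem F_smul {G : Type*} [Group G] [MulDistribMulAction G A] (O : Finset A)
    (hO : ∀ g : G, ∀ a ∈ O, g • a ∈ O) (g : G) (χ : Dl A) : F O (g • χ) = F O χ := by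
  unfold F
  refine Finset.sum_bij (fun a _ => g⁻¹ • a) (fun a ha => hO _ a ha) ?_ ?_ ?_
  · intro a _ b _ h
    exact MulAction.injective g⁻¹ h
  · intro b hb
    exact ⟨g • b, hO g b hb, inv_smul_smul g b⟩
  · intro a _
    rw [dl_smul_apply]

end Cfsg.Agent.H338.Dual2
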