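import Cfsg.Agent.H338.Big24
import Cfsg.Agent.H338.Families
import Cfsg.Agent.H338.ClassicalOdd
import Cfsg.Agent.H338.WeightCount
import Cfsg.Agent.H338.AltDeg

/-!
# `2^11 : M24`: elimination of the families (helper338)
-/

set_option autoImplicit false

namespace Cfsg.Agent.H338.Big24

open Subgroup Cfsg Cfsg.Agent.H338.Reduce Cfsg.Agent.H338.LocSyl Cfsg.Agent.OrdDiv
  Cfsg.Agent.H338.Families Cfsg.Agent.H338.ClassicalOdd Cfsg.Agent.H338.CharTwoOrd

universe u

variable {G : Type u} [Group G] [Finite G] {V : Subgroup G} {f : normalizer (V : Set G) →* Cfsg.M24}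

theorem Big.irr (B : Big V f) (W : Subgroup G) (hW : W ≤ V)
    (hWn : ∀ g ∈ normalizer (V : Set G), ∀ w ∈ W, g * w * g⁻¹ ∈ W) : W = ⊥ ∨ W = V := by
  have hsqV : ∀ a : V, a * a = 1 := fun a => Subtype.ext (B.sq a a.2)
  have hnt := ntriv f B.surj B.ker B.comm B.cent
  rcases M24Orb.irr_hom B.card hsqV (act f B.surj B.ker B.comm) hnt (W.subgroupOf V) (by
    intro g a ha
    obtain ⟨x, rfl⟩ := B.surj g
    show ((act f B.surj B.ker B.comm (f x) a : V) : G) ∈ W
    rw [act_apply]
    exact hWn x x.2 a ha) with h | h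
  · left
    rw [Subgroup.subgroupOf_eq_bot, disjoint_iff, inf_eq_left.2 hW] at h
    exact h
  · right
    rw [Subgroup.subgroupOf_eq_top] at h
    exact le_antisymm hW h

theorem Big.cardN (B : Big V f) : Nat.card (normalizer (V : Set G)) = 2 ^ 11 * 244823040 :=
  card_normalizer f B.surj B.ker B.card

theorem Big.dvd (B : Big V f) : 2 ^ 11 * 244823040 ∣ Nat.card G := by
  rw [← B.cardN]
  exact Subgroup.card_subgroup_dvd_card _

theorem Big.dvd23 (B : Big V f) : 23 ∣ Nat.card G := dvd_trans (by norm_num) B.dvd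

theorem Big.dvd21 (B : Big V f) : 2 ^ 21 ∣ Nat.card G := dvd_trans (by norm_num) B.dvd

theorem Big.ne_bot (B : Big V f) : V ≠ ⊥ := by
  rintro rfl
  have h1 := B.card
  rw [Subgroup.card_bot] at h1
  norm_num at h1

theorem Big.hyp (B : Big V f) : ∃ y, Hyp V 23 y := by
  have hp : Nat.Prime 23 := by norm_num
  have : Fact (Nat.Prime 23) := ⟨hp⟩
  obtain ⟨y, hy⟩ := exists_prime_orderOf_dvd_card' (G := normalizer (V : Set G)) 23
    (by rw [B.cardN]; norm_num)
  have hy1 : (y : G) ^ 23 = 1 := by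
    have h1 := pow_orderOf_eq_one y
    rw [hy] at h1
    exact congrArg Subtype.val h1
  have hyV : (y : G) ∉ V := by
    intro h
    have h1 : orderOf (y : G) = 23 := by rw [Subgroup.orderOf_coe, hy]
    have h2 := orderOf_dvd_of_pow_eq_one (x := (y : G)) (n := 2) (by rw [pow_two]; exact B.sq _ h)
    rw [h1] at h2
    norm_num at h2
  refine ⟨y, B.sq, B.comm, B.ne_bot, hp, by norm_num, hy1, fun v hv => conj_mem_V y.2 hv, ?_,
    B.irr, ?_⟩
  · have h1 := card_fix_modEq hp hy1 V (fun v hv => conj_mem_V y.2 hv)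
    have h2 : Nat.card (V ⊓ centralizer {(y : G)} : Subgroup G) ∣ 2 ^ 11 := by
      rw [← B.card]
      exact Subgroup.card_dvd_of_le inf_le_left
    rw [B.card] at h1
    obtain ⟨k, hk, hk2⟩ := (Nat.dvd_prime_pow Nat.prime_two).1 h2
    rw [hk2] at h1
    have hk3 : k = 0 ∨ k = 11 := by
      interval_cases k <;> first | (left; rfl) | (right; rfl) | (exfalso; revert h1; decide)
    rcases hk3 with rfl | rfl
    · have h3 : V ⊓ centralizer {(y : G)} = ⊥ := Subgroup.eq_bot_of_card_eq _ (by rw [hk2, pow_zero])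
      intro v hv hyv
      have h4 : v ∈ V ⊓ centralizer {(y : G)} :=
        ⟨hv, mem_centralizer_singleton_iff.2 hyv.symm⟩
      rw [h3, mem_bot] at h4
      exact h4
    · exfalso
      have h3 : V ⊓ centralizer {(y : G)} = V :=
        Subgroup.eq_of_le_of_card_ge inf_le_left (by rw [hk2, B.card])
      apply hyV
      apply B.cent
      intro v hv
      rw [← h3] at hv
      exact (mem_centralizer_singleton_iff.1 hv.2).symm
  · rintro ⟨β, h1, h2, h3, -, h5⟩
    let inst : CommGroup V :=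
      { (inferInstance : Group V) with mul_comm := fun a b => Subtype.ext (B.comm a a.2 b b.2) }
    let C : V →* Dual2.Dl V := MonoidHom.mk' (fun a => (MonoidHom.mk' (β a) (h2 a) : V →* ℤˣ)) (by
      intro a b
      apply Dual2.Dl.ext
      intro c
      exact h1 a b c)
    obtain ⟨m, hm⟩ := AltLift.sq_of_alt (A := V) (fun a => Subtype.ext (B.sq a a.2)) C (by
      rw [injective_iff_map_eq_one]
      intro a ha
      apply h5
      intro b
      exact congrArg (fun χ : Dual2.Dl V => χ b) ha) h3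
    rw [B.card] at hm
    have h6 : m < 46 := by
      by_contra h
      have : 46 * 46 ≤ m * m := Nat.mul_le_mul (by omega) (by omega)
      omega
    interval_cases m <;> omega

theorem Big.card_centralizer (B : Big V f) : Nat.card (centralizer (V : Set G)) ≤ 2 ^ 11 := by
  rw [← B.card]
  apply Subgroup.card_le_of_le
  intro g hg
  apply B.cent
  intro v hv
  exact (mem_centralizer_iff.1 hg v hv).symm

theorem Big.no_oddCl (B : Big V f) (h : OddCl G) : False := by
  obtain ⟨y, hy⟩ := B.hyp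
  have key : ¬ 2 ^ (23 - 1) ≤ Nat.card (centralizer (V : Set G)) := by
    have h1 := B.card_centralizer
    intro h2
    have h3 := h2.trans h1
    norm_num at h3
  apply key
  obtain ⟨F, _, _, hF, h | h | h | h | h | h⟩ := h
  · obtain ⟨n, ⟨e⟩⟩ := h
    exact psl hF hy e
  · obtain ⟨n, ⟨e⟩⟩ := h
    exact psp hF hy e
  · obtain ⟨n, q, hq, ⟨e⟩⟩ := h
    exact psu hF hy hq e
  · obtain ⟨n, ⟨e⟩⟩ := h
    exact pomegaOdd hF hy e
  · obtain ⟨n, ⟨e⟩⟩ := h
    exact pomegaPlus hF hy e
  · obtain ⟨n, s, t, ⟨e⟩⟩ := h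
    exact pomegaMinus hF hy e

theorem Big.le_degree (B : Big V f) {F ι : Type*} [Field F] [Fintype ι] [DecidableEq ι]
    (h2 : (2 : F) ≠ 0) (θ : G →* Matrix.GeneralLinearGroup ι F) (hθ : Function.Injective θ) :
    276 ≤ Fintype.card ι := by
  have hsqV : ∀ a : V, a * a = 1 := fun a => Subtype.ext (B.sq a a.2)
  have hnt := ntriv f B.surj B.ker B.comm B.cent
  exact Weights.le_degree f B.surj B.ker B.comm B.sq B.ne_bot
    (fun χ hχ => M24Orb.dual_orbit_hom B.card hsqV (act f B.surj B.ker B.comm) hnt χ hχ) h2 θ hθ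

theorem Big.no_oddEx (B : Big V f) {d : ℕ} (hd : d = 248 ∨ d ≤ 133) (h : OddEx G d) : False := by
  obtain ⟨F, _, _, ι, _, _, h2, hc, θ, hθ⟩ := h
  have := B.le_degree h2 θ hθ
  omega

theorem Big.no_alt (B : Big V f) {n : ℕ} (hn : 5 ≤ n) (e : G ≃* alternatingGroup (Fin n)) :
    False := by
  have : Fact (Nat.Prime 3) := ⟨Nat.prime_three⟩
  have h2 : (2 : ZMod 3) ≠ 0 := by
    intro h
    have h3 : ((2 : ℕ) : ZMod 3) = 0 := by exact_mod_cast h
    rw [ZMod.natCast_eq_zero_iff] at h3
    norm_num at h3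
  have h1 := B.le_degree h2 ((AltDeg.altHom n (ZMod 3)).comp e.toMonoidHom)
    ((AltDeg.altHom_injective n (ZMod 3)).comp e.injective)
  rw [Fintype.card_fin] at h1
  have h3 := alt_card hn e
  apply B.sylow
  have h4 : 2 * 2 ^ 22 ∣ 2 * Nat.card G := by
    rw [← h3]
    exact dvd_trans (by norm_num [Nat.factorial]) (Nat.factorial_dvd_factorial (show 32 ≤ n by omega))
  exact Nat.dvd_of_mul_dvd_mul_left (by norm_num) h4

theorem Big.no_evenCl (B : Big V f) (h : EvenCl G 21) : False := by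
  have h23 := B.dvd23
  obtain ⟨F, _, _, k, h | h | h | h | h⟩ := h
  · obtain ⟨n, hn, hF, hk, ⟨e⟩⟩ := h
    rw [Nat.card_congr e.toEquiv] at h23
    have hc := Cfsg.Agent.S0243.result (F := F) rfl n hn
    rw [Fin.prod_univ_eq_prod_range (fun i => Fintype.card F ^ n - Fintype.card F ^ i) n,
      ← prod_list, hF] at hc
    change _ = glN n (2 ^ k) at hc
    have h1 : 23 ∣ glN n (2 ^ k) := by
      rw [← hc]
      exact Dvd.dvd.mul_left (Dvd.dvd.mul_left h23 _) _
    have hn7 : n ≤ 7 := by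
      by_contra hcon
      have h3 : 8 * 7 ≤ n * (n - 1) := Nat.mul_le_mul (by omega) (by omega)
      have h4 : 28 ≤ n * (n - 1) / 2 := by omega
      have h5 : k ≠ 0 := by rintro rfl; omega
      have h6 : 1 * 28 ≤ k * (n * (n - 1) / 2) := Nat.mul_le_mul (by omega) h4
      omega
    interval_cases n
    · obtain rfl : k = 21 := by omega
      revert h1; decide
    · obtain rfl : k = 7 := by omega
      revert h1; decide
    · omega
    · omega
    · omega
    · obtain rfl : k = 1 := by omega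
      revert h1; decide
  · obtain ⟨m, hm, hF, hk, -⟩ := h
    have hm5 : m < 5 := by
      by_contra hcon
      have h3 : 5 * 5 ≤ m * m := Nat.mul_le_mul (by omega) (by omega)
      have h5 : k ≠ 0 := by rintro rfl; omega
      have h6 : 1 * 25 ≤ k * m ^ 2 := Nat.mul_le_mul (by omega) (by rw [pow_two]; exact h3)
      omega
    interval_cases m <;> omega
  · obtain ⟨n, hn, hF, hk, ⟨e⟩⟩ := h
    rw [Nat.card_congr e.toEquiv] at h23
    have hc := Cfsg.Agent.S0280.result hF n (by omega)
    rw [← prod_list] at hc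
    have h1 : 23 ∣ (2 ^ k) ^ (n * (n - 1) / 2) * (List.map (fun i =>
        if Even i then (2 ^ k) ^ (i + 1) + 1 else (2 ^ k) ^ (i + 1) - 1) (List.range n)).prod := by
      rw [← hc]
      exact Dvd.dvd.mul_left (Dvd.dvd.mul_left h23 _) _
    have hn7 : n ≤ 7 := by
      by_contra hcon
      have h3 : 8 * 7 ≤ n * (n - 1) := Nat.mul_le_mul (by omega) (by omega)
      have h4 : 28 ≤ n * (n - 1) / 2 := by omega
      have h5 : k ≠ 0 := by rintro rfl; omega
      have h6 : 1 * 28 ≤ k * (n * (n - 1) / 2) := Nat.mul_le_mul (by omega) h4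
      omega
    interval_cases n
    · obtain rfl : k = 7 := by omega
      revert h1; decide
    · omega
    · omega
    · omega
    · obtain rfl : k = 1 := by omega
      revert h1; decide
  · obtain ⟨m, hm, hF, hk, -⟩ := h
    have hm5 : m < 6 := by
      by_contra hcon
      have h3 : 6 * 5 ≤ m * (m - 1) := Nat.mul_le_mul (by omega) (by omega)
      have h5 : k ≠ 0 := by rintro rfl; omega
      have h6 : 1 * 30 ≤ k * (m * (m - 1)) := Nat.mul_le_mul (by omega) h3
      omega
    interval_cases m <;> omega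
  · obtain ⟨m, s, t, hm, hF, hk, -⟩ := h
    have hm5 : m < 6 := by
      by_contra hcon
      have h3 : 6 * 5 ≤ m * (m - 1) := Nat.mul_le_mul (by omega) (by omega)
      have h5 : k ≠ 0 := by rintro rfl; omega
      have h6 : 1 * 30 ≤ k * (m * (m - 1)) := Nat.mul_le_mul (by omega) h3
      omega
    interval_cases m <;> omega

theorem spor21 : ∀ x ∈ spor, 2 ^ 21 ∣ x.2 → ¬ 2 ^ 22 ∣ x.2 →
    x = (.j4, 86775571046077562880) ∨ x = (.co1, 4157776806543360000) ∨
      x = (.fi24, 1255205709190661721292800) := by decide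

theorem noEx21 : NoEx 21 := ⟨by norm_num, by norm_num, by norm_num, by norm_num⟩

/-- The groups. -/
theorem Big.final (B : Big V f) (T : OrderTable.{u}) (hG : IsKnownSimple' G) :
    Spor.IsoJ4 G ∨ Spor.IsoCo1 G ∨ (IsSimpleGroup G ∧ Nat.card G = 1255205709190661721292800) := by
  rcases cases T hG B.na noEx21 B.dvd21 B.sylow with
    ⟨n, hn, ⟨e⟩⟩ | h | ⟨d, hd, h⟩ | h | ⟨x, hx, -, hr, hc⟩
  · exact (B.no_alt hn e).elim
  · exact (B.no_oddCl h).elim
  · exact (B.no_oddEx hd h).elim
  · exact (B.no_evenCl h).elim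
  · rcases spor21 x hx (hc ▸ B.dvd21) (hc ▸ B.sylow) with rfl | rfl | rfl
    · exact Or.inl hr
    · exact Or.inr (Or.inl hr)
    · exact Or.inr (Or.inr ⟨B.simple, hc⟩)

end Cfsg.Agent.H338.Big24
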