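import Cfsg.Agent.H338.FiveA

/-!
# The configuration of S3568 with `|Q₁| = 64` (D64): the Sylow 3-subgroup `R` of `A ∩ B`
-/

set_option autoImplicit false
set_option linter.unusedSectionVars false

open Pointwise

namespace Cfsg.Agent.H338.Five

open Cfsg.Agent.H399 Cfsg.Agent.H209.Five

variable {G : Type*} [Group G]

theorem zp3 {k : G} (h : k * k * k = 1) (n : ℤ) : k ^ n = 1 ∨ k ^ n = k ∨ k ^ n = k⁻¹ := by
  have h3 : k ^ (3 : ℤ) = 1 := by
    have : (3 : ℤ) = ((3 : ℕ) : ℤ) := rfl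
    rw [this, zpow_natCast, pow_succ, pow_two]
    exact h
  have h4 : k ^ n = k ^ (n % 3) := by
    conv_lhs => rw [← Int.emod_add_mul_ediv n 3]
    rw [zpow_add, zpow_mul, h3, one_zpow, mul_one]
  have h5 : n % 3 = 0 ∨ n % 3 = 1 ∨ n % 3 = 2 := by omega
  rw [h4]
  rcases h5 with h5 | h5 | h5
  · left
    rw [h5, zpow_zero]
  · right
    left
    rw [h5, zpow_one]
  · right
    right
    rw [h5]
    have : (2 : ℤ) = 3 - 1 := rfl
    rw [this, zpow_sub, h3, zpow_one, one_mul]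

section

variable [Finite G] {D R R' N : Subgroup G}

theorem exists_nine (h : 9 ∣ Nat.card D) : ∃ R ≤ D, Nat.card R = 9 := by
  have : Fact (Nat.Prime 3) := ⟨Nat.prime_three⟩
  obtain ⟨K, hK⟩ := Sylow.exists_subgroup_card_pow_prime (G := D) 3 (n := 2) (by norm_num; exact h)
  refine ⟨K.map D.subtype, Subgroup.map_subtype_le _, ?_⟩
  rw [Subgroup.card_map_of_injective D.subtype_injective, hK]
  norm_num

theorem nine_conj (h27 : ¬ 27 ∣ Nat.card D) (hR : R ≤ D) (hR' : R' ≤ D) (cR : Nat.card R = 9) (cR' : Nat.card R' = 9) :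
    ∃ d ∈ D, cj d R' = R := by
  have : Fact (Nat.Prime 3) := ⟨Nat.prime_three⟩
  have key : ∀ P : Subgroup G, P ≤ D → Nat.card P = 9 → IsPGroup 3 (P.subgroupOf D) ∧ ¬ 3 ∣ (P.subgroupOf D).index := by
    intro P hP cP
    have h1 : IsPGroup 3 P := IsPGroup.of_card (n := 2) (by rw [cP]; norm_num)
    refine ⟨h1.comap_of_injective _ D.subtype_injective, ?_⟩
    intro h2
    apply h27
    have h3 := card_mul_relIndex hP
    rw [← h3, cP]
    obtain ⟨k, hk⟩ := h2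
    have hk' : P.relIndex D = 3 * k := hk
    rw [hk']
    exact ⟨k, by ring⟩
  obtain ⟨a1, a2⟩ := key R hR cR
  obtain ⟨b1, b2⟩ := key R' hR' cR'
  obtain ⟨d, hd⟩ := MulAction.exists_smul_eq D (b1.toSylow b2) (a1.toSylow a2)
  refine ⟨d, d.2, ?_⟩
  have h4 := congrArg (fun P : Sylow 3 D => (P : Subgroup D)) hd
  simp only [Sylow.coe_subgroup_smul, IsPGroup.toSylow_coe] at h4
  ext x
  rw [mem_cj]
  constructor
  · intro hx
    have hxD : x ∈ D := by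
      have := D.mul_mem (D.mul_mem d.2 (hR' hx)) (D.inv_mem d.2)
      have e : (d : G) * ((d : G)⁻¹ * x * d) * (d : G)⁻¹ = x := by group
      rwa [e] at this
    have h5 : (⟨x, hxD⟩ : D) ∈ MulAut.conj d • (R'.subgroupOf D) := by
      rw [Subgroup.mem_pointwise_smul_iff_inv_smul_mem, ← map_inv, MulAut.smul_def, MulAut.conj_apply, inv_inv,
        Subgroup.mem_subgroupOf]
      exact hx
    rw [h4] at h5
    exact h5
  · intro hx
    have h5 : (⟨x, hR hx⟩ : D) ∈ R.subgroupOf D := hx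
    rw [← h4] at h5
    rw [Subgroup.mem_pointwise_smul_iff_inv_smul_mem, ← map_inv, MulAut.smul_def, MulAut.conj_apply, inv_inv,
      Subgroup.mem_subgroupOf] at h5
    exact h5

theorem nine_inf (h27 : ¬ 27 ∣ Nat.card D) (hR : R ≤ D) (cR : Nat.card R = 9) (hN : N ≤ D) (hn : D ≤ Nm N)
    (h3 : 3 ∣ Nat.card N) : ∃ r ∈ R, r ∈ N ∧ r ≠ 1 ∧ r * r * r = 1 := by
  have h1 := card_sup (hR.trans hn)
  have h2 : 3 ∣ Nat.card ↥(R ⊓ N) := by
    by_contra h4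
    have h5 : Nat.Coprime 27 (Nat.card ↥(R ⊓ N)) := by
      have : Nat.Coprime 3 (Nat.card ↥(R ⊓ N)) := (Nat.Prime.coprime_iff_not_dvd Nat.prime_three).2 h4
      have e : 27 = 3 ^ 3 := by norm_num
      rw [e]
      exact Nat.Coprime.pow_left 3 this
    have h6 : 27 ∣ Nat.card ↥(R ⊔ N) * Nat.card ↥(R ⊓ N) := by
      rw [h1, cR]
      obtain ⟨k, hk⟩ := h3
      rw [hk]
      exact ⟨k, by ring⟩
    have h7 := h5.dvd_of_dvd_mul_right h6
    exact h27 (h7.trans (Subgroup.card_dvd_of_le (sup_le hR hN)))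
  obtain ⟨r, hr, hr1, hr3⟩ := cauchy3 h2
  exact ⟨r, hr.1, hr.2, hr1, hr3⟩

theorem nine_comm (cR : Nat.card R = 9) : ∀ x ∈ R, ∀ y ∈ R, x * y = y * x := by
  have : Fact (Nat.Prime 3) := ⟨Nat.prime_three⟩
  have h1 := IsPGroup.isMulCommutative_of_card_eq_prime_sq (p := 3) (G := R) (by rw [cR]; norm_num)
  intro x hx y hy
  have := h1.is_comm.comm ⟨x, hx⟩ ⟨y, hy⟩
  exact congrArg Subtype.val this

end

section

variable {A B : Subgroup G} {g d : G} {m : ℕ}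

theorem change (h : Nat5 A B g m) (hd : d ∈ A ⊓ B) : Nat5 A B (d * g) m :=
  { h with
    gA := by
      rw [cj_mul, h.gA]
      exact cj_of_mem hd.2
    gD := by
      rw [cj_mul, h.gD]
      exact cj_of_mem hd
    gB := by
      rw [cj_mul, h.gB]
      exact cj_of_mem hd.1
    gQ := by
      rw [cj_mul, h.gQ]
      exact cj_of_mem_Nm (le_Nm_Op 2 B hd.2)
    gQ' := by
      rw [cj_mul, h.gQ']
      exact cj_of_mem_Nm (le_Nm_Op 2 A hd.1) }

theorem change' (h : Nat5 B A g⁻¹ m) (hd : d ∈ A ⊓ B) : Nat5 B A (d * g)⁻¹ m := by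
  have hd' : d⁻¹ ∈ A ⊓ B := inv_mem hd
  rw [mul_inv_rev]
  exact { h with
    gA := by
      rw [cj_mul, cj_of_mem hd'.2]
      exact h.gA
    gD := by
      rw [cj_mul, cj_of_mem (x := d⁻¹) (X := B ⊓ A) ⟨hd'.2, hd'.1⟩]
      exact h.gD
    gB := by
      rw [cj_mul, cj_of_mem hd'.1]
      exact h.gB
    gQ := by
      rw [cj_mul, cj_of_mem_Nm (le_Nm_Op 2 B hd'.2)]
      exact h.gQ
    gQ' := by
      rw [cj_mul, cj_of_mem_Nm (le_Nm_Op 2 A hd'.1)]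
      exact h.gQ' }

/-- the normalised situation: `g` normalises the Sylow 3-subgroup `R` of `A ∩ B`, and `k` is in `R ∩ K₁` -/
structure RR (A B R : Subgroup G) (g k : G) : Prop where
  h : Nat5 A B g 16
  h' : Nat5 B A g⁻¹ 16
  le : R ≤ A ⊓ B
  card : Nat.card R = 9
  gR : cj g R = R
  kR : k ∈ R
  kK : k ∈ core A (A ⊓ B)
  k1 : k ≠ 1
  k3 : k * k * k = 1

variable [Finite G]

theorem not27 (h : Nat5 A B g 16) (h' : Nat5 B A g⁻¹ 16) : ¬ 27 ∣ Nat.card ↥(A ⊓ B) := by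
  rcases cardA' h h' with h1 | h1
  · rw [h1.2]
    norm_num
  · rw [h1.2]
    norm_num

theorem exists_RR (h : Nat5 A B g 16) (h' : Nat5 B A g⁻¹ 16) : ∃ g' R k, RR A B R g' k := by
  obtain ⟨R, hR, cR⟩ := exists_nine (D := A ⊓ B) (by
    rcases cardA' h h' with h1 | h1
    · rw [h1.2]
      norm_num
    · rw [h1.2]
      norm_num)
  have hR' : cj g R ≤ A ⊓ B := by
    rw [← h.gD, cj_le_cj]
    exact hR
  obtain ⟨d, hd, hd1⟩ := nine_conj (not27 h h') hR hR' cR (by rw [card_cj]; exact cR)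
  obtain ⟨k, hkR, hkK, hk1, hk3⟩ := nine_inf (N := core A (A ⊓ B)) (not27 h h') hR cR (core_le A _)
    (inf_le_left.trans (le_Nm_core A _)) (by rw [cardK h h']; norm_num)
  refine ⟨d * g, R, k, change h hd, change' h' hd, hR, cR, ?_, hkR, hkK, hk1, hk3⟩
  rw [cj_mul]
  exact hd1

end

section

variable [Finite G] {A B R : Subgroup G} {g k : G}

theorem RR.comm (r : RR A B R g k) : ∀ x ∈ R, ∀ y ∈ R, x * y = y * x := nine_comm r.card

theorem RR.cj_K (r : RR A B R g k) : cj g (core A (A ⊓ B)) = core B (B ⊓ A) := by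
  rw [cj_core, r.h.gA, r.h.gD, inf_comm]

theorem RR.cj_K' (r : RR A B R g k) : cj g (core B (B ⊓ A)) = core A (A ⊓ B) := by
  rw [cj_core, r.h.gB, inf_comm B A, r.h.gD]

theorem RR.cj_L (r : RR A B R g k) : cj g (LL A B) = LL B A := by
  rw [LL, cj_ncl, r.h.gA, cj_Op, r.h.gD, LL, inf_comm]

theorem RR.cj_L' (r : RR A B R g k) : cj g (LL B A) = LL A B := by
  rw [LL, cj_ncl, r.h.gB, cj_Op, inf_comm B A, r.h.gD, LL]

theorem RR.conj_mem (r : RR A B R g k) {x : G} (hx : x ∈ R) : g * x * g⁻¹ ∈ R := by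
  have := (conj_mem_cj (x := g)).2 hx
  rwa [r.gR] at this

/-- `k' = g k g⁻¹` -/
theorem RR.k'R (r : RR A B R g k) : g * k * g⁻¹ ∈ R := r.conj_mem r.kR

theorem RR.k'K (r : RR A B R g k) : g * k * g⁻¹ ∈ core B (B ⊓ A) := by
  have := (conj_mem_cj (x := g)).2 r.kK
  rwa [r.cj_K] at this

theorem RR.k'1 (r : RR A B R g k) : g * k * g⁻¹ ≠ 1 := by
  intro h
  apply r.k1
  rwa [mul_inv_eq_one, mul_eq_left] at h

theorem conj3 {x g : G} (h : x * x * x = 1) : g * x * g⁻¹ * (g * x * g⁻¹) * (g * x * g⁻¹) = 1 := by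
  have : g * x * g⁻¹ * (g * x * g⁻¹) * (g * x * g⁻¹) = g * (x * x * x) * g⁻¹ := by group
  rw [this, h, mul_one, mul_inv_cancel]

theorem RR.k'3 (r : RR A B R g k) : g * k * g⁻¹ * (g * k * g⁻¹) * (g * k * g⁻¹) = 1 := conj3 r.k3

theorem Q_inf_R {Q R : Subgroup G} (cQ : Nat.card Q = 64) (cR : Nat.card R = 9) : Q ⊓ R = ⊥ := by
  apply Disjoint.eq_bot
  apply Subgroup.disjoint_of_coprime_natCard
  rw [cQ, cR]
  norm_num

/-- `K₁ = Q₁⟨k⟩` -/
theorem K_eq {A B : Subgroup G} {g k : G} (h : Nat5 A B g 16) (h' : Nat5 B A g⁻¹ 16) (hk : k ∈ core A (A ⊓ B))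
    (k1 : k ≠ 1) (k3 : k * k * k = 1) : core A (A ⊓ B) = Op 2 A ⊔ Subgroup.zpowers k := by
  symm
  have h1 : Op 2 A ⊔ Subgroup.zpowers k ≤ core A (A ⊓ B) := sup_le h.QK ((Subgroup.zpowers_le).2 hk)
  apply Subgroup.eq_of_le_of_card_ge h1
  rw [cardK h h']
  have h2 := card_mul_relIndex (le_sup_left : Op 2 A ≤ Op 2 A ⊔ Subgroup.zpowers k)
  have h3 := Subgroup.relIndex_mul_relIndex _ _ _ (le_sup_left : Op 2 A ≤ Op 2 A ⊔ Subgroup.zpowers k) h1
  rw [QK_three h h'] at h3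
  have h4 : (Op 2 A).relIndex (Op 2 A ⊔ Subgroup.zpowers k) ≠ 1 := by
    intro h5
    rw [Subgroup.relIndex_eq_one] at h5
    exact k1 (not_two h.pair.ea₁ k3 (h5 (Subgroup.mem_sup_right (Subgroup.mem_zpowers k))))
  have h5 : (Op 2 A).relIndex (Op 2 A ⊔ Subgroup.zpowers k) ∣ 3 := ⟨_, h3.symm⟩
  have h6 := (Nat.dvd_prime Nat.prime_three).1 h5
  rcases h6 with h6 | h6
  · exact absurd h6 h4
  · rw [h6, cardQ h] at h2
    omega

theorem K_decomp {A B : Subgroup G} {g k : G} (h : Nat5 A B g 16) (h' : Nat5 B A g⁻¹ 16) (hk : k ∈ core A (A ⊓ B))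
    (k1 : k ≠ 1) (k3 : k * k * k = 1) {x : G} (hx : x ∈ core A (A ⊓ B)) : ∃ q ∈ Op 2 A, ∃ n : ℤ, x = q * k ^ n := by
  rw [K_eq h h' hk k1 k3, sup_comm] at hx
  have h1 : Subgroup.zpowers k ≤ Nm (Op 2 A) := by
    rw [Subgroup.zpowers_le]
    exact le_Nm_Op 2 A ((core_le _ _) hk).1
  obtain ⟨y, hy, z, hz, rfl⟩ := (mul_mem_sup_iff h1).1 hx
  obtain ⟨n, rfl⟩ := Subgroup.mem_zpowers_iff.1 hy
  refine ⟨k ^ n * z * (k ^ n)⁻¹, le_Nm.1 h1 _ hy _ hz, n, by group⟩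

/-- `R ∩ K₁ = {1, k, k⁻¹}` -/
theorem RK {A B : Subgroup G} {g k : G} (h : Nat5 A B g 16) (h' : Nat5 B A g⁻¹ 16) {R : Subgroup G} (cR : Nat.card R = 9)
    (hkR : k ∈ R) (hk : k ∈ core A (A ⊓ B)) (k1 : k ≠ 1) (k3 : k * k * k = 1) {x : G} (hx : x ∈ core A (A ⊓ B))
    (hxR : x ∈ R) : x = 1 ∨ x = k ∨ x = k⁻¹ := by
  obtain ⟨q, hq, n, rfl⟩ := K_decomp h h' hk k1 k3 hx
  have h1 : q ∈ Op 2 A ⊓ R := by
    refine ⟨hq, ?_⟩
    rwa [R.mul_mem_cancel_right (R.zpow_mem hkR n)] at hxR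
  rw [Q_inf_R (cardQ h) cR, Subgroup.mem_bot] at h1
  rw [h1, one_mul]
  exact zp3 k3 n

/-- `R = ⟨k⟩⟨k'⟩` -/
theorem RR.decomp (r : RR A B R g k) {x : G} (hx : x ∈ R) :
    ∃ a b : ℤ, x = k ^ a * (g * k * g⁻¹) ^ b := by
  have h1 : Subgroup.zpowers k ≤ R := (Subgroup.zpowers_le).2 r.kR
  have h2 : Subgroup.zpowers (g * k * g⁻¹) ≤ R := (Subgroup.zpowers_le).2 r.k'R
  have h3 : Subgroup.zpowers k ≤ Nm (Subgroup.zpowers (g * k * g⁻¹)) := by
    rw [le_Nm]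
    intro y hy z hz
    rw [r.comm y (h1 hy) z (h2 hz), mul_inv_cancel_right]
    exact hz
  have c : ∀ y : G, y ≠ 1 → y * y * y = 1 → Nat.card (Subgroup.zpowers y) = 3 := by
    intro y y1 y3
    rw [Nat.card_zpowers]
    have : Fact (Nat.Prime 3) := ⟨Nat.prime_three⟩
    exact orderOf_eq_prime (by rw [pow_succ, pow_two]; exact y3) y1
  have h4 : Subgroup.zpowers k ⊓ Subgroup.zpowers (g * k * g⁻¹) = ⊥ := by
    rw [eq_bot_iff]
    intro y hy
    rw [Subgroup.mem_bot]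
    have hy1 : y ∈ core A (A ⊓ B) := (Subgroup.zpowers_le.2 r.kK) hy.1
    have hy2 : y ∈ core B (B ⊓ A) := (Subgroup.zpowers_le.2 r.k'K) hy.2
    apply no_KK r.h hy1 hy2
    obtain ⟨n, rfl⟩ := Subgroup.mem_zpowers_iff.1 hy.1
    rcases zp3 r.k3 n with h | h | h
    · rw [h, one_mul, one_mul]
    · rw [h, r.k3]
    · rw [h, ← mul_inv_rev, ← mul_inv_rev, ← mul_assoc, r.k3, inv_one]
  have h5 := card_sup h3
  rw [h4, Subgroup.card_bot, mul_one, c _ r.k1 r.k3, c _ r.k'1 r.k'3] at h5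
  have h6 : Subgroup.zpowers k ⊔ Subgroup.zpowers (g * k * g⁻¹) = R :=
    Subgroup.eq_of_le_of_card_ge (sup_le h1 h2) (by rw [h5, r.card])
  rw [← h6] at hx
  obtain ⟨y, hy, z, hz, rfl⟩ := (mul_mem_sup_iff h3).1 hx
  obtain ⟨a, rfl⟩ := Subgroup.mem_zpowers_iff.1 hy
  obtain ⟨b, rfl⟩ := Subgroup.mem_zpowers_iff.1 hz
  exact ⟨a, b, rfl⟩

/-- an element of order 3 in `R ∩ L₁` -/
theorem RR.exists_d1 (r : RR A B R g k) : ∃ d ∈ R, d ∈ LL A B ∧ d ≠ 1 ∧ d * d * d = 1 := by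
  obtain ⟨d, hd, hd1, hd2, hd3⟩ := nine_inf (N := LL A B ⊓ (A ⊓ B)) (not27 r.h r.h') r.le r.card inf_le_right
    (inf_le_Nm (inf_le_left.trans (A_le_NmL A B)) (self_le_Nm _)) (by rw [cardLD r.h]; norm_num)
  exact ⟨d, hd, hd1.1, hd2, hd3⟩

theorem RR.exists_d2 (r : RR A B R g k) : ∃ d ∈ R, d ∈ LL B A ∧ d ≠ 1 ∧ d * d * d = 1 := by
  obtain ⟨d, hd, hd1, hd2, hd3⟩ := r.exists_d1
  refine ⟨g * d * g⁻¹, r.conj_mem hd, ?_, ?_, conj3 hd3⟩
  · have := (conj_mem_cj (x := g)).2 hd1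
    rwa [r.cj_L] at this
  · intro h
    apply hd2
    rwa [mul_inv_eq_one, mul_eq_left] at h

/-- `g²` inverts `k` -/
theorem RR.inv_k (r : RR A B R g k) : g * (g * k * g⁻¹) * g⁻¹ = k⁻¹ := by
  have h1 : g * (g * k * g⁻¹) * g⁻¹ ∈ core A (A ⊓ B) := by
    have := (conj_mem_cj (x := g)).2 r.k'K
    rwa [r.cj_K'] at this
  rcases RK r.h r.h' r.card r.kR r.kK r.k1 r.k3 h1 (r.conj_mem r.k'R) with h2 | h2 | h2
  · exfalso
    apply r.k'1
    rwa [mul_inv_eq_one, mul_eq_left] at h2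
  · exfalso
    obtain ⟨d, hd, hd1, hd2, hd3⟩ := r.exists_d1
    apply hd2
    obtain ⟨a, b, e⟩ := r.decomp hd
    have hgL : g * d * g⁻¹ ∈ LL B A := by
      have := (conj_mem_cj (x := g)).2 hd1
      rwa [r.cj_L] at this
    have hgd : g * d * g⁻¹ = (g * k * g⁻¹) ^ a * k ^ b := by
      rw [e]
      have : g * (k ^ a * (g * k * g⁻¹) ^ b) * g⁻¹ = (g * k ^ a * g⁻¹) * (g * (g * k * g⁻¹) ^ b * g⁻¹) := by group
      rw [this, ← conj_zpow, ← conj_zpow, h2]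
    set k' := g * k * g⁻¹ with hk'
    have hc : k * k' = k' * k := r.comm k r.kR k' r.k'R
    have hci : k⁻¹ * k' = k' * k⁻¹ := r.comm _ (R.inv_mem r.kR) k' r.k'R
    have hcj : k * k'⁻¹ = k'⁻¹ * k := r.comm k r.kR _ (R.inv_mem r.k'R)
    have hcij : k⁻¹ * k'⁻¹ = k'⁻¹ * k⁻¹ := r.comm _ (R.inv_mem r.kR) _ (R.inv_mem r.k'R)
    by_cases ha : k ^ a = 1
    · -- `d ∈ K₂ ∩ L₁`
      have h3 : d ∈ core B (B ⊓ A) := by
        rw [e, ha, one_mul]
        exact zpow_mem r.k'K b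
      exact no_KL r.h' (ii r.h) h3 hd1 hd3
    by_cases hb : k' ^ b = 1
    · have h3 : d ∈ core A (A ⊓ B) := by
        rw [e, hb, mul_one]
        exact zpow_mem r.kK a
      exact no_KL' r.h h3 hd1 hd3
    have e1 : g * d * g⁻¹ = d ∨ g * d * g⁻¹ = d⁻¹ := by
      have hka := (zp3 r.k3 a).resolve_left ha
      have hkb := (zp3 r.k'3 b).resolve_left hb
      have tr : ∀ n : ℤ, k ^ n = k → k' ^ n = k' := by
        intro n hn
        rw [hk', conj_zpow, hn]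
      have tr' : ∀ n : ℤ, k ^ n = k⁻¹ → k' ^ n = k'⁻¹ := by
        intro n hn
        rw [hk', conj_zpow, hn]
        group
      have rt : ∀ n : ℤ, k' ^ n = k' → k ^ n = k := by
        intro n hn
        rw [hk', conj_zpow] at hn
        exact mul_left_cancel (mul_right_cancel hn)
      have rt' : ∀ n : ℤ, k' ^ n = k'⁻¹ → k ^ n = k⁻¹ := by
        intro n hn
        rw [hk', conj_zpow] at hn
        have : (g * k * g⁻¹)⁻¹ = g * k⁻¹ * g⁻¹ := by group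
        rw [this] at hn
        exact mul_left_cancel (mul_right_cancel hn)
      rw [hgd, e]
      rcases hka with hka | hka <;> rcases hkb with hkb | hkb
      · left
        rw [hka, hkb, tr a hka, rt b hkb, hc]
      · right
        rw [hka, hkb, tr a hka, rt' b hkb, mul_inv_rev k k'⁻¹, inv_inv]
      · right
        rw [hka, hkb, tr' a hka, rt b hkb, mul_inv_rev k⁻¹ k', inv_inv]
      · left
        rw [hka, hkb, tr' a hka, rt' b hkb, hcij]
    have h4 : d ∈ LL B A := by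
      rcases e1 with h5 | h5
      · rwa [h5] at hgL
      · rw [h5] at hgL
        exact inv_mem_iff.1 hgL
    exact no_LL r.h r.h' hd1 h4 hd3
  · exact h2

/-- `s = g²` inverts `R` -/
theorem RR.inv_R (r : RR A B R g k) {x : G} (hx : x ∈ R) : g * g * x * (g * g)⁻¹ = x⁻¹ := by
  obtain ⟨a, b, rfl⟩ := r.decomp hx
  set k' := g * k * g⁻¹ with hk'
  have e1 : g * g * k * (g * g)⁻¹ = k⁻¹ := by
    rw [← r.inv_k]
    group
  have e2 : g * g * k' * (g * g)⁻¹ = k'⁻¹ := by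
    have : g * g * k' * (g * g)⁻¹ = g * (g * g * k * (g * g)⁻¹) * g⁻¹ := by
      rw [hk']
      group
    rw [this, e1, hk']
    group
  have e3 : g * g * (k ^ a * k' ^ b) * (g * g)⁻¹ = (g * g * k ^ a * (g * g)⁻¹) * (g * g * k' ^ b * (g * g)⁻¹) := by group
  rw [e3, ← conj_zpow, ← conj_zpow, e1, e2, mul_inv_rev (k ^ a) (k' ^ b), inv_zpow k, inv_zpow k']
  exact r.comm _ (R.inv_mem (R.zpow_mem r.kR a)) _ (R.inv_mem (R.zpow_mem r.k'R b))

end

end Cfsg.Agent.H338.Five
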