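import Cfsg.Agent.H338.L5MkSw

/-!
# Block computations (helper338)
-/

set_option autoImplicit false

namespace Cfsg.Agent.H338.L5

open Matrix

abbrev M5 := Matrix (Fin 5) (Fin 5) (ZMod 2)

def rB (g : M5) : M4 := Matrix.of fun i j => g i.castSucc j.castSucc
def pB (g : M5) : V4 := fun i => g i.castSucc (Fin.last 4)

theorem rB_apply (g : M5) (i j : Fin 4) : rB g i j = g i.castSucc j.castSucc := rfl
theorem pB_apply (g : M5) (i : Fin 4) : pB g i = g i.castSucc (Fin.last 4) := rfl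

/-- Last row condition. -/
def LR (g : M5) : Prop := (∀ j : Fin 4, g (Fin.last 4) j.castSucc = 0) ∧
  g (Fin.last 4) (Fin.last 4) = 1

theorem rB_mul {g h : M5} (hh : LR h) : rB (g * h) = rB g * rB h := by
  ext i j
  rw [rB_apply, Matrix.mul_apply, Fin.sum_univ_castSucc, hh.1, mul_zero, add_zero, Matrix.mul_apply]
  rfl

theorem pB_mul {g h : M5} (hh : LR h) : pB (g * h) = rB g *ᵥ pB h + pB g := by
  funext i
  rw [pB_apply, Matrix.mul_apply, Fin.sum_univ_castSucc, hh.2, mul_one]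
  rfl

theorem LR_mul {g h : M5} (hg : LR g) (hh : LR h) : LR (g * h) := by
  constructor
  · intro j
    rw [Matrix.mul_apply, Fin.sum_univ_castSucc, hh.1, mul_zero, add_zero]
    apply Finset.sum_eq_zero
    intro l _
    rw [hg.1, zero_mul]
  · rw [Matrix.mul_apply, Fin.sum_univ_castSucc, hh.2, hg.2, mul_one]
    rw [Finset.sum_eq_zero, zero_add]
    intro l _
    rw [hg.1, zero_mul]

theorem alt_last {ψ : M5} (hψ : ψ ∈ Alt) : ψ (Fin.last 4) (Fin.last 4) = 0 := hψ.2 _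

theorem pB_conj {s ψ : M5} (hs : LR s) (hψ : ψ ∈ Alt) : pB (s * ψ * sᵀ) = rB s *ᵥ pB ψ := by
  funext i
  rw [pB_apply, Matrix.mul_apply, Fin.sum_univ_castSucc]
  have h1 : ∀ m : Fin 4, (s * ψ) i.castSucc m.castSucc * sᵀ m.castSucc (Fin.last 4) = 0 := by
    intro m
    rw [Matrix.transpose_apply, hs.1, mul_zero]
  rw [Finset.sum_eq_zero (fun m _ => h1 m), zero_add, Matrix.transpose_apply, hs.2, mul_one,
    Matrix.mul_apply, Fin.sum_univ_castSucc, alt_last hψ, mul_zero, add_zero]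
  rfl

theorem rB_conj {s ψ : M5} (hψ : ψ ∈ Alt) :
    rB (s * ψ * sᵀ) = rB s * rB ψ * (rB s)ᵀ + om (pB s) (rB s *ᵥ pB ψ) := by
  ext i j
  have e1 : ∀ m : Fin 4, (s * ψ) i.castSucc m.castSucc = (rB s * rB ψ) i m + pB s i * pB ψ m := by
    intro m
    rw [Matrix.mul_apply, Fin.sum_univ_castSucc, Matrix.mul_apply, pB_apply, pB_apply,
      hψ.1 (Fin.last 4)]
    rfl
  have e2 : (s * ψ) i.castSucc (Fin.last 4) = (rB s *ᵥ pB ψ) i := by
    rw [Matrix.mul_apply, Fin.sum_univ_castSucc, alt_last hψ, mul_zero, add_zero]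
    rfl
  rw [rB_apply, Matrix.mul_apply, Fin.sum_univ_castSucc, e2]
  simp only [e1, Matrix.transpose_apply, add_mul, Finset.sum_add_distrib]
  rw [Matrix.add_apply, Matrix.mul_apply]
  have e3 : om (pB s) (rB s *ᵥ pB ψ) i j =
      pB s i * (rB s *ᵥ pB ψ) j + pB s j * (rB s *ᵥ pB ψ) i := rfl
  rw [e3, add_assoc]
  congr 1
  rw [mul_comm (pB s j)]
  congr 1
  rw [Matrix.mulVec, dotProduct, Finset.mul_sum]
  apply Finset.sum_congr rfl
  intro m _
  rw [mul_assoc, mul_comm (pB ψ m)]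
  rfl

theorem rB_alt {ψ : M5} (hψ : ψ ∈ Alt) : ∃ a b c d e f, rB ψ = ALm a b c d e f := by
  refine ⟨rB ψ 0 1, rB ψ 0 2, rB ψ 0 3, rB ψ 1 2, rB ψ 1 3, rB ψ 2 3, ?_⟩
  have h0 : ∀ i j, rB ψ i j = rB ψ j i := fun i j => hψ.1 _ _
  have h1 : ∀ i, rB ψ i i = 0 := fun i => hψ.2 _
  ext i j
  fin_cases i <;> fin_cases j <;> first | exact h1 _ | rfl | exact h0 _ _

theorem eq_of_blocks {ψ ψ' : M5} (hψ : ψ ∈ Alt) (hψ' : ψ' ∈ Alt) (h1 : rB ψ = rB ψ')
    (h2 : pB ψ = pB ψ') : ψ = ψ' := by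
  ext i j
  induction i using Fin.lastCases with
  | last =>
    induction j using Fin.lastCases with
    | last => rw [hψ.2, hψ'.2]
    | cast j => rw [hψ.1, hψ'.1]; exact congrFun h2 j
  | cast i =>
    induction j using Fin.lastCases with
    | last => exact congrFun h2 i
    | cast j => exact congrFun (congrFun h1 i) j

/-- Upper unitriangular matrices. -/
def UT5 (a b c d e f u0 u1 u2 u3 : ZMod 2) : M5 :=
  !![1, a, b, c, u0; 0, 1, d, e, u1; 0, 0, 1, f, u2; 0, 0, 0, 1, u3; 0, 0, 0, 0, 1]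

theorem rB_UT5 (a b c d e f u0 u1 u2 u3 : ZMod 2) :
    rB (UT5 a b c d e f u0 u1 u2 u3) = UTm a b c d e f := by
  ext i j
  fin_cases i <;> fin_cases j <;> rfl

theorem pB_UT5 (a b c d e f u0 u1 u2 u3 : ZMod 2) :
    pB (UT5 a b c d e f u0 u1 u2 u3) = ![u0, u1, u2, u3] := by
  funext i
  fin_cases i <;> rfl

theorem exists_UT5 (a b c d e f u0 u1 u2 u3 : ZMod 2) :
    ∃ g : X, g.1 = UT5 a b c d e f u0 u1 u2 u3 ∧ g ∈ U up := by
  have hdet : (UT5 a b c d e f u0 u1 u2 u3).det = 1 := by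
    rw [Matrix.det_of_isUpperTriangular]
    · rw [Fin.prod_univ_five]
      simp [UT5]
    · intro i j hij
      fin_cases i <;> fin_cases j <;> first | rfl | exact absurd hij (by decide)
  let g : X := ⟨_, hdet⟩
  refine ⟨g, rfl, ?_⟩
  rw [mem_U]
  intro i j hij
  show UT5 a b c d e f u0 u1 u2 u3 i j = _
  fin_cases i <;> fin_cases j <;> first | rfl | exact absurd (by decide) hij

theorem U_form {g : X} (hg : g ∈ U up) : ∃ a b c d e f u0 u1 u2 u3,
    g.1 = UT5 a b c d e f u0 u1 u2 u3 := by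
  rw [mem_U] at hg
  refine ⟨g.1 0 1, g.1 0 2, g.1 0 3, g.1 1 2, g.1 1 3, g.1 2 3, g.1 0 4, g.1 1 4, g.1 2 4,
    g.1 3 4, ?_⟩
  ext i j
  by_cases hij : up j < up i
  · fin_cases i <;> fin_cases j <;> first | rfl | exact absurd hij (by decide)
  · rw [hg i j hij]
    fin_cases i <;> fin_cases j <;> first | rfl | exact absurd (by decide) hij

theorem LR_U {g : X} (hg : g ∈ U up) : LR g.1 := by
  obtain ⟨a, b, c, d, e, f, u0, u1, u2, u3, h⟩ := U_form hg
  rw [h]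
  constructor
  · intro j; fin_cases j <;> rfl
  · rfl

theorem rB_U {g : X} (hg : g ∈ U up) : ∃ a b c d e f, rB g.1 = UTm a b c d e f := by
  obtain ⟨a, b, c, d, e, f, u0, u1, u2, u3, h⟩ := U_form hg
  exact ⟨a, b, c, d, e, f, by rw [h, rB_UT5]⟩

/-- Alternating matrices with given blocks. -/
theorem exists_alt (a b c d e f u0 u1 u2 u3 : ZMod 2) :
    ∃ ψ ∈ Alt, rB ψ = ALm a b c d e f ∧ pB ψ = ![u0, u1, u2, u3] := by
  refine ⟨!![0, a, b, c, u0; a, 0, d, e, u1; b, d, 0, f, u2; c, e, f, 0, u3; u0, u1, u2, u3, 0],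
    ⟨?_, ?_⟩, ?_, ?_⟩
  · intro i j; fin_cases i <;> fin_cases j <;> rfl
  · intro i; fin_cases i <;> rfl
  · ext i j
    fin_cases i <;> fin_cases j <;> rfl
  · funext i
    fin_cases i <;> rfl

theorem vec4 (v : V4) : ![v 0, v 1, v 2, v 3] = v := by
  funext i
  fin_cases i <;> rfl

end Cfsg.Agent.H338.L5
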