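import Cfsg.Agent.H338.L5Ident

/-!
# The Sylow 2-subgroup of `2^10 : L₅(2)` (helper338)
-/

set_option autoImplicit false

namespace Cfsg.Agent.H338.L5

open Matrix

abbrev V4 := Fin 4 → ZMod 2
abbrev M4 := Matrix (Fin 4) (Fin 4) (ZMod 2)

/-- Unitriangular matrices. -/
def UTm (a b c d e f : ZMod 2) : M4 := !![1, a, b, c; 0, 1, d, e; 0, 0, 1, f; 0, 0, 0, 1]

/-- Alternating matrices. -/
def ALm (a b c d e f : ZMod 2) : M4 := !![0, a, b, c; a, 0, d, e; b, d, 0, f; c, e, f, 0]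

def om (u v : V4) : M4 := Matrix.of fun i j => u i * v j + u j * v i

theorem om_self : ∀ u, om u u = 0 := by decide +kernel
theorem om_comm : ∀ u v, om u v = om v u := by decide +kernel
theorem om_zero : ∀ u v, om u v = 0 → u = 0 ∨ v = 0 ∨ u = v := by decide +kernel
theorem om_add (u u' v : V4) : om (u + u') v = om u v + om u' v := by
  ext i j
  show (u i + u' i) * v j + (u j + u' j) * v i = (u i * v j + u j * v i) + (u' i * v j + u' j * v i)
  ring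
theorem om_add' (u v v' : V4) : om u (v + v') = om u v + om u v' := by
  rw [om_comm, om_add, om_comm v, om_comm v']
theorem om_zero_left (v : V4) : om 0 v = 0 := by
  ext i j
  show 0 * v j + 0 * v i = 0
  ring
theorem om_zero_right (v : V4) : om v 0 = 0 := by rw [om_comm, om_zero_left]

theorem v2 (v : V4) : v + v = 0 := by
  funext i; exact CharTwo.add_self_eq_zero _
theorem m2 (v : M4) : v + v = 0 := by
  ext i j; exact CharTwo.add_self_eq_zero _

/-- The data describing a Sylow 2-subgroup of `2^10 : L₅(2)`. -/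
structure Dat {K : Type*} [Group K] (A C J S : Subgroup K) (r : K → M4) (p k : K → V4)
    (c : K → M4) : Prop where
  CA : C ≤ A
  AJ : A ≤ J
  JS : J ≤ S
  nA : ∀ s ∈ S, ∀ a ∈ A, s * a * s⁻¹ ∈ A
  nC : ∀ s ∈ S, ∀ a ∈ C, s * a * s⁻¹ ∈ C
  A2 : ∀ a ∈ A, a * a = 1
  r_mul : ∀ s ∈ S, ∀ t ∈ S, r (s * t) = r s * r t
  r_one : ∀ s ∈ S, r s = 1 ↔ s ∈ J
  r_ut : ∀ s ∈ S, ∃ a b c d e f, r s = UTm a b c d e f
  r_surj : ∀ a b c d e f, ∃ s ∈ S, r s = UTm a b c d e f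
  p_mul : ∀ x ∈ J, ∀ y ∈ J, p (x * y) = p x + p y
  p_zero : ∀ x ∈ J, p x = 0 ↔ x ∈ A
  p_conj : ∀ s ∈ S, ∀ x ∈ J, p (s * x * s⁻¹) = r s *ᵥ p x
  p_surj : ∀ v, ∃ x ∈ J, p x = v
  k_mul : ∀ x ∈ A, ∀ y ∈ A, k (x * y) = k x + k y
  k_zero : ∀ x ∈ A, k x = 0 ↔ x ∈ C
  k_conj : ∀ s ∈ S, ∀ x ∈ A, k (s * x * s⁻¹) = r s *ᵥ k x
  k_surj : ∀ v, ∃ x ∈ A, k x = v
  c_mul : ∀ x ∈ C, ∀ y ∈ C, c (x * y) = c x + c y
  c_zero : ∀ x ∈ C, c x = 0 ↔ x = 1
  c_alt : ∀ x ∈ C, ∃ a b c' d e f, c x = ALm a b c' d e f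
  c_surj : ∀ a b c' d e f, ∃ x ∈ C, c x = ALm a b c' d e f
  c_conj : ∀ s ∈ S, ∀ x ∈ C, c (s * x * s⁻¹) = r s * c x * (r s)ᵀ
  comm : ∀ x ∈ J, ∀ a ∈ A, x * a * x⁻¹ * a⁻¹ ∈ C ∧ c (x * a * x⁻¹ * a⁻¹) = om (p x) (k a)

/-- Layers. -/
theorem lay {K : Type*} [Group K] [Finite K] {V : Type*} [AddCommGroup V] (E : Subgroup K)
    (v : K → V) (hv : ∀ x ∈ E, ∀ y ∈ E, v (x * y) = v x + v y) :
    ∃ (E0 : Subgroup K) (W : AddSubgroup V), (∀ x, x ∈ E0 ↔ x ∈ E ∧ v x = 0) ∧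
      (∀ w, w ∈ W ↔ ∃ x ∈ E, v x = w) ∧ Nat.card E = Nat.card W * Nat.card E0 := by
  have h1 : v 1 = 0 := by
    have := hv 1 E.one_mem 1 E.one_mem
    rw [mul_one] at this
    exact left_eq_add.1 this
  let h : E →* Multiplicative V :=
    { toFun := fun x => Multiplicative.ofAdd (v x)
      map_one' := by
        show Multiplicative.ofAdd (v 1) = 1
        rw [h1]; rfl
      map_mul' := fun x y => by
        show Multiplicative.ofAdd (v (x * y)) = _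
        rw [hv _ x.2 _ y.2]; rfl }
  have hinv : ∀ x ∈ E, v x⁻¹ = - v x := by
    intro x hx
    have := hv x⁻¹ (E.inv_mem hx) x hx
    rw [inv_mul_cancel, h1] at this
    exact eq_neg_of_add_eq_zero_left this.symm
  let W : AddSubgroup V :=
    { carrier := {w | ∃ x ∈ E, v x = w}
      zero_mem' := ⟨1, E.one_mem, h1⟩
      add_mem' := by
        rintro _ _ ⟨x, hx, rfl⟩ ⟨y, hy, rfl⟩
        exact ⟨x * y, E.mul_mem hx hy, hv x hx y hy⟩
      neg_mem' := by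
        rintro _ ⟨x, hx, rfl⟩
        exact ⟨x⁻¹, E.inv_mem hx, hinv x hx⟩ }
  refine ⟨h.ker.map E.subtype, W, ?_, fun w => Iff.rfl, ?_⟩
  · intro x
    constructor
    · rintro ⟨y, hy, rfl⟩
      exact ⟨y.2, Multiplicative.ofAdd.injective (MonoidHom.mem_ker.1 hy)⟩
    · rintro ⟨hx, h0⟩
      refine ⟨⟨x, hx⟩, ?_, rfl⟩
      show Multiplicative.ofAdd (v x) = 1
      rw [h0]; rfl
  · rw [← Subgroup.card_mul_index h.ker, Subgroup.index_ker, mul_comm]
    congr 1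
    · apply Nat.card_congr
      refine Equiv.ofBijective (fun w => ⟨Multiplicative.toAdd w.1, by
        obtain ⟨x, hx⟩ := w.2
        exact ⟨x.1, x.2, by rw [← hx]; rfl⟩⟩) ⟨?_, ?_⟩
      · intro a b hab
        have h5 := congrArg (fun w : W => (w : V)) hab
        exact Subtype.ext (Multiplicative.toAdd.injective h5)
      · rintro ⟨w, x, hx, rfl⟩
        exact ⟨⟨h ⟨x, hx⟩, ⟨x, hx⟩, rfl⟩, rfl⟩
    · exact (Nat.card_congr (h.ker.equivMapOfInjective _ E.subtype_injective).toEquiv)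

theorem card_sub_le {V : Type*} [AddCommGroup V] [Finite V] {W : AddSubgroup V} (hW : W ≠ ⊤) :
    Nat.card W * 2 ≤ Nat.card V := by
  have h1 := W.card_mul_index
  have h2 : W.index ≠ 1 := fun h => hW (AddSubgroup.index_eq_one.1 h)
  have h3 : W.index ≠ 0 := W.index_ne_zero_of_finite
  rw [← h1]
  exact Nat.mul_le_mul_left _ (by omega)

theorem card_le_two {V : Type*} [AddCommGroup V] [Finite V] {W : AddSubgroup V} {a : V}
    (hW : ∀ w ∈ W, w = 0 ∨ w = a) : Nat.card W ≤ 2 := by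
  classical
  have h1 : (W : Set V) ⊆ ({0, a} : Finset V) := by
    intro w hw
    rcases hW w hw with h | h <;> simp [h]
  have h2 : Nat.card W ≤ Nat.card (({0, a} : Finset V) : Set V) := Nat.card_mono (Finset.finite_toSet _) h1
  refine h2.trans ?_
  rw [Nat.card_eq_card_toFinset, Finset.toFinset_coe]
  exact Finset.card_le_two

theorem card_eq_one {V : Type*} [AddCommGroup V] {W : AddSubgroup V}
    (hW : ∀ w ∈ W, w = 0) : Nat.card W = 1 := by
  have : W = ⊥ := by rw [eq_bot_iff]; intro w hw; exact hW w hw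
  rw [this]; simp

end Cfsg.Agent.H338.L5
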