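import Cfsg.Agent.H338.L5Uni

/-!
# Eigenfunctionals (helper338)
-/

set_option autoImplicit false

namespace Cfsg.Agent.H338.L5

variable {M : Type*} [AddCommGroup M]

/-- The dual module. -/
def dual (φ : X →* AddMonoid.End M) : X →* AddMonoid.End (M →+ ZMod 2) where
  toFun g :=
    { toFun := fun f => f.comp (φ g⁻¹)
      map_zero' := by ext m; rfl
      map_add' := fun f f' => by ext m; rfl }
  map_one' := by
    ext f m
    show f (φ (1 : X)⁻¹ m) = f m
    rw [inv_one, map_one]; rfl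
  map_mul' := fun g h => by
    ext f m
    show f (φ (g * h)⁻¹ m) = f (φ h⁻¹ (φ g⁻¹ m))
    rw [mul_inv_rev, map_mul]; rfl

theorem dual_apply (φ : X →* AddMonoid.End M) (g : X) (f : M →+ ZMod 2) (m : M) :
    dual φ g f m = f (φ g⁻¹ m) := rfl

theorem mulφ (φ : X →* AddMonoid.End M) (g h : X) (m : M) : φ (g * h) m = φ g (φ h m) := by
  rw [map_mul]; rfl

theorem oneφ (φ : X →* AddMonoid.End M) (m : M) : φ 1 m = m := by
  rw [map_one]; rfl

/-- Eigenfunctionals. -/
structure Eig (φ : X →* AddMonoid.End M) (f : M →+ ZMod 2) (D : Fin 4 → Prop) : Prop where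
  ne : f ≠ 0
  yy : ∀ i m, f (φ (y i) m) = f m
  nn : ∀ i, ¬ D i → ∀ m, f (φ (n i) m) = f m
  xx : ∀ i, D i → ∀ m, f (φ (x i) m) = f m + f (φ (n i) m)

theorem exists_functional (h2 : ∀ m : M, m + m = 0) {m : M} (hm : m ≠ 0) :
    ∃ f : M →+ ZMod 2, f m ≠ 0 := by
  let inst : Module (ZMod 2) M := AddCommGroup.zmodModule (n := 2) (by
    intro x; rw [two_nsmul]; exact h2 x)
  by_contra hcon
  push Not at hcon
  apply hm
  rw [← Module.forall_dual_apply_eq_zero_iff (ZMod 2)]
  intro f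
  exact hcon f.toAddMonoidHom

theorem exists_Eig [Finite M] [Nontrivial M] (h2 : ∀ m : M, m + m = 0)
    (φ : X →* AddMonoid.End M) : ∃ (f : M →+ ZMod 2) (D : Fin 4 → Prop), Eig φ f D := by
  have : Finite (M →+ ZMod 2) := Finite.of_injective _ DFunLike.coe_injective
  have : Nontrivial (M →+ ZMod 2) := by
    obtain ⟨m, hm⟩ := exists_ne (0 : M)
    obtain ⟨f, hf⟩ := exists_functional h2 hm
    exact ⟨⟨f, 0, fun h => hf (by rw [h]; rfl)⟩⟩
  have h2' : ∀ f : M →+ ZMod 2, f + f = 0 := fun f => by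
    ext m
    show f m + f m = 0
    exact CharTwo.add_self_eq_zero _
  obtain ⟨f0, hf0, hf1⟩ := exists_fixed h2' (dual φ) (U lo) (isPGroup_U lo (by decide))
  obtain ⟨f, hf, hfy, hfn⟩ := exists_eig h2' (dual φ) rel_y hf0 (fun i => hf1 _ (y_mem i))
  have hyinv : ∀ i, (y i)⁻¹ = y i := fun i => inv_eq_of_mul_eq_one_left (rel_y.xx i)
  have hninv : ∀ i, (n i)⁻¹ = n i := fun i => inv_eq_of_mul_eq_one_left (rel_y.nn i)
  refine ⟨f, fun i => ¬ ∀ m, f (φ (n i) m) = f m, hf, ?_, ?_, ?_⟩
  · intro i m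
    have h1 := congrArg (fun g : M →+ ZMod 2 => g m) (hfy i)
    simp only [dual_apply, hyinv] at h1
    exact h1
  · intro i hi
    exact not_not.1 hi
  · intro i hi m
    rcases hfn i with h | h
    · exfalso
      apply hi
      intro m
      have h1 := congrArg (fun g : M →+ ZMod 2 => g m) h
      simp only [dual_apply, hninv] at h1
      exact h1
    · have h1 := congrArg (fun g : M →+ ZMod 2 => g (φ (n i) m)) h
      have h1' : dual φ (n i) f (φ (n i) m) + dual φ (y i * n i) f (φ (n i) m) = f (φ (n i) m) := h1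
      rw [dual_apply, dual_apply, mul_inv_rev, hninv, hyinv, ← mulφ, ← mulφ, rel_y.nn, oneφ] at h1'
      have h3 : n i * y i * n i = x i := by
        rw [y_eq]
        have h4 := rel_x.xn i
        rw [h4]
        simp only [← mul_assoc]
        rw [rel_x.nn, one_mul, mul_assoc, rel_x.nn, mul_one]
      rw [h3] at h1'
      rw [← h1', ← add_assoc, CharTwo.add_self_eq_zero, zero_add]

end Cfsg.Agent.H338.L5
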