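import Cfsg.Agent.H338.L5Gen

/-!
# Eigenvectors of the 0-Hecke operators (helper338)
-/

set_option autoImplicit false

namespace Cfsg.Agent.H338.L5

/-- Idempotent operators with the braid relations of type `A₄` have a common eigenvector. -/
theorem exists_eigen {E : Type*} (z : E) (T : Fin 4 → E → E) (h0 : ∀ i, T i z = z)
    (idem : ∀ i e, T i (T i e) = T i e)
    (comm : ∀ i j : Fin 4, (i : ℕ) + 1 < j ∨ (j : ℕ) + 1 < i → ∀ e, T i (T j e) = T j (T i e))
    (braid : ∀ i j : Fin 4, (i : ℕ) + 1 = j ∨ (j : ℕ) + 1 = i →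
      ∀ e, T i (T j (T i e)) = T j (T i (T j e)))
    (e : E) (he : e ≠ z) : ∃ u, u ≠ z ∧ ∀ i, T i u = u ∨ T i u = z := by
  have c02 := comm 0 2 (by decide)
  have c03 := comm 0 3 (by decide)
  have c13 := comm 1 3 (by decide)
  have b01 := braid 0 1 (by decide)
  have b12 := braid 1 2 (by decide)
  have b23 := braid 2 3 (by decide)
  -- image of an eigenvector
  have ap : ∀ (f : E → E), f z = z → ∀ v w : E, (w = v ∨ w = z) → f w = f v ∨ f w = z := by
    intro f hf v w h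
    rcases h with rfl | rfl
    · exact Or.inl rfl
    · exact Or.inr hf
  -- step 1
  obtain ⟨e1, he1, h10⟩ : ∃ u, u ≠ z ∧ (T 0 u = u ∨ T 0 u = z) := by
    by_cases h : T 0 e = z
    · exact ⟨e, he, Or.inr h⟩
    · exact ⟨T 0 e, h, Or.inl (idem 0 e)⟩
  -- step 2
  obtain ⟨e2, he2, h20, h21⟩ : ∃ u, u ≠ z ∧ (T 0 u = u ∨ T 0 u = z) ∧ (T 1 u = u ∨ T 1 u = z) := by
    by_cases h1 : T 1 e1 = z
    · exact ⟨e1, he1, h10, Or.inr h1⟩
    by_cases h2 : T 0 (T 1 e1) = z
    · exact ⟨T 1 e1, h1, Or.inr h2, Or.inl (idem 1 _)⟩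
    · refine ⟨T 0 (T 1 e1), h2, Or.inl (idem 0 _), ?_⟩
      rw [← b01]
      exact ap (fun v => T 0 (T 1 v)) (by simp only [h0]) _ _ h10
  -- step 3
  obtain ⟨e3, he3, h30, h31, h32⟩ : ∃ u, u ≠ z ∧ (T 0 u = u ∨ T 0 u = z) ∧
      (T 1 u = u ∨ T 1 u = z) ∧ (T 2 u = u ∨ T 2 u = z) := by
    by_cases h1 : T 2 e2 = z
    · exact ⟨e2, he2, h20, h21, Or.inr h1⟩
    by_cases h2 : T 1 (T 2 e2) = z
    · refine ⟨T 2 e2, h1, ?_, Or.inr h2, Or.inl (idem 2 _)⟩
      rw [c02]
      exact ap (T 2) (h0 2) _ _ h20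
    by_cases h3 : T 0 (T 1 (T 2 e2)) = z
    · refine ⟨T 1 (T 2 e2), h2, Or.inr h3, Or.inl (idem 1 _), ?_⟩
      rw [← b12]
      exact ap (fun v => T 1 (T 2 v)) (by simp only [h0]) _ _ h21
    · refine ⟨T 0 (T 1 (T 2 e2)), h3, Or.inl (idem 0 _), ?_, ?_⟩
      · rw [← b01, c02]
        exact ap (fun v => T 0 (T 1 (T 2 v))) (by simp only [h0]) _ _ h20
      · rw [← c02, ← b12]
        exact ap (fun v => T 0 (T 1 (T 2 v))) (by simp only [h0]) _ _ h21
  -- step 4
  by_cases h1 : T 3 e3 = z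
  · refine ⟨e3, he3, ?_⟩
    intro i
    fin_cases i
    · exact h30
    · exact h31
    · exact h32
    · exact Or.inr h1
  by_cases h2 : T 2 (T 3 e3) = z
  · refine ⟨T 3 e3, h1, ?_⟩
    intro i
    fin_cases i
    · show T 0 (T 3 e3) = _ ∨ T 0 (T 3 e3) = _
      rw [c03]
      exact ap (T 3) (h0 3) _ _ h30
    · show T 1 (T 3 e3) = _ ∨ T 1 (T 3 e3) = _
      rw [c13]
      exact ap (T 3) (h0 3) _ _ h31
    · exact Or.inr h2
    · exact Or.inl (idem 3 _)
  by_cases h3 : T 1 (T 2 (T 3 e3)) = z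
  · refine ⟨T 2 (T 3 e3), h2, ?_⟩
    intro i
    fin_cases i
    · show T 0 (T 2 (T 3 e3)) = _ ∨ T 0 (T 2 (T 3 e3)) = _
      rw [c02, c03]
      exact ap (fun v => T 2 (T 3 v)) (by simp only [h0]) _ _ h30
    · exact Or.inr h3
    · exact Or.inl (idem 2 _)
    · show T 3 (T 2 (T 3 e3)) = _ ∨ T 3 (T 2 (T 3 e3)) = _
      rw [← b23]
      exact ap (fun v => T 2 (T 3 v)) (by simp only [h0]) _ _ h32
  by_cases h4 : T 0 (T 1 (T 2 (T 3 e3))) = z
  · refine ⟨T 1 (T 2 (T 3 e3)), h3, ?_⟩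
    intro i
    fin_cases i
    · exact Or.inr h4
    · exact Or.inl (idem 1 _)
    · show T 2 (T 1 (T 2 (T 3 e3))) = _ ∨ T 2 (T 1 (T 2 (T 3 e3))) = _
      rw [← b12, c13]
      exact ap (fun v => T 1 (T 2 (T 3 v))) (by simp only [h0]) _ _ h31
    · show T 3 (T 1 (T 2 (T 3 e3))) = _ ∨ T 3 (T 1 (T 2 (T 3 e3))) = _
      rw [← c13, ← b23]
      exact ap (fun v => T 1 (T 2 (T 3 v))) (by simp only [h0]) _ _ h32
  · refine ⟨T 0 (T 1 (T 2 (T 3 e3))), h4, ?_⟩
    intro i
    fin_cases i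
    · exact Or.inl (idem 0 _)
    · show T 1 (T 0 (T 1 (T 2 (T 3 e3)))) = _ ∨ T 1 (T 0 (T 1 (T 2 (T 3 e3)))) = _
      rw [← b01, c02, c03]
      exact ap (fun v => T 0 (T 1 (T 2 (T 3 v)))) (by simp only [h0]) _ _ h30
    · show T 2 (T 0 (T 1 (T 2 (T 3 e3)))) = _ ∨ T 2 (T 0 (T 1 (T 2 (T 3 e3)))) = _
      rw [← c02, ← b12, c13]
      exact ap (fun v => T 0 (T 1 (T 2 (T 3 v)))) (by simp only [h0]) _ _ h31
    · show T 3 (T 0 (T 1 (T 2 (T 3 e3)))) = _ ∨ T 3 (T 0 (T 1 (T 2 (T 3 e3)))) = _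
      rw [← c03, ← c13, ← b23]
      exact ap (fun v => T 0 (T 1 (T 2 (T 3 v)))) (by simp only [h0]) _ _ h32

variable {M : Type*} [AddCommGroup M] {Γ : Type*} [Group Γ]

/-- Eigenvectors of the operators `n i + x i * n i`. -/
theorem exists_eig (h2 : ∀ m : M, m + m = 0) (φ : Γ →* AddMonoid.End M) {x n : Fin 4 → Γ}
    (R : Rel x n) {v0 : M} (hv0 : v0 ≠ 0) (hx0 : ∀ i, φ (x i) v0 = v0) :
    ∃ v : M, v ≠ 0 ∧ (∀ i, φ (x i) v = v) ∧
      ∀ i, φ (n i) v = v ∨ φ (n i) v + φ (x i * n i) v = v := by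
  let E := {m : M // ∀ i, φ (x i) m = m}
  have mul : ∀ (g h : Γ) (m : M), φ (g * h) m = φ g (φ h m) := fun g h m => by
    rw [map_mul]; rfl
  have tri : ∀ i j : Fin 4, i = j ∨ ((i : ℕ) + 1 < j ∨ (j : ℕ) + 1 < i) ∨
      ((i : ℕ) + 1 = j ∨ (j : ℕ) + 1 = i) := by decide
  let t : Fin 4 → M → M := fun i m => φ (n i) m + φ (x i * n i) m
  have tE : ∀ i (m : M), (∀ j, φ (x j) m = m) → ∀ j, φ (x j) (t i m) = t i m := by
    intro i m hm j
    show φ (x j) (φ (n i) m + φ (x i * n i) m) = φ (n i) m + φ (x i * n i) m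
    rw [map_add, ← mul, ← mul]
    rcases tri i j with rfl | h | h
    · rw [← mul_assoc, R.xx, one_mul, add_comm]
    · have h' : (j : ℕ) + 1 < i ∨ (i : ℕ) + 1 < j := h.symm
      rw [R.fxn j i h', mul (n i), hm, ← mul_assoc, R.fx j i h', mul_assoc, R.fxn j i h', ← mul_assoc,
        mul (x i * n i), hm]
    · congr 1
      · have e1 : x j * n i = n i * (x i * x j * x i * x j) := by
          rw [← R.a1 i j h, ← mul_assoc, ← mul_assoc, R.nn, one_mul]
        rw [e1]
        simp only [mul, hm]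
      · have e1 : x j * (x i * n i) = x i * n i * (x i * x j * x i) := by
          have := R.a2 i j h
          have h3 : (x i * x j * x i) * n i = n i * (x i * x j * x i) := by
            calc (x i * x j * x i) * n i = n i * (x i * x j * x i) * n i * n i := by rw [this]
              _ = n i * (x i * x j * x i) := by rw [mul_assoc (n i * (x i * x j * x i)), R.nn, mul_one]
          calc x j * (x i * n i) = x i * (x i * x j * x i * n i) := by
                simp only [← mul_assoc]; rw [R.xx, one_mul]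
            _ = _ := by rw [h3]; simp only [← mul_assoc]
        rw [e1]
        simp only [mul, hm]
  let TT : Fin 4 → E → E := fun i e => ⟨t i e.1, tE i e.1 e.2⟩
  have hadd : ∀ a b : M, a + b = 0 → a = b := fun a b h => by
    have : a + b = b + b := by rw [h, h2]
    exact add_right_cancel this
  have hidem : ∀ i (m : M), (∀ j, φ (x j) m = m) → t i (t i m) = t i m := by
    intro i m hm
    show φ (n i) (φ (n i) m + φ (x i * n i) m) + φ (x i * n i) (φ (n i) m + φ (x i * n i) m) =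
      φ (n i) m + φ (x i * n i) m
    rw [map_add, map_add, ← mul, ← mul, ← mul, ← mul, R.nn, map_one]
    have e1 : n i * (x i * n i) = x i * n i * x i := by rw [R.xn, mul_assoc]
    have e2 : x i * n i * n i = x i := by rw [mul_assoc, R.nn, mul_one]
    have e3 : x i * n i * (x i * n i) = n i * x i := by
      rw [mul_assoc, e1, ← mul_assoc, ← mul_assoc, R.xx, one_mul]
    rw [e1, e2, e3, mul (x i * n i), mul (n i), hm]
    show m + φ (x i * n i) m + (m + φ (n i) m) = _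
    have := h2 m
    calc m + φ (x i * n i) m + (m + φ (n i) m) = (m + m) + (φ (n i) m + φ (x i * n i) m) := by abel
      _ = _ := by rw [this, zero_add]
  obtain ⟨u, hu, hu2⟩ := exists_eigen (⟨0, fun i => map_zero _⟩ : E) TT
    (fun i => Subtype.ext (by
      show φ (n i) 0 + φ (x i * n i) 0 = 0
      rw [map_zero, map_zero, add_zero]))
    (fun i e => Subtype.ext (hidem i e.1 e.2))
    (fun i j h e => Subtype.ext (by
      show φ (n i) (φ (n j) e.1 + φ (x j * n j) e.1) + φ (x i * n i) (φ (n j) e.1 + φ (x j * n j) e.1)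
        = φ (n j) (φ (n i) e.1 + φ (x i * n i) e.1) + φ (x j * n j) (φ (n i) e.1 + φ (x i * n i) e.1)
      simp only [map_add, ← mul]
      have e1 := R.fn i j h
      have e2 : n i * (x j * n j) = x j * n j * n i := by
        rw [← mul_assoc, ← R.fxn j i h.symm, mul_assoc, e1, ← mul_assoc]
      have e3 : x i * n i * n j = n j * (x i * n i) := by
        rw [mul_assoc, e1, ← mul_assoc, R.fxn i j h, mul_assoc]
      have e4 : x i * n i * (x j * n j) = x j * n j * (x i * n i) := by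
        rw [mul_assoc, e2, ← mul_assoc, ← mul_assoc, R.fx i j h, mul_assoc (x j), R.fxn i j h]
        simp only [mul_assoc]
      rw [e1, e2, e3, e4]
      abel))
    (fun i j h e => Subtype.ext (by
      show φ (n i) (φ (n j) (φ (n i) e.1 + φ (x i * n i) e.1) +
          φ (x j * n j) (φ (n i) e.1 + φ (x i * n i) e.1)) +
        φ (x i * n i) (φ (n j) (φ (n i) e.1 + φ (x i * n i) e.1) +
          φ (x j * n j) (φ (n i) e.1 + φ (x i * n i) e.1)) =
        φ (n j) (φ (n i) (φ (n j) e.1 + φ (x j * n j) e.1) +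
          φ (x i * n i) (φ (n j) e.1 + φ (x j * n j) e.1)) +
        φ (x j * n j) (φ (n i) (φ (n j) e.1 + φ (x j * n j) e.1) +
          φ (x i * n i) (φ (n j) e.1 + φ (x j * n j) e.1))
      simp only [map_add, ← mul, ← mul_assoc]
      rw [R.e1 i j h, R.e2 i j h, R.e3 i j h, R.e5 i j h, R.e6 i j h, R.e2 j i h.symm,
        R.e5 j i h.symm, R.e6 j i h.symm]
      abel))
    ⟨v0, hx0⟩ (fun h => hv0 (congrArg Subtype.val h))
  refine ⟨u.1, fun h => hu (Subtype.ext h), u.2, ?_⟩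
  intro i
  rcases hu2 i with h | h
  · right
    exact congrArg Subtype.val h
  · left
    have h3 : φ (n i) u.1 + φ (x i * n i) u.1 = 0 := congrArg Subtype.val h
    have h4 := hadd _ _ h3
    have h5 := congrArg (φ (n i)) h4
    rw [← mul, ← mul, R.nn, map_one] at h5
    have e1 : n i * (x i * n i) = x i * n i * x i := by rw [R.xn, mul_assoc]
    rw [e1, mul (x i * n i), u.2, ← h4] at h5
    exact h5.symm

end Cfsg.Agent.H338.L5
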