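import Cfsg.Agent.H338.L5Blk

/-!
# Elements of order 31 and 7 (helper338)
-/

set_option autoImplicit false

namespace Cfsg.Agent.H338.L5

open Matrix

def AL5 (m : Fin 10 → ZMod 2) : M5 :=
  !![0, m 0, m 1, m 2, m 3; m 0, 0, m 4, m 5, m 6; m 1, m 4, 0, m 7, m 8; m 2, m 5, m 7, 0, m 9;
    m 3, m 6, m 8, m 9, 0]

theorem AL5_of {B : M5} (hB : B ∈ Alt) : ∃ m, B = AL5 m := by
  refine ⟨![B 0 1, B 0 2, B 0 3, B 0 4, B 1 2, B 1 3, B 1 4, B 2 3, B 2 4, B 3 4], ?_⟩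
  have h0 : ∀ i j, B i j = B j i := fun i j => hB.1 _ _
  have h1 : ∀ i, B i i = 0 := fun i => hB.2 _
  ext i j
  fin_cases i <;> fin_cases j <;> first | exact h1 _ | rfl | exact h0 _ _

theorem AL5_inj {m m' : Fin 10 → ZMod 2} (h : AL5 m = AL5 m') : m = m' := by
  funext i
  fin_cases i
  · exact congrFun (congrFun h 0) 1
  · exact congrFun (congrFun h 0) 2
  · exact congrFun (congrFun h 0) 3
  · exact congrFun (congrFun h 0) 4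
  · exact congrFun (congrFun h 1) 2
  · exact congrFun (congrFun h 1) 3
  · exact congrFun (congrFun h 1) 4
  · exact congrFun (congrFun h 2) 3
  · exact congrFun (congrFun h 2) 4
  · exact congrFun (congrFun h 3) 4

def Y31m : M5 := !![0, 0, 0, 0, 1; 1, 0, 0, 0, 0; 0, 1, 0, 0, 1; 0, 0, 1, 0, 0; 0, 0, 0, 1, 0]
def Y7m : M5 := !![0, 0, 1, 0, 0; 1, 0, 1, 0, 0; 0, 1, 0, 0, 0; 0, 0, 0, 1, 0; 0, 0, 0, 0, 1]

def Y31 : X := ⟨Y31m, det_one (M' := !![0, 1, 0, 0, 0; 1, 0, 1, 0, 0; 0, 0, 0, 1, 0; 0, 0, 0, 0, 1;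
  1, 0, 0, 0, 0]) (by decide +kernel)⟩
def Y7 : X := ⟨Y7m, det_one (M' := !![1, 1, 0, 0, 0; 0, 0, 1, 0, 0; 1, 0, 0, 0, 0; 0, 0, 0, 1, 0;
  0, 0, 0, 0, 1]) (by decide +kernel)⟩

theorem X_sq_val (g : X) : (g ^ 2).1 = g.1 * g.1 := by rw [pow_two]; rfl

theorem Y31_pow : Y31 ^ 31 = 1 := by
  have e1 : (Y31 ^ 2).1 = !![0, 0, 0, 1, 0; 0, 0, 0, 0, 1; 1, 0, 0, 1, 0; 0, 1, 0, 0, 1; 0, 0, 1, 0, 0] := by
    rw [X_sq_val]; show Y31m * Y31m = _; decide +kernel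
  have e2 : ((Y31 ^ 2) ^ 2).1 =
      !![0, 1, 0, 0, 1; 0, 0, 1, 0, 0; 0, 1, 0, 1, 1; 0, 0, 1, 0, 1; 1, 0, 0, 1, 0] := by
    rw [X_sq_val, e1]; decide +kernel
  have e3 : (((Y31 ^ 2) ^ 2) ^ 2).1 =
      !![1, 0, 1, 1, 0; 0, 1, 0, 1, 1; 1, 0, 0, 1, 1; 1, 1, 0, 0, 1; 0, 1, 1, 0, 0] := by
    rw [X_sq_val, e2]; decide +kernel
  have e4 : ((((Y31 ^ 2) ^ 2) ^ 2) ^ 2).1 =
      !![1, 1, 1, 0, 0; 1, 1, 1, 1, 0; 0, 0, 0, 1, 1; 1, 0, 0, 0, 1; 1, 1, 0, 0, 0] := by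
    rw [X_sq_val, e3]; decide +kernel
  have e5 : (((((Y31 ^ 2) ^ 2) ^ 2) ^ 2) ^ 2).1 = Y31.1 := by
    rw [X_sq_val, e4]; show _ = Y31m; decide +kernel
  have h : ((((Y31 ^ 2) ^ 2) ^ 2) ^ 2) ^ 2 = Y31 := Subtype.ext e5
  simp only [← pow_mul] at h
  norm_num at h
  have h2 : Y31 ^ 31 * Y31 = 1 * Y31 := by rw [← pow_succ, one_mul]; exact h
  exact mul_right_cancel h2

theorem Y7_pow : Y7 ^ 7 = 1 := by
  have e1 : (Y7 ^ 2).1 = !![0, 1, 0, 0, 0; 0, 1, 1, 0, 0; 1, 0, 1, 0, 0; 0, 0, 0, 1, 0; 0, 0, 0, 0, 1] := by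
    rw [X_sq_val]; show Y7m * Y7m = _; decide +kernel
  have e2 : ((Y7 ^ 2) ^ 2).1 =
      !![0, 1, 1, 0, 0; 1, 1, 0, 0, 0; 1, 1, 1, 0, 0; 0, 0, 0, 1, 0; 0, 0, 0, 0, 1] := by
    rw [X_sq_val, e1]; decide +kernel
  have e3 : (((Y7 ^ 2) ^ 2) ^ 2).1 = Y7.1 := by
    rw [X_sq_val, e2]; show _ = Y7m; decide +kernel
  have h : ((Y7 ^ 2) ^ 2) ^ 2 = Y7 := Subtype.ext e3
  simp only [← pow_mul] at h
  norm_num at h
  have h2 : Y7 ^ 7 * Y7 = 1 * Y7 := by rw [← pow_succ, one_mul]; exact h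
  exact mul_right_cancel h2

theorem Y31_act (m : Fin 10 → ZMod 2) : Y31m * AL5 m * Y31mᵀ =
    AL5 ![m 3, m 6, m 8, m 9, m 0 + m 3, m 1, m 2, m 4 + m 8, m 5 + m 9, m 7] := by
  ext i j
  fin_cases i <;> fin_cases j <;>
    simp [Y31m, AL5, Matrix.mul_apply, Fin.sum_univ_five, Matrix.transpose_apply, add_comm,
      CharTwo.add_self_eq_zero]

theorem Y7_act (m : Fin 10 → ZMod 2) : Y7m * AL5 m * Y7mᵀ =
    AL5 ![m 1, m 4, m 7, m 8, m 0 + m 4, m 2 + m 7, m 3 + m 8, m 5, m 6, m 9] := by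
  ext i j
  fin_cases i <;> fin_cases j <;>
    simp [Y7m, AL5, Matrix.mul_apply, Fin.sum_univ_five, Matrix.transpose_apply, add_comm,
      CharTwo.add_self_eq_zero]

theorem Y31_fix (m : Fin 10 → ZMod 2) (h : Y31m * AL5 m * Y31mᵀ = AL5 m) : m = 0 := by
  rw [Y31_act] at h
  have := AL5_inj h
  revert this
  revert m
  have : ∀ m : Fin 10 → ZMod 2,
    ![m 3, m 6, m 8, m 9, m 0 + m 3, m 1, m 2, m 4 + m 8, m 5 + m 9, m 7] = m → m = 0 := by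
    decide +kernel
  intro m _
  exact this m

theorem Y7_fix (m : Fin 10 → ZMod 2) (h : Y7m * AL5 m * Y7mᵀ = AL5 m) :
    m = 0 ∨ m = ![0, 0, 0, 0, 0, 0, 0, 0, 0, 1] := by
  rw [Y7_act] at h
  have h1 := AL5_inj h
  have : ∀ m : Fin 10 → ZMod 2,
    ![m 1, m 4, m 7, m 8, m 0 + m 4, m 2 + m 7, m 3 + m 8, m 5, m 6, m 9] = m →
      m = 0 ∨ m = ![0, 0, 0, 0, 0, 0, 0, 0, 0, 1] := by
    decide +kernel
  exact this m h1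

end Cfsg.Agent.H338.L5
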