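import Cfsg.Agent.H338.L5FF

/-!
# Normal elementary abelian subgroups of a Sylow 2-subgroup of `2^10 : L₅(2)` (helper338)
-/

set_option autoImplicit false

namespace Cfsg.Agent.H338.L5

open Matrix

theorem pair {V : Type*} [AddCommGroup V] [Finite V] {W W' : AddSubgroup V}
    (h : ∀ w ∈ W, ∀ w' ∈ W', w = 0 ∨ w' = 0 ∨ w' = w) {w0 : V} (hw0 : w0 ∈ W) (hne : w0 ≠ 0) :
    Nat.card W * Nat.card W' ≤ 4 ∨ ∀ w' ∈ W', w' = 0 := by
  by_cases hW' : ∀ w' ∈ W', w' = 0
  · exact Or.inr hW'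
  · left
    push Not at hW'
    obtain ⟨w1, hw1, hne1⟩ := hW'
    have h1 : Nat.card W' ≤ 2 := card_le_two (a := w0) fun w' hw' => by
      rcases h w0 hw0 w' hw' with h | h | h
      · exact absurd h hne
      · exact Or.inl h
      · exact Or.inr h
    have h2 : Nat.card W ≤ 2 := card_le_two (a := w1) fun w hw => by
      rcases h w hw w1 hw1 with h | h | h
      · exact Or.inl h
      · exact absurd h hne1
      · exact Or.inr h.symm
    exact Nat.mul_le_mul h2 h1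

theorem card_F {n : ℕ} : Nat.card (Fin n → ZMod 2) = 2 ^ n := by
  rw [Nat.card_fun, Nat.card_zmod, Nat.card_fin]

section

variable {K : Type*} [Group K] {A C J S : Subgroup K} {r : K → M4} {p k : K → V4}
    {c : K → M4}

theorem Dat.A_comm (d : Dat A C J S r p k c) {x y : K} (hx : x ∈ A) (hy : y ∈ A) :
    x * y = y * x := by
  have h1 := d.A2 _ (A.mul_mem hx hy)
  have h2 := d.A2 _ hx
  have h3 := d.A2 _ hy
  calc x * y = (x * y) * ((x * y) * (x * y))⁻¹ := by rw [h1, inv_one, mul_one]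
    _ = (x * y)⁻¹ := by group
    _ = y⁻¹ * x⁻¹ := by group
    _ = y * x := by rw [inv_eq_of_mul_eq_one_left h2, inv_eq_of_mul_eq_one_left h3]

theorem comm_of_two {E : Subgroup K} (h2 : ∀ x ∈ E, x * x = 1) {x y : K} (hx : x ∈ E)
    (hy : y ∈ E) : x * y = y * x := by
  have h1 := h2 _ (E.mul_mem hx hy)
  have h3 := h2 _ hx
  have h4 := h2 _ hy
  calc x * y = (x * y) * ((x * y) * (x * y))⁻¹ := by rw [h1, inv_one, mul_one]
    _ = (x * y)⁻¹ := by group
    _ = y⁻¹ * x⁻¹ := by group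
    _ = y * x := by rw [inv_eq_of_mul_eq_one_left h3, inv_eq_of_mul_eq_one_left h4]

theorem Dat.ut (d : Dat A C J S r p k c) {s : K} (hs : s ∈ S) :
    r s = UTm (r s 0 1) (r s 0 2) (r s 0 3) (r s 1 2) (r s 1 3) (r s 2 3) := by
  obtain ⟨a, b, c', d', e, f, h⟩ := d.r_ut s hs
  rw [h]
  rfl

theorem Dat.al (d : Dat A C J S r p k c) {s : K} (hs : s ∈ C) :
    c s = ALm (c s 0 1) (c s 0 2) (c s 0 3) (c s 1 2) (c s 1 3) (c s 2 3) := by
  obtain ⟨a, b, c', d', e, f, h⟩ := d.c_alt s hs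
  rw [h]
  rfl

theorem Dat.p_fix (d : Dat A C J S r p k c) {x z : K} (hx : x ∈ S) (hz : z ∈ J)
    (h : x * z = z * x) : r x *ᵥ p z = p z := by
  rw [← d.p_conj x hx z hz, h, mul_inv_cancel_right]

theorem Dat.J_le (d : Dat A C J S r p k c) {x : K} (hx : x ∈ S) (h : r x = 1) : x ∈ J :=
  (d.r_one x hx).1 h

theorem Dat.p_inv (d : Dat A C J S r p k c) {x : K} (hx : x ∈ J) : p x⁻¹ = p x := by
  have h1 := d.p_mul x⁻¹ (J.inv_mem hx) x hx
  rw [inv_mul_cancel, (d.p_zero 1 J.one_mem).2 A.one_mem] at h1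
  calc p x⁻¹ = p x⁻¹ + (p x + p x) := by rw [v2, add_zero]
    _ = (p x⁻¹ + p x) + p x := by abel
    _ = p x := by rw [← h1, zero_add]

theorem Dat.nJ (d : Dat A C J S r p k c) {s x : K} (hs : s ∈ S) (hx : x ∈ J) :
    s * x * s⁻¹ ∈ J := by
  apply d.J_le (S.mul_mem (S.mul_mem hs (d.JS hx)) (S.inv_mem hs))
  rw [d.r_mul _ (S.mul_mem hs (d.JS hx)) _ (S.inv_mem hs), d.r_mul _ hs _ (d.JS hx),
    (d.r_one x (d.JS hx)).2 hx, mul_one, ← d.r_mul _ hs _ (S.inv_mem hs), mul_inv_cancel]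
  exact (d.r_one 1 S.one_mem).2 J.one_mem

/-- Bounds for the two layers `p` and `k`. -/
theorem Dat.pk (d : Dat A C J S r p k c) {E : Subgroup K} (h2 : ∀ x ∈ E, x * x = 1)
    {W4 W5 : AddSubgroup V4} (hW4 : ∀ w, w ∈ W4 ↔ ∃ x ∈ E ⊓ J, p x = w)
    (hW5 : ∀ w, w ∈ W5 ↔ ∃ x ∈ E ⊓ A, k x = w) {w0 : V4} (hw0 : w0 ∈ W4) (hne : w0 ≠ 0) :
    Nat.card W4 * Nat.card W5 ≤ 4 ∨ ∀ w' ∈ W5, w' = 0 := by
  refine pair ?_ hw0 hne
  intro w hw w' hw'
  obtain ⟨x, hx, rfl⟩ := (hW4 w).1 hw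
  obtain ⟨a, ha, rfl⟩ := (hW5 w').1 hw'
  obtain ⟨h3, h4⟩ := d.comm x hx.2 a ha.2
  have h5 : x * a * x⁻¹ * a⁻¹ = 1 := by
    rw [comm_of_two h2 hx.1 ha.1]; group
  rw [h5, (d.c_zero 1 C.one_mem).2 rfl] at h4
  rcases om_zero _ _ h4.symm with h | h | h
  · exact Or.inl h
  · exact Or.inr (Or.inl h)
  · exact Or.inr (Or.inr h.symm)

/-- Normal elementary abelian subgroups of `S`. -/
theorem Dat.ff [Finite K] (d : Dat A C J S r p k c) {E : Subgroup K} (hES : E ≤ S)
    (hn : ∀ s ∈ S, ∀ x ∈ E, s * x * s⁻¹ ∈ E) (h2 : ∀ x ∈ E, x * x = 1) :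
    E ≤ A ∨ Nat.card E ≤ 2 ^ 9 ∨ (E ≤ J ∧ Nat.card E ≤ 2 ^ 10 ∧
      (Nat.card E = 2 ^ 10 → (∀ v, ∃ x ∈ E, p x = v) ∧ E ⊓ A = C)) := by
  have hcomm : ∀ {x y : K}, x ∈ E → y ∈ E → x * y = y * x := fun hx hy => comm_of_two h2 hx hy
  have hmul : ∀ x ∈ E, ∀ y ∈ E, r (x * y) =
      UTm (r x 0 1 + r y 0 1) (r x 0 2 + r y 0 2 + r x 0 1 * r y 1 2)
        (r x 0 3 + r y 0 3 + r x 0 1 * r y 1 3 + r x 0 2 * r y 2 3) (r x 1 2 + r y 1 2)
        (r x 1 3 + r y 1 3 + r x 1 2 * r y 2 3) (r x 2 3 + r y 2 3) := by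
    intro x hx y hy
    rw [d.r_mul x (hES hx) y (hES hy), d.ut (hES hx), d.ut (hES hy), ut_mul]
    rfl
  -- layer 1
  obtain ⟨E1, W1, hE1, hW1, hc1⟩ := lay E (fun x => (![r x 0 1, r x 1 2] : Fin 2 → ZMod 2)) (by
    intro x hx y hy
    show (![r (x * y) 0 1, r (x * y) 1 2] : Fin 2 → ZMod 2) = _
    rw [hmul x hx y hy]
    ext i
    fin_cases i <;> rfl)
  have hE1' : ∀ x, x ∈ E1 ↔ x ∈ E ∧ r x 0 1 = 0 ∧ r x 1 2 = 0 := by
    intro x
    rw [hE1]
    constructor
    · rintro ⟨h, h'⟩; exact ⟨h, congrFun h' 0, congrFun h' 1⟩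
    · rintro ⟨h, h', h''⟩; exact ⟨h, by rw [h', h'']; decide⟩
  -- layer 2
  obtain ⟨E2, W2, hE2, hW2, hc2⟩ := lay E1 (fun x => (r x 0 2 : ZMod 2)) (by
    intro x hx y hy
    rw [hE1'] at hx hy
    show r (x * y) 0 2 = _
    rw [hmul x hx.1 y hy.1, hx.2.1, UTm_02, zero_mul, add_zero])
  have hE2' : ∀ x, x ∈ E2 ↔ x ∈ E ∧ r x 0 1 = 0 ∧ r x 1 2 = 0 ∧ r x 0 2 = 0 := by
    intro x
    rw [hE2, hE1', and_assoc, and_assoc]
  have hrE2 : ∀ x ∈ E2, r x = Mv ![r x 0 3, r x 1 3, r x 2 3] := by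
    intro x hx
    rw [hE2'] at hx
    obtain ⟨h, h01, h12, h02⟩ := hx
    conv_lhs => rw [d.ut (hES h), h01, h12, h02]
    rfl
  -- layer 3
  obtain ⟨E3, W3, hE3, hW3, hc3⟩ := lay E2 (fun x => (![r x 0 3, r x 1 3, r x 2 3] : Fin 3 → ZMod 2))
    (by
    intro x hx y hy
    rw [hE2'] at hx hy
    show (![r (x * y) 0 3, r (x * y) 1 3, r (x * y) 2 3] : Fin 3 → ZMod 2) = _
    rw [hmul x hx.1 y hy.1, hx.2.1, hx.2.2.1, hx.2.2.2, UTm_03, UTm_13, UTm_23]
    ext i
    fin_cases i <;> simp)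
  have hE3' : ∀ x, x ∈ E3 ↔ x ∈ E ∧ x ∈ J := by
    intro x
    rw [hE3]
    constructor
    · rintro ⟨h, h'⟩
      have hE := ((hE2' x).1 h).1
      refine ⟨hE, d.J_le (hES hE) ?_⟩
      rw [hrE2 x h]
      have : (![r x 0 3, r x 1 3, r x 2 3] : Fin 3 → ZMod 2) = 0 := h'
      rw [this]
      decide
    · rintro ⟨h, h'⟩
      have h1 : r x = 1 := (d.r_one x (hES h)).2 h'
      refine ⟨(hE2' x).2 ⟨h, ?_, ?_, ?_⟩, ?_⟩
      · rw [h1]; decide
      · rw [h1]; decide
      · rw [h1]; decide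
      · show (![r x 0 3, r x 1 3, r x 2 3] : Fin 3 → ZMod 2) = 0
        rw [h1]; decide
  -- layer 4
  obtain ⟨E4, W4, hE4, hW4, hc4⟩ := lay E3 p (by
    intro x hx y hy
    exact d.p_mul x ((hE3' x).1 hx).2 y ((hE3' y).1 hy).2)
  have hE4' : ∀ x, x ∈ E4 ↔ x ∈ E ∧ x ∈ A := by
    intro x
    rw [hE4, hE3']
    constructor
    · rintro ⟨⟨h, h'⟩, h3⟩; exact ⟨h, (d.p_zero x h').1 h3⟩
    · rintro ⟨h, h'⟩; exact ⟨⟨h, d.AJ h'⟩, (d.p_zero x (d.AJ h')).2 h'⟩
  -- layer 5
  obtain ⟨E5, W5, hE5, hW5, hc5⟩ := lay E4 k (by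
    intro x hx y hy
    exact d.k_mul x ((hE4' x).1 hx).2 y ((hE4' y).1 hy).2)
  have hE5' : ∀ x, x ∈ E5 ↔ x ∈ E ∧ x ∈ C := by
    intro x
    rw [hE5, hE4']
    constructor
    · rintro ⟨⟨h, h'⟩, h3⟩; exact ⟨h, (d.k_zero x h').1 h3⟩
    · rintro ⟨h, h'⟩; exact ⟨⟨h, d.CA h'⟩, (d.k_zero x (d.CA h')).2 h'⟩
  -- layer 6
  obtain ⟨E6, W6, hE6, hW6, hc6⟩ := lay E5 (fun x => (![c x 0 3, c x 1 3, c x 2 3] : Fin 3 → ZMod 2))
    (by
    intro x hx y hy
    show (![c (x * y) 0 3, c (x * y) 1 3, c (x * y) 2 3] : Fin 3 → ZMod 2) = _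
    rw [d.c_mul x ((hE5' x).1 hx).2 y ((hE5' y).1 hy).2]
    ext i
    fin_cases i <;> rfl)
  have hE6' : ∀ x, x ∈ E6 ↔ x ∈ E ∧ x ∈ C ∧ c x = ALm (c x 0 1) (c x 0 2) 0 (c x 1 2) 0 0 := by
    intro x
    rw [hE6, hE5', and_assoc]
    constructor
    · rintro ⟨h, h', h3⟩
      refine ⟨h, h', ?_⟩
      have e0 : c x 0 3 = 0 := congrFun h3 0
      have e1 : c x 1 3 = 0 := congrFun h3 1
      have e2 : c x 2 3 = 0 := congrFun h3 2
      conv_lhs => rw [d.al h', e0, e1, e2]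
    · rintro ⟨h, h', h3⟩
      refine ⟨h, h', ?_⟩
      show (![c x 0 3, c x 1 3, c x 2 3] : Fin 3 → ZMod 2) = 0
      rw [h3]
      funext i; fin_cases i <;> rfl
  -- layer 7
  obtain ⟨E7, W7, hE7, hW7, hc7⟩ := lay E6 (fun x => (![c x 0 1, c x 0 2, c x 1 2] : Fin 3 → ZMod 2))
    (by
    intro x hx y hy
    show (![c (x * y) 0 1, c (x * y) 0 2, c (x * y) 1 2] : Fin 3 → ZMod 2) = _
    rw [d.c_mul x ((hE6' x).1 hx).2.1 y ((hE6' y).1 hy).2.1]
    ext i
    fin_cases i <;> rfl)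
  have hE7' : E7 = ⊥ := by
    rw [eq_bot_iff]
    intro x hx
    rw [hE7] at hx
    obtain ⟨h1, h3⟩ := hx
    have h4 := ((hE6' x).1 h1).2.2
    have e0 : c x 0 1 = 0 := congrFun h3 0
    have e1 : c x 0 2 = 0 := congrFun h3 1
    have e2 : c x 1 2 = 0 := congrFun h3 2
    rw [e0, e1, e2] at h4
    have h5 : ALm 0 0 0 0 0 0 = 0 := by decide
    rw [h5] at h4
    exact (d.c_zero x ((hE6' x).1 h1).2.1).1 h4
  rw [hE7', Subgroup.card_bot, mul_one] at hc7
  have hcard : Nat.card E = Nat.card W1 * (Nat.card W2 * (Nat.card W3 * (Nat.card W4 *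
      (Nat.card W5 * (Nat.card W6 * Nat.card W7))))) := by
    rw [hc1, hc2, hc3, hc4, hc5, hc6, hc7]
  -- bounds
  have b2 : Nat.card W2 ≤ 2 := by
    have h5 := Nat.card_mono (Set.toFinite _) (Set.subset_univ (W2 : Set (ZMod 2)))
    rw [Nat.card_univ, Nat.card_zmod] at h5
    exact h5
  have b1 : Nat.card W1 ≤ 2 := by
    have h5 : W1 ≠ ⊤ := by
      intro h
      obtain ⟨x, hx, hx'⟩ := (hW1 ![1, 0]).1 (by rw [h]; trivial)
      obtain ⟨y, hy, hy'⟩ := (hW1 ![0, 1]).1 (by rw [h]; trivial)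
      have ex0 : r x 0 1 = 1 := congrFun hx' 0
      have ex1 : r x 1 2 = 0 := congrFun hx' 1
      have ey0 : r y 0 1 = 0 := congrFun hy' 0
      have ey1 : r y 1 2 = 1 := congrFun hy' 1
      have h7 : r x * r y = r y * r x := by
        rw [← d.r_mul x (hES hx) y (hES hy), ← d.r_mul y (hES hy) x (hES hx), hcomm hx hy]
      rw [d.ut (hES hx), d.ut (hES hy), ex0, ex1, ey0, ey1] at h7
      exact ff6 _ _ _ _ _ _ _ _ h7
    have h6 := card_sub_le h5
    rw [card_F] at h6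
    omega
  have b7 : Nat.card W7 ≤ 8 := by
    have h5 := Nat.card_mono (Set.toFinite _) (Set.subset_univ (W7 : Set (Fin 3 → ZMod 2)))
    rw [Nat.card_univ, card_F] at h5
    exact h5
  have b6 : Nat.card W6 ≤ 8 := by
    have h5 := Nat.card_mono (Set.toFinite _) (Set.subset_univ (W6 : Set (Fin 3 → ZMod 2)))
    rw [Nat.card_univ, card_F] at h5
    exact h5
  have b3 : Nat.card W3 ≤ 8 := by
    have h5 := Nat.card_mono (Set.toFinite _) (Set.subset_univ (W3 : Set (Fin 3 → ZMod 2)))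
    rw [Nat.card_univ, card_F] at h5
    exact h5
  have b4 : Nat.card W4 ≤ 16 := by
    have h5 := Nat.card_mono (Set.toFinite _) (Set.subset_univ (W4 : Set (Fin 4 → ZMod 2)))
    rw [Nat.card_univ, card_F] at h5
    exact h5
  have hp45 : ∀ {w0 : V4}, w0 ∈ W4 → w0 ≠ 0 →
      (Nat.card W4 * Nat.card W5 ≤ 4 ∨ ∀ w' ∈ W5, w' = 0) := by
    intro w0
    refine d.pk h2 ?_ ?_
    · intro w
      rw [hW4]
      simp only [hE3', Subgroup.mem_inf]
    · intro w
      rw [hW5]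
      simp only [hE4', Subgroup.mem_inf]
  have hp36 : ∀ {w0 : Fin 3 → ZMod 2}, w0 ∈ W3 → w0 ≠ 0 →
      (Nat.card W3 * Nat.card W6 ≤ 4 ∨ ∀ w' ∈ W6, w' = 0) := by
    intro w0 hw0 hne
    refine pair ?_ hw0 hne
    intro w hw w' hw'
    obtain ⟨x, hx, rfl⟩ := (hW3 w).1 hw
    obtain ⟨a, ha, rfl⟩ := (hW6 w').1 hw'
    have hxE := ((hE2' x).1 hx).1
    have haE := (hE5' a).1 ha
    have h5 := d.c_conj x (hES hxE) a haE.2
    have h6 : x * a * x⁻¹ = a := by rw [hcomm hxE haE.1]; group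
    rw [h6, hrE2 x hx] at h5
    have h7 := d.al haE.2
    rw [h7] at h5
    rcases ff2 _ _ _ _ _ _ _ h5.symm with h | h | h
    · exact Or.inl h
    · exact Or.inr (Or.inl h)
    · exact Or.inr (Or.inr h)
  by_cases hJ : E ≤ J
  · by_cases hA : E ≤ A
    · exact Or.inl hA
    right; right
    obtain ⟨x, hx, hxA⟩ := Set.not_subset.1 hA
    have hxW : p x ∈ W4 := (hW4 _).2 ⟨x, (hE3' x).2 ⟨hx, hJ hx⟩, rfl⟩
    have hx0 : p x ≠ 0 := fun h => hxA ((d.p_zero x (hJ hx)).1 h)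
    have hr1 : ∀ x ∈ E, r x = 1 := fun x hx => (d.r_one x (hES hx)).2 (hJ hx)
    have c1 : Nat.card W1 = 1 := card_eq_one fun w hw => by
      obtain ⟨x, hx, rfl⟩ := (hW1 w).1 hw
      show (![r x 0 1, r x 1 2] : Fin 2 → ZMod 2) = 0
      rw [hr1 x hx]; decide
    have c2 : Nat.card W2 = 1 := card_eq_one fun w hw => by
      obtain ⟨x, hx, rfl⟩ := (hW2 w).1 hw
      show r x 0 2 = 0
      rw [hr1 x ((hE1' x).1 hx).1]; decide
    have c3 : Nat.card W3 = 1 := card_eq_one fun w hw => by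
      obtain ⟨x, hx, rfl⟩ := (hW3 w).1 hw
      show (![r x 0 3, r x 1 3, r x 2 3] : Fin 3 → ZMod 2) = 0
      rw [hr1 x ((hE2' x).1 hx).1]; decide
    rw [c1, c2, c3, one_mul, one_mul, one_mul] at hcard
    have h67 : Nat.card W6 * Nat.card W7 ≤ 64 := Nat.mul_le_mul b6 b7
    refine ⟨hJ, ?_, ?_⟩
    · rcases hp45 hxW hx0 with h | h
      · rw [hcard, ← mul_assoc]
        calc Nat.card W4 * Nat.card W5 * (Nat.card W6 * Nat.card W7) ≤ 4 * 64 :=
              Nat.mul_le_mul h h67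
          _ ≤ _ := by norm_num
      · have h8 := card_eq_one h
        rw [hcard, h8, one_mul]
        calc Nat.card W4 * (Nat.card W6 * Nat.card W7) ≤ 16 * 64 :=
              Nat.mul_le_mul b4 h67
          _ ≤ _ := by norm_num
    · intro h10
      rcases hp45 hxW hx0 with h | h
      · exfalso
        rw [h10, ← mul_assoc] at hcard
        have : Nat.card W4 * Nat.card W5 * (Nat.card W6 * Nat.card W7) ≤ 4 * 64 :=
              Nat.mul_le_mul h h67
        rw [← hcard] at this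
        norm_num at this
      · have h8 := card_eq_one h
        have hW4top : W4 = ⊤ := by
          by_contra hne
          have h9 := card_sub_le hne
          rw [card_F] at h9
          rw [h10, h8, one_mul] at hcard
          have : Nat.card W4 * (Nat.card W6 * Nat.card W7) ≤ 8 * 64 :=
              Nat.mul_le_mul (by omega) h67
          rw [← hcard] at this
          norm_num at this
        constructor
        · intro v
          obtain ⟨x, hx, hxv⟩ := (hW4 v).1 (by rw [hW4top]; trivial)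
          exact ⟨x, ((hE3' x).1 hx).1, hxv⟩
        · have hle : E ⊓ A ≤ C := by
            intro x hx
            have h9 : k x ∈ W5 := (hW5 _).2 ⟨x, (hE4' x).2 hx, rfl⟩
            exact (d.k_zero x hx.2).1 (h _ h9)
          have hE5C : E5 ≤ C := fun x hx => ((hE5' x).1 hx).2
          have hcC : Nat.card C ≤ 64 := by
            let F : C → (Fin 6 → ZMod 2) := fun x => ![c x 0 1, c x 0 2, c x 0 3, c x 1 2, c x 1 3,
              c x 2 3]
            have hF : Function.Injective F := by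
              intro x y hxy
              have e0 : c x 0 1 = c y 0 1 := congrFun hxy 0
              have e1 : c x 0 2 = c y 0 2 := congrFun hxy 1
              have e2 : c x 0 3 = c y 0 3 := congrFun hxy 2
              have e3 : c x 1 2 = c y 1 2 := congrFun hxy 3
              have e4 : c x 1 3 = c y 1 3 := congrFun hxy 4
              have e5 : c x 2 3 = c y 2 3 := congrFun hxy 5
              have h11 : c x = c y := by
                rw [d.al x.2, d.al y.2, e0, e1, e2, e3, e4, e5]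
              have h12 : c ((x : K) * (y : K)) = 0 := by
                rw [d.c_mul _ x.2 _ y.2, h11, m2]
              have h13 := (d.c_zero _ (C.mul_mem x.2 y.2)).1 h12
              have h14 := d.A2 _ (d.CA y.2)
              exact Subtype.ext (mul_right_cancel (h13.trans h14.symm))
            have h11 := Nat.card_le_card_of_injective F hF
            rw [card_F] at h11
            exact h11
          have h11 : Nat.card E5 = 64 := by
            rw [hc6, hc7]
            apply le_antisymm h67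
            rw [h10, h8, one_mul] at hcard
            have h12 : Nat.card W4 * (Nat.card W6 * Nat.card W7) ≤
              16 * (Nat.card W6 * Nat.card W7) := Nat.mul_le_mul_right _ b4
            rw [← hcard] at h12
            omega
          have h12 : E5 = C := Subgroup.eq_of_le_of_card_ge hE5C (by rw [h11]; exact hcC)
          apply le_antisymm hle
          rw [← h12]
          intro x hx
          have := (hE5' x).1 hx
          exact ⟨this.1, d.CA this.2⟩
  · right; left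
    -- some element acts nontrivially
    obtain ⟨x, hx, hxJ⟩ := Set.not_subset.1 hJ
    have hrx : r x ≠ 1 := fun h => hxJ (d.J_le (hES hx) h)
    obtain ⟨v, hv⟩ : ∃ v : V4, r x *ᵥ v ≠ v := by
      by_contra hcon
      push Not at hcon
      apply hrx
      apply Matrix.ext_of_mulVec_single
      intro i
      rw [hcon, Matrix.one_mulVec]
    obtain ⟨y, hyJ, rfl⟩ := d.p_surj v
    -- commutator in layer 4
    have hw4 : p y + r x *ᵥ p y ∈ W4 := by
      rw [hW4]
      refine ⟨y * (x * y⁻¹ * x⁻¹), ?_, ?_⟩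
      · rw [hE3']
        refine ⟨?_, J.mul_mem hyJ (d.nJ (hES hx) (J.inv_mem hyJ))⟩
        have : y * (x * y⁻¹ * x⁻¹) = (y * x * y⁻¹) * x⁻¹ := by group
        rw [this]
        exact E.mul_mem (hn y (d.JS hyJ) x hx) (E.inv_mem hx)
      · rw [d.p_mul y hyJ _ (d.nJ (hES hx) (J.inv_mem hyJ)), d.p_conj x (hES hx) _ (J.inv_mem hyJ),
          d.p_inv hyJ]
    have hne4 : p y + r x *ᵥ p y ≠ 0 := by
      intro h
      apply hv
      calc r x *ᵥ p y = (p y + p y) + r x *ᵥ p y := by rw [v2, zero_add]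
        _ = p y + (p y + r x *ᵥ p y) := by abel
        _ = p y := by rw [h, add_zero]
    have hW4ne : W4 ≠ ⊤ := by
      intro h
      obtain ⟨z, hz, hzy⟩ := (hW4 (p y)).1 (by rw [h]; trivial)
      have hz' := (hE3' z).1 hz
      have := d.p_fix (hES hx) hz'.2 (hcomm hx hz'.1)
      rw [hzy] at this
      exact hv this
    have b45 : Nat.card W4 * Nat.card W5 ≤ 8 := by
      rcases hp45 hw4 hne4 with h | h
      · exact h.trans (by norm_num)
      · rw [card_eq_one h, mul_one]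
        have h9 := card_sub_le hW4ne
        rw [card_F] at h9
        omega
    by_cases hρ : ∀ x ∈ E, r x 0 1 = 0 ∧ r x 0 2 = 0 ∧ r x 1 2 = 0
    · have c1 : Nat.card W1 = 1 := card_eq_one fun w hw => by
        obtain ⟨x, hx, rfl⟩ := (hW1 w).1 hw
        show (![r x 0 1, r x 1 2] : Fin 2 → ZMod 2) = 0
        rw [(hρ x hx).1, (hρ x hx).2.2]; decide
      have c2 : Nat.card W2 = 1 := card_eq_one fun w hw => by
        obtain ⟨x, hx, rfl⟩ := (hW2 w).1 hw
        exact (hρ x ((hE1' x).1 hx).1).2.1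
      have b36 : Nat.card W3 * Nat.card W6 ≤ 8 := by
        have hxE2 : x ∈ E2 := (hE2' x).2 ⟨hx, (hρ x hx).1, (hρ x hx).2.2, (hρ x hx).2.1⟩
        have hw3 : (![r x 0 3, r x 1 3, r x 2 3] : Fin 3 → ZMod 2) ∈ W3 := (hW3 _).2 ⟨x, hxE2, rfl⟩
        have hne3 : (![r x 0 3, r x 1 3, r x 2 3] : Fin 3 → ZMod 2) ≠ 0 := by
          intro h
          apply hrx
          rw [hrE2 x hxE2, h]
          decide
        rcases hp36 hw3 hne3 with h | h
        · exact h.trans (by norm_num)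
        · rw [card_eq_one h, mul_one]; exact b3
      rw [hcard, c1, c2, one_mul, one_mul]
      calc Nat.card W3 * (Nat.card W4 * (Nat.card W5 * (Nat.card W6 * Nat.card W7)))
          = (Nat.card W4 * Nat.card W5) * ((Nat.card W3 * Nat.card W6) * Nat.card W7) := by ring
        _ ≤ 8 * (8 * 8) := Nat.mul_le_mul b45 (Nat.mul_le_mul b36 b7)
        _ = 2 ^ 9 := by norm_num
    · -- the case `ρ₃ ≠ 1`
      push Not at hρ
      obtain ⟨u, hu, hu'⟩ := hρ
      have hu3 : ¬ (r u 0 1 = 0 ∧ r u 0 2 = 0 ∧ r u 1 2 = 0) := fun h => hu' h.1 h.2.1 h.2.2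
      -- layer 3
      obtain ⟨v, v', hv'0, hvv⟩ := ff4 _ _ (r u 0 3) _ (r u 1 3) (r u 2 3) hu3
      rw [← d.ut (hES hu)] at hvv
      obtain ⟨s, hs, hsr⟩ := d.r_surj 0 0 (v 0) 0 (v 1) (v 2)
      have hMM : Mv v * Mv v = 1 := by
        have : ∀ v, Mv v * Mv v = 1 := by decide +kernel
        exact this v
      have hsi : r s⁻¹ = Mv v := by
        have h5 : r s * r s⁻¹ = 1 := by
          rw [← d.r_mul s hs _ (S.inv_mem hs), mul_inv_cancel]
          exact (d.r_one 1 S.one_mem).2 J.one_mem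
        calc r s⁻¹ = (Mv v * Mv v) * r s⁻¹ := by rw [hMM, one_mul]
          _ = Mv v * (r s * r s⁻¹) := by rw [hsr, mul_assoc]; rfl
          _ = Mv v := by rw [h5, mul_one]
      have hwE : s * u * s⁻¹ * u⁻¹ ∈ E := E.mul_mem (hn s hs u hu) (E.inv_mem hu)
      have hrw : r (s * u * s⁻¹ * u⁻¹) = Mv v' := by
        have h5 : r (s * u * s⁻¹ * u⁻¹) * r u = Mv v' * r u := by
          rw [← d.r_mul _ (hES hwE) _ (hES hu), inv_mul_cancel_right,
            d.r_mul _ (S.mul_mem hs (hES hu)) _ (S.inv_mem hs), d.r_mul _ hs _ (hES hu), hsi, hsr]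
          exact hvv
        have h6 : r u * r u⁻¹ = 1 := by
          rw [← d.r_mul u (hES hu) _ (S.inv_mem (hES hu)), mul_inv_cancel]
          exact (d.r_one 1 S.one_mem).2 J.one_mem
        calc r (s * u * s⁻¹ * u⁻¹) = r (s * u * s⁻¹ * u⁻¹) * (r u * r u⁻¹) := by rw [h6, mul_one]
          _ = (r (s * u * s⁻¹ * u⁻¹) * r u) * r u⁻¹ := (mul_assoc _ _ _).symm
          _ = Mv v' * (r u * r u⁻¹) := by rw [h5, mul_assoc]
          _ = Mv v' := by rw [h6, mul_one]
      have hw3 : v' ∈ W3 := by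
        rw [hW3]
        refine ⟨_, (hE2' _).2 ⟨hwE, ?_, ?_, ?_⟩, ?_⟩
        · rw [hrw]; rfl
        · rw [hrw]; rfl
        · rw [hrw]; rfl
        · rw [hrw]
          funext i
          fin_cases i <;> rfl
      have hW3ne : W3 ≠ ⊤ := by
        intro h
        apply hu3
        have := ff4' (r u 0 1) (r u 0 2) (r u 0 3) (r u 1 2) (r u 1 3) (r u 2 3) (by
          intro w
          obtain ⟨z, hz, hzw⟩ := (hW3 w).1 (by rw [h]; trivial)
          have hzE := ((hE2' z).1 hz).1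
          have h5 := hrE2 z hz
          have h6 : (![r z 0 3, r z 1 3, r z 2 3] : Fin 3 → ZMod 2) = w := hzw
          rw [h6] at h5
          rw [← d.ut (hES hu), ← h5, ← d.r_mul _ (hES hu) _ (hES hzE),
            ← d.r_mul _ (hES hzE) _ (hES hu), hcomm hu hzE])
        exact this
      have b36 : Nat.card W3 * Nat.card W6 ≤ 4 := by
        rcases hp36 hw3 hv'0 with h | h
        · exact h
        · rw [card_eq_one h, mul_one]
          have h9 := card_sub_le hW3ne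
          rw [card_F] at h9
          omega
      have hW7ne : W7 ≠ ⊤ := by
        intro h
        apply hu3
        have := ff5 (r u 0 1) (r u 0 2) (r u 0 3) (r u 1 2) (r u 1 3) (r u 2 3) (by
          intro g h' l
          obtain ⟨z, hz, hzw⟩ := (hW7 ![g, h', l]).1 (by rw [h]; trivial)
          have hz' := (hE6' z).1 hz
          have h5 := hz'.2.2
          have e0 : c z 0 1 = g := congrFun hzw 0
          have e1 : c z 0 2 = h' := congrFun hzw 1
          have e2 : c z 1 2 = l := congrFun hzw 2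
          rw [e0, e1, e2] at h5
          have h6 := d.c_conj u (hES hu) z hz'.2.1
          have h7 : u * z * u⁻¹ = z := by rw [hcomm hu hz'.1]; group
          rw [h7, h5] at h6
          rw [← d.ut (hES hu)]
          exact h6.symm)
        exact this
      have b7' : Nat.card W7 ≤ 4 := by
        have h9 := card_sub_le hW7ne
        rw [card_F] at h9
        omega
      rw [hcard]
      calc Nat.card W1 * (Nat.card W2 * (Nat.card W3 * (Nat.card W4 * (Nat.card W5 *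
            (Nat.card W6 * Nat.card W7)))))
          = (Nat.card W1 * Nat.card W2) * ((Nat.card W4 * Nat.card W5) *
            ((Nat.card W3 * Nat.card W6) * Nat.card W7)) := by ring
        _ ≤ (2 * 2) * (8 * (4 * 4)) :=
            Nat.mul_le_mul (Nat.mul_le_mul b1 b2) (Nat.mul_le_mul b45 (Nat.mul_le_mul b36 b7'))
        _ = 2 ^ 9 := by norm_num

end

end Cfsg.Agent.H338.L5
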