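import Cfsg.Agent.H338.Reduce2

/-!
# Local recognition: the Sylow 2-subgroup (helper338)

`V` self-centralising, `f : N(V) →* X` surjective with kernel `V`.  If `X` has no quadratic offenders
on `V`, the normaliser of a Sylow 2-subgroup of `N(V)` lies in `N(V)`.
-/

set_option autoImplicit false
open scoped Pointwise

namespace Cfsg.Agent.H338.LocSyl

open Subgroup Cfsg.Agent.H338.Reduce

variable {G : Type*} [Group G] {X : Type*} [Group X] {V : Subgroup G}

/-- The action of `X` on `V`. -/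
noncomputable def act (f : normalizer (V : Set G) →* X) (hf : Function.Surjective f)
    (hk : f.ker = V.subgroupOf (normalizer (V : Set G)))
    (hab : ∀ a ∈ V, ∀ b ∈ V, a * b = b * a) : X →* MulAut V :=
  f.liftOfSurjective hf ⟨V.normalizerMonoidHom, by
    rw [hk, normalizerMonoidHom_ker]
    intro x hx
    rw [mem_subgroupOf] at hx ⊢
    rw [mem_centralizer_iff]
    intro v hv
    exact hab v hv _ hx⟩

theorem act_apply (f : normalizer (V : Set G) →* X) (hf : Function.Surjective f)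
    (hk : f.ker = V.subgroupOf (normalizer (V : Set G)))
    (hab : ∀ a ∈ V, ∀ b ∈ V, a * b = b * a) (x : normalizer (V : Set G)) (v : V) :
    ((act f hf hk hab (f x) v : V) : G) = x * v * (x : G)⁻¹ := by
  unfold act
  rw [MonoidHom.liftOfRightInverse_comp_apply]
  rfl

/-- The normaliser of a 2-subgroup of `N(V)` containing `V`. -/
theorem normalizer_le [Finite G] (f : normalizer (V : Set G) →* X) (hf : Function.Surjective f)
    (hk : f.ker = V.subgroupOf (normalizer (V : Set G)))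
    (hsq : ∀ v ∈ V, v * v = 1) (hab : ∀ a ∈ V, ∀ b ∈ V, a * b = b * a)
    (hno : ∀ B : Subgroup X, (∀ b ∈ B, b * b = 1) → B ≠ ⊥ → ∀ A0 : Subgroup V,
      (∀ b ∈ B, ∀ a ∈ A0, act f hf hk hab b a = a) →
      (∀ b ∈ B, ∀ a : V, act f hf hk hab b a * a ∈ A0) →
      Nat.card A0 * Nat.card B < Nat.card V)
    (S : Subgroup G) (hVS : V ≤ S) (hSN : S ≤ normalizer (V : Set G)) :
    normalizer (S : Set G) ≤ normalizer (V : Set G) := by
  intro t ht
  -- the conjugate of `V`
  let W : Subgroup G := V.map (MulAut.conj t).toMonoidHom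
  have hW : ∀ x, x ∈ W ↔ t⁻¹ * x * t ∈ V := by
    intro x
    constructor
    · rintro ⟨y, hy, rfl⟩
      have : t⁻¹ * ((MulAut.conj t).toMonoidHom y) * t = y := by
        show t⁻¹ * (t * y * t⁻¹) * t = y
        group
      rw [this]; exact hy
    · intro hx
      refine ⟨_, hx, ?_⟩
      show t * (t⁻¹ * x * t) * t⁻¹ = x
      group
  have hWS : W ≤ S := by
    rintro _ ⟨y, hy, rfl⟩
    exact (mem_normalizer_iff.1 ht y).1 (hVS hy)
  have hWN : W ≤ normalizer (V : Set G) := hWS.trans hSN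
  have hWc : Nat.card W = Nat.card V := Nat.card_congr
    (V.equivMapOfInjective (MulAut.conj t).toMonoidHom (MulAut.conj t).injective).symm.toEquiv
  have hWsq : ∀ w ∈ W, w * w = 1 := by
    intro w hw
    have h1 := hsq _ ((hW w).1 hw)
    calc w * w = t * ((t⁻¹ * w * t) * (t⁻¹ * w * t)) * t⁻¹ := by group
      _ = 1 := by rw [h1]; group
  have hWab : ∀ a ∈ W, ∀ b ∈ W, a * b = b * a := by
    intro a ha b hb
    have h1 := hab _ ((hW a).1 ha) _ ((hW b).1 hb)
    calc a * b = t * ((t⁻¹ * a * t) * (t⁻¹ * b * t)) * t⁻¹ := by group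
      _ = t * ((t⁻¹ * b * t) * (t⁻¹ * a * t)) * t⁻¹ := by rw [h1]
      _ = b * a := by group
  -- `S` normalises `W`
  have hSW : ∀ s ∈ S, ∀ w ∈ W, s * w * s⁻¹ ∈ W := by
    intro s hs w hw
    rw [hW]
    have h1 : t⁻¹ * s * t ∈ S := by
      have := (mem_normalizer_iff.1 (inv_mem ht) s).1 hs
      rwa [inv_inv] at this
    have h2 := (mem_normalizer_iff.1 (hSN h1) (t⁻¹ * w * t)).1 ((hW w).1 hw)
    have h3 : t⁻¹ * s * t * (t⁻¹ * w * t) * (t⁻¹ * s * t)⁻¹ = t⁻¹ * (s * w * s⁻¹) * t := by group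
    rwa [h3] at h2
  let g : W →* X := f.comp (Subgroup.inclusion hWN)
  have hgk : ∀ w : W, g w = 1 ↔ (w : G) ∈ V := by
    intro w
    have h1 : g w = 1 ↔ Subgroup.inclusion hWN w ∈ f.ker := Iff.rfl
    rw [h1, hk]
    rfl
  have hWV : W ≤ V := by
    by_contra hnle
    have hB : g.range ≠ ⊥ := by
      intro h
      apply hnle
      intro w hw
      have h1 : g ⟨w, hw⟩ ∈ g.range := ⟨_, rfl⟩
      rw [h, mem_bot] at h1
      exact (hgk _).1 h1
    have h1 := hno g.range (by
      rintro _ ⟨w, rfl⟩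
      rw [← map_mul]
      have : w * w = 1 := Subtype.ext (hWsq w w.2)
      rw [this, map_one]) hB (W.subgroupOf V) (by
      rintro _ ⟨w, rfl⟩ a ha
      apply Subtype.ext
      have h2 := act_apply f hf hk hab (Subgroup.inclusion hWN w) a
      have h3 : ((act f hf hk hab (g w) a : V) : G) = w * a * (w : G)⁻¹ := h2
      rw [h3, hWab w w.2 a ha]
      group) (by
      rintro _ ⟨w, rfl⟩ a
      have h2 := act_apply f hf hk hab (Subgroup.inclusion hWN w) a
      have h3 : ((act f hf hk hab (g w) a : V) : G) = w * a * (w : G)⁻¹ := h2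
      show ((act f hf hk hab (g w) a * a : V) : G) ∈ W
      rw [Subgroup.coe_mul, h3]
      have h4 := hSW a (hVS a.2) (w : G)⁻¹ (W.inv_mem w.2)
      have h5 : (a : G)⁻¹ = a := inv_eq_of_mul_eq_one_left (hsq a a.2)
      rw [h5] at h4
      have h6 : (w : G) * a * (w : G)⁻¹ * a = w * (a * (w : G)⁻¹ * a) := by group
      rw [h6]
      exact W.mul_mem w.2 h4)
    have h2 : Nat.card g.ker * Nat.card g.range = Nat.card W := by
      rw [← Subgroup.index_ker, Subgroup.card_mul_index]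
    have h3 : Nat.card g.ker = Nat.card (W.subgroupOf V) := by
      refine Nat.card_congr ⟨fun w => ⟨⟨w.1, (hgk _).1 w.2⟩, w.1.2⟩,
        fun v => ⟨⟨v.1, v.2⟩, (hgk _).2 v.1.2⟩, ?_, ?_⟩
      · intro w; rfl
      · intro v; rfl
    rw [← h3, h2, hWc] at h1
    exact lt_irrefl _ h1
  have hWV' : W = V := Subgroup.eq_of_le_of_card_ge hWV hWc.ge
  rw [mem_normalizer_iff]
  intro x
  constructor
  · intro hx
    rw [← hWV']
    exact ⟨x, hx, rfl⟩
  · intro hx
    rw [← hWV', hW] at hx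
    have : t⁻¹ * (t * x * t⁻¹) * t = x := by group
    rwa [this] at hx

/-- A Sylow 2-subgroup `S` of `N` with `N_G(S) ≤ N` has odd index in `G`. -/
theorem not_dvd_index [Finite G] (N S : Subgroup G) {m : ℕ} (hS : Nat.card S = 2 ^ m)
    (hNm : ¬ 2 ^ (m + 1) ∣ Nat.card N) (hnorm : normalizer (S : Set G) ≤ N) : ¬ 2 ∣ S.index := by
  have : Fact (Nat.Prime 2) := ⟨Nat.prime_two⟩
  intro h2
  have h3 : 2 ^ (m + 1) ∣ Nat.card G := by
    rw [← S.card_mul_index, hS, pow_succ]
    exact Nat.mul_dvd_mul_left _ h2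
  have h4 := Sylow.prime_pow_dvd_card_normalizer h3 hS
  exact hNm (h4.trans (Subgroup.card_dvd_of_le hnorm))

/-- Frattini. -/
theorem eq_top [Finite G] (K N S : Subgroup G) (hK : K.Normal) (hNK : N ≤ K) (hSN : S ≤ N)
    {m : ℕ} (hS : Nat.card S = 2 ^ m) (hi : ¬ 2 ∣ S.index) (hnorm : normalizer (S : Set G) ≤ N) :
    K = ⊤ := by
  have : Fact (Nat.Prime 2) := ⟨Nat.prime_two⟩
  have hSK : S ≤ K := hSN.trans hNK
  have h1 : IsPGroup 2 (S.subgroupOf K) := by
    apply IsPGroup.of_card (n := m)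
    rw [Nat.card_congr (Subgroup.subgroupOfEquivOfLe hSK).toEquiv, hS]
  have h2 : ¬ 2 ∣ (S.subgroupOf K).index := by
    intro h
    exact hi (h.trans (Subgroup.relIndex_dvd_index_of_le hSK))
  let P : Sylow 2 K := h1.toSylow h2
  have h3 := Sylow.normalizer_sup_eq_top P
  have h4 : ((P : Subgroup K).map K.subtype) = S := by
    show (S.subgroupOf K).map K.subtype = S
    rw [subgroupOf_map_subtype, inf_eq_left]
    exact hSK
  rw [h4] at h3
  rw [← h3]
  exact (sup_eq_right.2 (hnorm.trans hNK)).symm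

end Cfsg.Agent.H338.LocSyl
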