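import Cfsg.Agent.H338.L5MkDat
import Cfsg.Agent.H338.LocSyl
import Cfsg.Agent.S0242

/-!
# The order of a Sylow 2-subgroup (helper338)
-/

set_option autoImplicit false

namespace Cfsg.Agent.H338.L5

open Matrix Subgroup

theorem card_X : Nat.card X = 9999360 := by
  have h := Cfsg.Agent.S0242.result (F := ZMod 2) (q := 2) (ZMod.card 2) 5 (by norm_num)
  rw [Fin.prod_univ_five] at h
  have e : ((2 : ℕ) ^ 5 - 2 ^ ((0 : Fin 5) : ℕ)) * (2 ^ 5 - 2 ^ ((1 : Fin 5) : ℕ)) *
      (2 ^ 5 - 2 ^ ((2 : Fin 5) : ℕ)) * (2 ^ 5 - 2 ^ ((3 : Fin 5) : ℕ)) *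
      (2 ^ 5 - 2 ^ ((4 : Fin 5) : ℕ)) = 9999360 := by decide +kernel
  rw [e] at h
  have h' : (2 - 1) * Nat.card X = 9999360 := h
  rw [show (2 - 1 : ℕ) = 1 by norm_num, one_mul] at h'
  exact h'

theorem card_U : Nat.card (U up) = 2 ^ 10 := by
  rw [← card_F (n := 10)]
  symm
  choose f hf hfU using exists_UT5
  apply Nat.card_congr
  refine Equiv.ofBijective (fun v : Fin 10 → ZMod 2 =>
    (⟨f (v 0) (v 1) (v 2) (v 3) (v 4) (v 5) (v 6) (v 7) (v 8) (v 9), hfU _ _ _ _ _ _ _ _ _ _⟩ :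
      U up)) ⟨?_, ?_⟩
  · intro v w h
    have h1 : UT5 (v 0) (v 1) (v 2) (v 3) (v 4) (v 5) (v 6) (v 7) (v 8) (v 9) =
        UT5 (w 0) (w 1) (w 2) (w 3) (w 4) (w 5) (w 6) (w 7) (w 8) (w 9) := by
      rw [← hf, ← hf]
      exact congrArg (fun z : U up => (z : X).1) h
    funext i
    fin_cases i
    · exact congrFun (congrFun h1 0) 1
    · exact congrFun (congrFun h1 0) 2
    · exact congrFun (congrFun h1 0) 3
    · exact congrFun (congrFun h1 1) 2
    · exact congrFun (congrFun h1 1) 3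
    · exact congrFun (congrFun h1 2) 3
    · exact congrFun (congrFun h1 0) 4
    · exact congrFun (congrFun h1 1) 4
    · exact congrFun (congrFun h1 2) 4
    · exact congrFun (congrFun h1 3) 4
  · rintro ⟨g, hg⟩
    obtain ⟨a, b, c, d, e, f', u0, u1, u2, u3, h⟩ := U_form hg
    refine ⟨![a, b, c, d, e, f', u0, u1, u2, u3], Subtype.ext (Subtype.ext ?_)⟩
    show (f a b c d e f' u0 u1 u2 u3).1 = g.1
    rw [hf, h]

section

variable {G : Type*} [Group G] {V : Subgroup G} {F : normalizer (V : Set G) →* X} {ψ : G → M5}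

theorem Nat5.card_V [Finite G] (H : Nat5 V F ψ) : Nat.card V = 2 ^ 10 := by
  have h1 : Nat.card V ≤ 2 ^ 10 := by
    refine le_trans ?_ card_Alt_le
    have : Finite Alt := Subtype.finite
    refine Nat.card_le_card_of_injective (fun v : V => (⟨ψ v, H.alt v v.2⟩ : Alt)) ?_
    intro v w h
    have h2 : ψ v = ψ w := congrArg Subtype.val h
    have h3 : ψ ((v : G) * w) = 0 := by
      rw [H.add _ v.2 _ w.2, h2]
      ext i j; exact CharTwo.add_self_eq_zero _
    have h4 := H.inj _ (V.mul_mem v.2 w.2) h3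
    exact Subtype.ext (mul_right_cancel (h4.trans (H.sq _ w.2).symm))
  have h2 : 2 ^ 10 ≤ Nat.card V := by
    obtain ⟨E0, W, hE0, hW, hc⟩ := lay V (fun x => pB (ψ x)) (fun x hx y hy => by
      show pB (ψ (x * y)) = _
      rw [H.add x hx y hy, pB_add])
    have h3 : W = ⊤ := by
      rw [eq_top_iff]
      intro v _
      obtain ⟨x, hx, hxv⟩ := H.dat.k_surj v
      exact (hW v).2 ⟨x, hx, hxv⟩
    rw [hc, h3]
    have h4 : Nat.card (⊤ : AddSubgroup V4) = 2 ^ 4 := by
      rw [AddSubgroup.card_top, card_F]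
    have h5 : 2 ^ 6 ≤ Nat.card E0 := by
      rw [← card_F (n := 6)]
      choose f hf hfc using H.dat.c_surj
      refine Nat.card_le_card_of_injective (fun v : Fin 6 → ZMod 2 =>
        (⟨f (v 0) (v 1) (v 2) (v 3) (v 4) (v 5), (hE0 _).2
          ⟨(hf _ _ _ _ _ _).1, (hf _ _ _ _ _ _).2⟩⟩ : E0)) ?_
      intro v w h
      have h6 : ALm (v 0) (v 1) (v 2) (v 3) (v 4) (v 5) = ALm (w 0) (w 1) (w 2) (w 3) (w 4) (w 5) := by
        rw [← hfc, ← hfc]
        exact congrArg (fun z : E0 => rB (ψ (z : G))) h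
      funext i
      fin_cases i
      · exact congrFun (congrFun h6 0) 1
      · exact congrFun (congrFun h6 0) 2
      · exact congrFun (congrFun h6 0) 3
      · exact congrFun (congrFun h6 1) 2
      · exact congrFun (congrFun h6 1) 3
      · exact congrFun (congrFun h6 2) 3
    rw [h4]
    calc 2 ^ 10 = 2 ^ 4 * 2 ^ 6 := by norm_num
      _ ≤ _ := Nat.mul_le_mul_left _ h5
  exact le_antisymm h1 h2

theorem Nat5.ker_eq (H : Nat5 V F ψ) : F.ker = V.subgroupOf (normalizer (V : Set G)) := by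
  ext x
  rw [MonoidHom.mem_ker, H.ker]
  rfl

theorem Nat5.card_ker [Finite G] (H : Nat5 V F ψ) : Nat.card F.ker = 2 ^ 10 := by
  rw [H.ker_eq, Nat.card_congr (Subgroup.subgroupOfEquivOfLe le_normalizer).toEquiv, H.card_V]

theorem Nat5.card_comap [Finite G] (H : Nat5 V F ψ) (B : Subgroup X) :
    Nat.card (B.comap F) = 2 ^ 10 * Nat.card B := by
  have h1 := (B.comap F).card_mul_index
  have h2 := B.card_mul_index
  have h3 := F.ker.card_mul_index
  rw [Subgroup.index_comap_of_surjective _ H.surj] at h1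
  rw [Subgroup.index_ker, MonoidHom.range_eq_top.2 H.surj, Subgroup.card_top, H.card_ker] at h3
  have h4 : 0 < B.index := Nat.pos_of_ne_zero B.index_ne_zero_of_finite
  apply Nat.eq_of_mul_eq_mul_right h4
  rw [h1, mul_assoc, h2, h3]

theorem Nat5.card_N [Finite G] (H : Nat5 V F ψ) :
    Nat.card (normalizer (V : Set G)) = 2 ^ 20 * 9765 := by
  have h1 := H.card_comap ⊤
  rw [Subgroup.comap_top, Subgroup.card_top, Subgroup.card_top, card_X] at h1
  rw [h1]
  norm_num

theorem Nat5.card_SS [Finite G] (H : Nat5 V F ψ) : Nat.card (SS F) = 2 ^ 20 := by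
  have h1 := H.card_comap (U up)
  rw [card_U] at h1
  have h2 : Nat.card (SS F) = Nat.card ((U up).comap F) := Nat.card_congr
    (Subgroup.equivMapOfInjective _ (normalizer (V : Set G)).subtype
      (normalizer (V : Set G)).subtype_injective).symm.toEquiv
  rw [h2, h1]
  norm_num

/-- A 2-subgroup of the normaliser containing `SS F`. -/
theorem Nat5.maximal [Finite G] (H : Nat5 V F ψ) {Q : Subgroup G} (hQ : IsPGroup 2 Q)
    (hSQ : SS F ≤ Q) (hQN : Q ≤ normalizer (V : Set G)) : Q = SS F := by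
  have : Fact (Nat.Prime 2) := ⟨Nat.prime_two⟩
  obtain ⟨k, hk⟩ := IsPGroup.iff_card.1 hQ
  have h1 : 2 ^ k ∣ 2 ^ 20 * 9765 := by
    rw [← hk, ← H.card_N]
    exact Subgroup.card_dvd_of_le hQN
  have h2 : k ≤ 20 := by
    by_contra hcon
    have h3 : 2 ^ 21 ∣ 2 ^ 20 * 9765 := (pow_dvd_pow 2 (by omega)).trans h1
    norm_num at h3
  symm
  apply Subgroup.eq_of_le_of_card_ge hSQ
  rw [hk, H.card_SS]
  exact Nat.pow_le_pow_right (by norm_num) h2

/-- The 2-part of the order. -/
theorem Nat5.two_part [Finite G] (H : Nat5 V F ψ) :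
    ¬ 2 ^ 21 ∣ Nat.card G ∨ (¬ 2 ^ 22 ∣ Nat.card G ∧ ∃ T : Subgroup G, SS F ≤ T ∧
      Nat.card T = 2 ^ 21) := by
  have : Fact (Nat.Prime 2) := ⟨Nat.prime_two⟩
  have hS2 : IsPGroup 2 (SS F) := IsPGroup.of_card H.card_SS
  obtain ⟨Q, hSQ⟩ := hS2.exists_le_sylow
  have hQ2 := Q.2
  obtain ⟨m, hm⟩ := IsPGroup.iff_card.1 hQ2
  -- the part of `Q` normalising `V`
  have hQN : ∀ t ∈ (Q : Subgroup G), (∀ a ∈ V, t * a * t⁻¹ ∈ V) → t ∈ SS F := by
    intro t ht htV
    have h1 : (Q : Subgroup G) ⊓ normalizer (V : Set G) = SS F :=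
      H.maximal (hQ2.to_le inf_le_left) (le_inf hSQ SS_le) inf_le_right
    rw [← h1]
    refine ⟨ht, ?_⟩
    show t ∈ normalizer (V : Set G)
    rw [mem_normalizer_iff]
    intro h
    constructor
    · exact htV h
    · intro hh
      have h2 : V.map (MulAut.conj t).toMonoidHom = V := by
        apply Subgroup.eq_of_le_of_card_ge
        · rintro _ ⟨a, ha, rfl⟩
          exact htV a ha
        · rw [Nat.card_congr (Subgroup.equivMapOfInjective V (MulAut.conj t).toMonoidHom
            (MulAut.conj t).injective).toEquiv]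
      have hh' : t * h * t⁻¹ ∈ V.map (MulAut.conj t).toMonoidHom := by
        rw [h2]; exact hh
      obtain ⟨a, ha, hah⟩ := hh'
      have h3 : t * a * t⁻¹ = t * h * t⁻¹ := hah
      have h4 := mul_right_cancel h3
      have h5 := mul_left_cancel h4
      rw [← h5]
      exact ha
  have hcardQ : ∀ n, 2 ^ n ∣ Nat.card G → n ≤ m := by
    intro n hn
    have h1 : ¬ 2 ∣ (Q : Subgroup G).index := Q.not_dvd_index
    have h2 := (Q : Subgroup G).card_mul_index
    rw [← h2, hm] at hn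
    have h3 : 2 ^ n ∣ 2 ^ m := by
      apply Nat.Coprime.dvd_of_dvd_mul_right _ hn
      apply Nat.Coprime.pow_left
      exact (Nat.Prime.coprime_iff_not_dvd Nat.prime_two).2 h1
    exact (Nat.pow_dvd_pow_iff_le_right (by norm_num)).1 h3
  by_cases hm20 : m ≤ 20
  · left
    intro h
    have := hcardQ 21 h
    omega
  right
  have hmS : 20 < m := by omega
  -- a subgroup of order `2^21`
  have hSub : Nat.card ((SS F).subgroupOf (Q : Subgroup G)) = 2 ^ 20 := by
    rw [Nat.card_congr (Subgroup.subgroupOfEquivOfLe hSQ).toEquiv, H.card_SS]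
  obtain ⟨T', hT', hST'⟩ := Sylow.exists_subgroup_card_pow_succ (G := (Q : Subgroup G)) (p := 2)
    (n := 20) (by rw [hm]; exact pow_dvd_pow 2 (by omega)) hSub
  let T : Subgroup G := T'.map (Q : Subgroup G).subtype
  have hTQ : T ≤ Q := map_subtype_le _
  have hST : SS F ≤ T := by
    intro x hx
    exact ⟨⟨x, hSQ hx⟩, hST' hx, rfl⟩
  have hTc : Nat.card T = 2 ^ 21 := by
    rw [← hT']
    exact (Nat.card_congr (Subgroup.equivMapOfInjective T' (Q : Subgroup G).subtype
      (Q : Subgroup G).subtype_injective).toEquiv).symm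
  refine ⟨?_, T, hST, hTc⟩
  obtain ⟨g, w⟩ := H.dat.exists_Sw H.card_V hST (by rw [hTc, H.card_SS]; norm_num)
    (fun t ht htV => hQN t (hTQ ht) htV)
  -- `T` is self-normalising in `Q`
  have hTT : T' = ⊤ := by
    by_contra hne
    have hnil : Group.IsNilpotent (Q : Subgroup G) := hQ2.isNilpotent
    have hlt := Group.normalizerCondition_of_isNilpotent (G := (Q : Subgroup G)) T' (lt_top_iff_ne_top.2 hne)
    obtain ⟨t, ht, htT⟩ := SetLike.exists_of_lt hlt
    apply htT
    have hn : ∀ x : G, x ∈ T ↔ (t : G) * x * (t : G)⁻¹ ∈ T := by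
      intro x
      constructor
      · rintro ⟨y, hy, rfl⟩
        exact ⟨t * y * t⁻¹, (mem_normalizer_iff.1 ht y).1 hy, rfl⟩
      · rintro ⟨y, hy, hyx⟩
        have h1 : x = ((t⁻¹ * y * t : (Q : Subgroup G)) : G) := by
          have h2 : (y : G) = (t : G) * x * (t : G)⁻¹ := hyx
          show x = (t : G)⁻¹ * y * t
          rw [h2]; group
        have h3 : t⁻¹ * y * t ∈ T' := by
          apply (mem_normalizer_iff.1 ht _).2
          have : t * (t⁻¹ * y * t) * t⁻¹ = y := by group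
          rw [this]; exact hy
        rw [h1]
        exact ⟨_, h3, rfl⟩
    rcases w.main H.card_V hn with h | h
    · have h1 := hQN t t.2 h
      exact hST' h1
    · have h1 : g * (t : G) ∈ SS F := hQN _ (mul_mem (hTQ w.gT) t.2) h
      have h2 : (t : G) ∈ T := by
        have : (t : G) = g⁻¹ * (g * t) := by group
        rw [this]
        exact T.mul_mem (T.inv_mem w.gT) (hST h1)
      obtain ⟨y, hy, hyt⟩ := h2
      have h3 : y = t := Subtype.ext hyt
      rw [← h3]; exact hy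
  have hm21 : m = 21 := by
    rw [hTT, Subgroup.card_top] at hT'
    have h1 : 2 ^ m = 2 ^ 21 := by rw [← hm]; exact hT'
    exact Nat.pow_right_injective (le_refl 2) h1
  intro h
  have := hcardQ 22 h
  omega

end

end Cfsg.Agent.H338.L5
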