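import Cfsg.Agent.H338.L5Elts
import Cfsg.Agent.H338.L5Syl

/-!
# No invariant forms (helper338)
-/

set_option autoImplicit false

namespace Cfsg.Agent.H338.L5

open Matrix Subgroup

/-- The wedge of two vectors. -/
def wd (u v : Fin 5 → ZMod 2) : M5 := Matrix.vecMulVec u v + Matrix.vecMulVec v u

theorem wd_conj (g : M5) (u v : Fin 5 → ZMod 2) : g * wd u v * gᵀ = wd (g *ᵥ u) (g *ᵥ v) := by
  unfold wd
  rw [mul_add, add_mul, Matrix.mul_vecMulVec, Matrix.mul_vecMulVec, Matrix.vecMulVec_mul,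
    Matrix.vecMulVec_mul, Matrix.vecMul_transpose, Matrix.vecMul_transpose]

theorem wd_add (u u' v : Fin 5 → ZMod 2) : wd (u + u') v = wd u v + wd u' v := by
  unfold wd
  rw [Matrix.add_vecMulVec, Matrix.vecMulVec_add]
  abel

theorem wd_comm (u v : Fin 5 → ZMod 2) : wd u v = wd v u := by
  unfold wd
  rw [add_comm]

theorem wd_mem (u v : Fin 5 → ZMod 2) : wd u v ∈ Alt := by
  constructor
  · intro a b
    show u a * v b + v a * u b = u b * v a + v b * u a
    ring
  · intro a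
    show u a * v a + v a * u a = 0
    rw [mul_comm, CharTwo.add_self_eq_zero]

theorem wd_self (u : Fin 5 → ZMod 2) : wd u u = 0 := by
  unfold wd
  ext a b
  exact CharTwo.add_self_eq_zero _

def ev (i : Fin 5) : Fin 5 → ZMod 2 := Pi.single i 1

theorem T_ev_same {i j : Fin 5} (h : i ≠ j) : (T h).1 *ᵥ ev j = ev j + ev i := by
  have h1 : (T h).1 = 1 + Matrix.single i j 1 := rfl
  rw [h1, Matrix.add_mulVec, Matrix.one_mulVec]
  congr 1
  unfold ev
  rw [Matrix.single_mulVec]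
  simp
  rfl

theorem T_ev_ne {i j k : Fin 5} (h : i ≠ j) (hk : k ≠ j) : (T h).1 *ᵥ ev k = ev k := by
  have h1 : (T h).1 = 1 + Matrix.single i j 1 := rfl
  rw [h1, Matrix.add_mulVec, Matrix.one_mulVec]
  unfold ev
  rw [Matrix.single_mulVec, Pi.single_eq_of_ne hk.symm]
  simp

/-- `AL5` as a homomorphism. -/
def AL5h : (Fin 10 → ZMod 2) →+ M5 where
  toFun := AL5
  map_zero' := by
    ext i j
    fin_cases i <;> fin_cases j <;> rfl
  map_add' := by
    intro m m'
    ext i j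
    fin_cases i <;> fin_cases j <;> simp [AL5]

theorem AL5_single : ∀ k : Fin 10, ∃ i j : Fin 5, i ≠ j ∧ AL5 (Pi.single k 1) = wd (ev i) (ev j) := by
  decide +kernel

theorem AL5_mem (m : Fin 10 → ZMod 2) : AL5 m ∈ Alt := by
  constructor
  · intro i j; fin_cases i <;> fin_cases j <;> rfl
  · intro i; fin_cases i <;> rfl

/-- Every alternating matrix is a sum of wedges of basis vectors. -/
theorem Alt_span {p : M5 → Prop} (h0 : p 0) (hadd : ∀ a ∈ Alt, ∀ b ∈ Alt, p a → p b → p (a + b))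
    (he : ∀ i j : Fin 5, i ≠ j → p (wd (ev i) (ev j))) : ∀ B ∈ Alt, p B := by
  intro B hB
  obtain ⟨m, rfl⟩ := AL5_of hB
  have h1 : AL5 m = ∑ k, AL5h (Pi.single k (m k)) := by
    rw [← map_sum, Finset.univ_sum_single]
    rfl
  have h2 : (∑ k, AL5h (Pi.single k (m k))) ∈ Alt ∧ p (∑ k, AL5h (Pi.single k (m k))) := by
    apply Finset.sum_induction (fun k => AL5h (Pi.single k (m k))) (fun B => B ∈ Alt ∧ p B)
    · rintro a b ⟨ha, ha'⟩ ⟨hb, hb'⟩
      exact ⟨Alt.add_mem ha hb, hadd a ha b hb ha' hb'⟩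
    · exact ⟨Alt.zero_mem, h0⟩
    · intro k _
      refine ⟨AL5_mem _, ?_⟩
      have hc : ∀ c : ZMod 2, c = 0 ∨ c = 1 := by decide
      rcases hc (m k) with h | h
      · rw [h, Pi.single_zero, map_zero]; exact h0
      · rw [h]
        obtain ⟨i, j, hij, he'⟩ := AL5_single k
        have h3 : AL5h (Pi.single k 1) = wd (ev i) (ev j) := he'
        rw [h3]
        exact he i j hij
  rw [h1]
  exact h2.2

/-- There is no non-degenerate invariant alternating form. -/
theorem no_form (γ : M5 → M5 → ℤˣ)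
    (h1 : ∀ a ∈ Alt, ∀ b ∈ Alt, ∀ c ∈ Alt, γ (a + b) c = γ a c * γ b c)
    (h2 : ∀ a ∈ Alt, ∀ b ∈ Alt, ∀ c ∈ Alt, γ a (b + c) = γ a b * γ a c)
    (h3 : ∀ a ∈ Alt, γ a a = 1)
    (h4 : ∀ (g : X), ∀ a ∈ Alt, ∀ b ∈ Alt, γ (g.1 * a * (g.1)ᵀ) (g.1 * b * (g.1)ᵀ) = γ a b) :
    ∀ a ∈ Alt, ∀ b ∈ Alt, γ a b = 1 := by
  have h01 : ∀ b ∈ Alt, γ 0 b = 1 := by
    intro b hb
    have := h1 0 Alt.zero_mem 0 Alt.zero_mem b hb
    rw [add_zero] at this
    exact left_eq_mul.1 this
  have h02 : ∀ b ∈ Alt, γ b 0 = 1 := by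
    intro b hb
    have := h2 b hb 0 Alt.zero_mem 0 Alt.zero_mem
    rw [add_zero] at this
    exact left_eq_mul.1 this
  -- one common index
  have hA : ∀ a b c d : Fin 5, c ≠ b → c ≠ d → b ≠ d → a ≠ b → a ≠ c → a ≠ d →
      γ (wd (ev c) (ev b)) (wd (ev c) (ev d)) = 1 := by
    intro a b c d hcb hcd hbd hab hac had
    have h := h4 (T (i := c) (j := a) hac.symm) (wd (ev a) (ev b)) (wd_mem _ _) (wd (ev c) (ev d))
      (wd_mem _ _)
    rw [wd_conj, wd_conj, T_ev_same, T_ev_ne _ hab.symm, T_ev_ne _ hac.symm, T_ev_ne _ had.symm,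
      wd_add, h1 _ (wd_mem _ _) _ (wd_mem _ _) _ (wd_mem _ _)] at h
    exact mul_eq_left.1 h
  -- disjoint indices
  have hB : ∀ a b c d f : Fin 5, a ≠ b → c ≠ d → a ≠ c → a ≠ d → b ≠ c → b ≠ d → f ≠ a → f ≠ b →
      f ≠ c → f ≠ d → γ (wd (ev a) (ev b)) (wd (ev c) (ev d)) = 1 := by
    intro a b c d f hab hcd hac had hbc hbd hfa hfb hfc hfd
    have h := h4 (T (i := a) (j := f) hfa.symm) (wd (ev f) (ev b)) (wd_mem _ _) (wd (ev c) (ev d))
      (wd_mem _ _)
    rw [wd_conj, wd_conj, T_ev_same, T_ev_ne _ hfb.symm, T_ev_ne _ hfc.symm, T_ev_ne _ hfd.symm,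
      wd_add, h1 _ (wd_mem _ _) _ (wd_mem _ _) _ (wd_mem _ _)] at h
    exact mul_eq_left.1 h
  have hex : ∀ a b c d : Fin 5, ∃ f : Fin 5, f ≠ a ∧ f ≠ b ∧ f ≠ c ∧ f ≠ d := by decide
  have hbas : ∀ a b c d : Fin 5, a ≠ b → c ≠ d → γ (wd (ev a) (ev b)) (wd (ev c) (ev d)) = 1 := by
    intro a b c d hab hcd
    obtain ⟨f, hfa, hfb, hfc, hfd⟩ := hex a b c d
    by_cases hac : a = c
    · subst hac
      by_cases hbd : b = d
      · subst hbd; exact h3 _ (wd_mem _ _)
      · exact hA f b a d hab hcd hbd hfb hfa hfd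
    · by_cases had : a = d
      · subst had
        rw [wd_comm (ev c)]
        by_cases hbc : b = c
        · subst hbc; exact h3 _ (wd_mem _ _)
        · exact hA f b a c hab hcd.symm hbc hfb hfa hfc
      · by_cases hbc : b = c
        · subst hbc
          rw [wd_comm (ev a)]
          exact hA f a b d hab.symm hcd had hfa hfb hfd
        · by_cases hbd : b = d
          · subst hbd
            rw [wd_comm (ev a), wd_comm (ev c)]
            exact hA f a b c hab.symm hcd.symm hac hfa hfb hfc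
          · exact hB a b c d f hab hcd hac had hbc hbd hfa hfb hfc hfd
  have hstep : ∀ a b : Fin 5, a ≠ b → ∀ B ∈ Alt, γ (wd (ev a) (ev b)) B = 1 := by
    intro a b hab
    apply Alt_span
    · exact h02 _ (wd_mem _ _)
    · intro x hx y hy hx' hy'
      rw [h2 _ (wd_mem _ _) _ hx _ hy, hx', hy', one_mul]
    · intro i j hij; exact hbas a b i j hab hij
  intro a ha b hb
  revert a
  apply Alt_span
  · exact h01 b hb
  · intro x hx y hy hx' hy'
    rw [h1 _ hx _ hy _ hb, hx', hy', one_mul]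
  · intro i j hij; exact hstep i j hij b hb

end Cfsg.Agent.H338.L5
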