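import Cfsg.Agent.H338.L5Many

/-!
# The modules of order `2^10` of `SL(5,2)` (helper338)
-/

set_option autoImplicit false

namespace Cfsg.Agent.H338.L5

open Equiv Matrix

def rv : Perm (Fin 5) := swap 0 4 * swap 1 3

theorem rv_rv : rv * rv = 1 := by decide

/-- The graph automorphism. -/
def tw : X →* X where
  toFun g := P rv * (SpecialLinearGroup.transpose g⁻¹) * P rv
  map_one' := by
    apply Subtype.ext
    show (P rv : Matrix (Fin 5) (Fin 5) (ZMod 2)) * ((1 : X)⁻¹ : X).1ᵀ * (P rv).1 = 1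
    rw [inv_one]
    show (P rv : Matrix (Fin 5) (Fin 5) (ZMod 2)) * (1 : Matrix (Fin 5) (Fin 5) (ZMod 2))ᵀ * (P rv).1 = 1
    rw [Matrix.transpose_one, mul_one]
    exact congrArg Subtype.val (show P rv * P rv = 1 by rw [← map_mul, rv_rv, map_one])
  map_mul' g h := by
    apply Subtype.ext
    show (P rv : Matrix (Fin 5) (Fin 5) (ZMod 2)) * ((g * h)⁻¹ : X).1ᵀ * (P rv).1 =
      ((P rv).1 * (g⁻¹ : X).1ᵀ * (P rv).1) * ((P rv).1 * (h⁻¹ : X).1ᵀ * (P rv).1)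
    have h1 : ((g * h)⁻¹ : X).1ᵀ = (g⁻¹ : X).1ᵀ * (h⁻¹ : X).1ᵀ := by
      have e : (g * h)⁻¹ = h⁻¹ * g⁻¹ := _root_.mul_inv_rev g h
      generalize g⁻¹ = a at e ⊢
      generalize h⁻¹ = b at e ⊢
      rw [e]
      exact Matrix.transpose_mul b.1 a.1
    have h2 : (P rv).1 * (P rv).1 = 1 :=
      congrArg Subtype.val (show P rv * P rv = 1 by rw [← map_mul, rv_rv, map_one])
    rw [h1]
    calc (P rv).1 * ((g⁻¹ : X).1ᵀ * (h⁻¹ : X).1ᵀ) * (P rv).1 =
        (P rv).1 * (g⁻¹ : X).1ᵀ * 1 * (h⁻¹ : X).1ᵀ * (P rv).1 := by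
          simp only [mul_assoc, mul_one]
      _ = _ := by rw [← h2]; simp only [mul_assoc]

theorem tw_tw (g : X) : tw (tw g) = g := by
  have hrv : (P rv)⁻¹ = P rv := inv_eq_of_mul_eq_one_left (by rw [← map_mul, rv_rv, map_one])
  have hP2 : (P rv).1 * (P rv).1 = 1 :=
      congrArg Subtype.val (show P rv * P rv = 1 by rw [← map_mul, rv_rv, map_one])
  have hPt : ((P rv).1)ᵀ = (P rv).1 := by decide +kernel
  have h1 : (tw g)⁻¹ = tw g⁻¹ := (map_inv tw g).symm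
  apply Subtype.ext
  show (P rv).1 * ((tw g)⁻¹ : X).1ᵀ * (P rv).1 = g.1
  rw [h1]
  show (P rv).1 * ((P rv).1 * (g⁻¹⁻¹ : X).1ᵀ * (P rv).1)ᵀ * (P rv).1 = g.1
  rw [inv_inv, Matrix.transpose_mul, Matrix.transpose_mul, Matrix.transpose_transpose, hPt]
  calc (P rv).1 * ((P rv).1 * (g.1 * (P rv).1)) * (P rv).1 =
      ((P rv).1 * (P rv).1) * g.1 * ((P rv).1 * (P rv).1) := by simp only [mul_assoc]
    _ = g.1 := by rw [hP2, one_mul, mul_one]

noncomputable def twe : X ≃* X := MulEquiv.ofBijective tw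
  ⟨fun a b h => by rw [← tw_tw a, h, tw_tw], fun a => ⟨tw a, tw_tw a⟩⟩

theorem twe_apply (g : X) : twe g = tw g := rfl

theorem tw_of {g : X} (h : g⁻¹ = g) :
    (tw g : Matrix (Fin 5) (Fin 5) (ZMod 2)) = (P rv).1 * (g.1)ᵀ * (P rv).1 := by
  show (P rv).1 * (g⁻¹ : X).1ᵀ * (P rv).1 = _
  rw [h]

theorem tw_x (i : Fin 4) : tw (x i) = x (Fin.rev i) := by
  have : ∀ i, (P rv).1 * ((x i).1)ᵀ * (P rv).1 = (x (Fin.rev i) : X).1 := by
    decide +kernel
  exact Subtype.ext ((tw_of (x_inv i)).trans (this i))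
theorem tw_y (i : Fin 4) : tw (y i) = y (Fin.rev i) := by
  have : ∀ i, (P rv).1 * ((y i).1)ᵀ * (P rv).1 = (y (Fin.rev i) : X).1 := by
    decide +kernel
  exact Subtype.ext ((tw_of (y_inv i)).trans (this i))
theorem tw_n (i : Fin 4) : tw (n i) = n (Fin.rev i) := by
  have : ∀ i, (P rv).1 * ((n i).1)ᵀ * (P rv).1 = (n (Fin.rev i) : X).1 := by
    decide +kernel
  exact Subtype.ext ((tw_of (n_inv i)).trans (this i))

variable {M : Type*} [AddCommGroup M]

theorem Eig.twist {φ : X →* AddMonoid.End M} {f : M →+ ZMod 2} {D : Fin 4 → Prop}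
    (E : Eig φ f D) : Eig (φ.comp tw) f (fun i => D (Fin.rev i)) where
  ne := E.ne
  yy i m := by
    show f (φ (tw (y i)) m) = f m
    rw [tw_y, E.yy]
  nn i hi m := by
    show f (φ (tw (n i)) m) = f m
    rw [tw_n, E.nn _ hi]
  xx i hi m := by
    show f (φ (tw (x i)) m) = f m + f (φ (tw (n i)) m)
    rw [tw_x, tw_n, E.xx _ hi]

theorem hirr_twist {φ : X →* AddMonoid.End M}
    (hirr : ∀ W : AddSubgroup M, (∀ g, ∀ m ∈ W, φ g m ∈ W) → W = ⊥ ∨ W = ⊤) :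
    ∀ W : AddSubgroup M, (∀ g, ∀ m ∈ W, φ.comp tw g m ∈ W) → W = ⊥ ∨ W = ⊤ := by
  intro W hW
  apply hirr
  intro g m hm
  have := hW (tw g) m hm
  have h3 : φ.comp tw (tw g) = φ g := congrArg φ (tw_tw g)
  rwa [h3] at this

/-- An irreducible module of order `2^10` for `SL(5,2)` is, up to the graph automorphism, the
exterior square. -/
theorem ident [Finite M] (hcard : Nat.card M = 2 ^ 10) (h2 : ∀ m : M, m + m = 0)
    (φ : X →* AddMonoid.End M)
    (hirr : ∀ W : AddSubgroup M, (∀ g, ∀ m ∈ W, φ g m ∈ W) → W = ⊥ ∨ W = ⊤) :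
    ∃ (α : X ≃* X) (ψ : M ≃+ Alt), ∀ g m, (ψ (φ (α g) m) : Matrix (Fin 5) (Fin 5) (ZMod 2)) =
      (g : Matrix (Fin 5) (Fin 5) (ZMod 2)) * ψ m * (g : Matrix (Fin 5) (Fin 5) (ZMod 2))ᵀ := by
  have : Nontrivial M := by
    rw [← Finite.one_lt_card_iff_nontrivial, hcard]; norm_num
  obtain ⟨f, D, E⟩ := exists_Eig h2 φ
  obtain ⟨i, hi⟩ := E.D_ne hcard hirr
  have huniq : ∀ j, j ≠ i → ¬ D j := by
    intro j hj hD
    rcases lt_or_gt_of_ne hj with h | h
    · exact E.D_unique hcard h2 hirr h hD hi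
    · exact E.D_unique hcard h2 hirr h hi hD
  fin_cases i
  · exfalso
    have := E.card_le hirr hi (huniq 1 (by decide)) (huniq 2 (by decide)) (huniq 3 (by decide))
    rw [hcard] at this
    norm_num at this
  · obtain ⟨ψ, hψ⟩ := E.exists_psi hcard hirr (huniq 0 (by decide)) hi (huniq 2 (by decide))
      (huniq 3 (by decide))
    exact ⟨MulEquiv.refl X, ψ, hψ⟩
  · obtain ⟨ψ, hψ⟩ := E.twist.exists_psi hcard (hirr_twist hirr) (huniq 3 (by decide)) hi
      (huniq 1 (by decide)) (huniq 0 (by decide))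
    exact ⟨twe, ψ, hψ⟩
  · exfalso
    have := E.twist.card_le (hirr_twist hirr) hi (huniq 2 (by decide)) (huniq 1 (by decide))
      (huniq 0 (by decide))
    rw [hcard] at this
    norm_num at this

end Cfsg.Agent.H338.L5
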