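import Cfsg.Agent.H338.L5Two

/-!
# Modules of `SL(5,2)` of order `2^10`: at most one special node (helper338)
-/

set_option autoImplicit false

namespace Cfsg.Agent.H338.L5

open Equiv Matrix

variable {M : Type*} [AddCommGroup M] {φ : X →* AddMonoid.End M} {f : M →+ ZMod 2}
  {D : Fin 4 → Prop}

/-- Eigenvectors. -/
structure EigV (φ : X →* AddMonoid.End M) (v : M) : Prop where
  ne : v ≠ 0
  xx : ∀ i, φ (x i) v = v
  nn : ∀ i, φ (n i) v = v ∨ φ (n i) v = v + φ (y i) v

theorem n_inv (i : Fin 4) : (n i)⁻¹ = n i := inv_eq_of_mul_eq_one_left (rel_y.nn i)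
theorem y_inv (i : Fin 4) : (y i)⁻¹ = y i := inv_eq_of_mul_eq_one_left (rel_y.xx i)
theorem x_inv (i : Fin 4) : (x i)⁻¹ = x i := inv_eq_of_mul_eq_one_left (rel_x.xx i)

theorem nxn (i : Fin 4) : n i * x i * n i = y i := by
  rw [y_eq, rel_x.xn]

theorem nyn (i : Fin 4) : n i * y i * n i = x i := by
  rw [← nxn]
  simp only [← mul_assoc]
  rw [rel_x.nn, one_mul, mul_assoc, rel_x.nn, mul_one]

theorem exists_EigV [Finite M] [Nontrivial M] (h2 : ∀ m : M, m + m = 0)
    (φ : X →* AddMonoid.End M) : ∃ v : M, EigV φ v := by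
  obtain ⟨v0, hv0, hv1⟩ := exists_fixed h2 φ (U up) (isPGroup_U up (by decide))
  obtain ⟨v, hv, hvx, hvn⟩ := exists_eig h2 φ rel_x hv0 (fun i => hv1 _ (x_mem i))
  refine ⟨v, hv, hvx, fun i => ?_⟩
  rcases hvn i with h | h
  · exact Or.inl h
  · right
    have h3 := congrArg (φ (n i)) h
    rw [map_add, ← mulφ, ← mulφ, rel_x.nn, oneφ, ← mul_assoc, nxn] at h3
    exact h3.symm

theorem inv_invariant {W : AddSubgroup M} {g : X} (hg : ∀ m ∈ W, φ g m ∈ W) :
    ∀ m ∈ W, φ g⁻¹ m ∈ W := by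
  intro m hm
  have h1 : ∀ k : ℕ, ∀ m ∈ W, φ (g ^ k) m ∈ W := by
    intro k
    induction k with
    | zero => intro m hm; rw [pow_zero, oneφ]; exact hm
    | succ k ih => intro m hm; rw [pow_succ, mulφ]; exact ih _ (hg _ hm)
  have h2 : g⁻¹ = g ^ (orderOf g - 1) := by
    rw [inv_eq_iff_mul_eq_one, ← pow_succ', Nat.sub_add_cancel (orderOf_pos g),
      pow_orderOf_eq_one g]
  rw [h2]
  exact h1 _ m hm

theorem exP_any : ∀ r s : Fin 5, r ≠ s → ∃ τ : Perm (Fin 5), τ 1 = r ∧ τ 0 = s := by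
  decide +kernel

def wordsAll : List (List (Fin 4)) :=
  (([[], [0], [1, 0], [2, 1, 0], [3, 2, 1, 0]] : List (List (Fin 4))).flatMap fun d =>
    ([[], [1], [2, 1], [3, 2, 1]] : List (List (Fin 4))).flatMap fun a =>
    ([[], [2], [3, 2]] : List (List (Fin 4))).flatMap fun b =>
      ([[], [3]] : List (List (Fin 4))).map fun c => d ++ a ++ b ++ c)

theorem wordsAll_spec : ∀ τ : Perm (Fin 5), ∃ w ∈ wordsAll, (w.map s).prod = τ := by
  decide +kernel

/-- Invariance under all of `X` from the generators `y` and `n`. -/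
theorem invariant_of {p : M → Prop} (hy : ∀ i m, p m → p (φ (y i) m))
    (hn : ∀ i m, p m → p (φ (n i) m)) (g : X) (m : M) (hm : p m) : p (φ g m) := by
  have hP : ∀ τ : Perm (Fin 5), ∀ m, p m → p (φ (P τ) m) := by
    intro τ
    obtain ⟨w, hw, rfl⟩ := wordsAll_spec τ
    clear hw
    induction w with
    | nil => intro m hm; rw [List.map_nil, List.prod_nil, map_one, oneφ]; exact hm
    | cons i w ih =>
      intro m hm
      rw [List.map_cons, List.prod_cons, map_mul, mulφ]
      exact hn i _ (ih m hm)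
  have hT : ∀ {r s : Fin 5} (h : r ≠ s) m, p m → p (φ (T h) m) := by
    intro r s h m hm
    obtain ⟨τ, h1, h0⟩ := exP_any r s h
    have e : T h = P τ * y 0 * P τ⁻¹ := T_conj τ _ h h1 h0
    rw [e, mulφ, mulφ]
    exact hP _ _ (hy _ _ (hP _ _ hm))
  have hg : g ∈ Subgroup.closure {g : X | ∃ (i j : Fin 5) (h : i ≠ j), g = T h} := by
    rw [closure_T]; trivial
  induction hg using Subgroup.closure_induction'' generalizing m with
  | mem g hg =>
    obtain ⟨i, j, h, rfl⟩ := hg
    exact hT h m hm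
  | inv_mem g hg =>
    obtain ⟨i, j, h, rfl⟩ := hg
    have : (T h)⁻¹ = T h := inv_eq_of_mul_eq_one_left (by
      obtain ⟨τ, h1, h0⟩ := exP_any i j h
      have e : T h = P τ * y 0 * P τ⁻¹ := T_conj τ _ h h1 h0
      rw [e]
      simp only [mul_assoc]
      rw [← mul_assoc (P τ⁻¹) (P τ), ← map_mul, inv_mul_cancel, map_one, one_mul, ← mul_assoc (y 0),
        rel_y.xx, one_mul, ← map_mul, mul_inv_cancel, map_one])
    rw [this]
    exact hT h m hm
  | one => rw [oneφ]; exact hm
  | mul g h _ _ hg hh => rw [mulφ]; exact hg _ (hh _ hm)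

/-- The group generated by the `y i`. -/
def H : Subgroup X := Subgroup.closure (Set.range y)

theorem H_split (i : Fin 4) {h : X} (hh : h ∈ H) :
    ∃ h' ∈ H, n i * h' * n i ∈ H ∧ (h = h' ∨ h = h' * y i) := by
  have tri : ∀ i j : Fin 4, i = j ∨ ((i : ℕ) + 1 < j ∨ (j : ℕ) + 1 < i) ∨
      ((i : ℕ) + 1 = j ∨ (j : ℕ) + 1 = i) := by decide
  have hy : ∀ j, y j ∈ H := fun j => Subgroup.subset_closure ⟨j, rfl⟩
  have hn := rel_y.nn i
  have hyy := rel_y.xx i
  have nmn : ∀ a b : X, n i * (a * b) * n i = (n i * a * n i) * (n i * b * n i) := by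
    intro a b
    calc n i * (a * b) * n i = n i * a * 1 * b * n i := by group
      _ = _ := by rw [← hn]; group
  have step : ∀ h' ∈ H, n i * h' * n i ∈ H → ∀ j, ∀ e : X, (e = 1 ∨ e = y i) →
      ∃ h'' ∈ H, n i * h'' * n i ∈ H ∧ (h' * e * y j = h'' ∨ h' * e * y j = h'' * y i) := by
    intro h' hh' hnh j e he
    rcases tri i j with rfl | h | h
    · refine ⟨h', hh', hnh, ?_⟩
      rcases he with rfl | rfl
      · right; rw [mul_one]
      · left; rw [mul_assoc, hyy, mul_one]
    · -- commuting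
      have c1 : n i * y j = y j * n i := (rel_y.fxn j i h.symm).symm
      have c2 : y i * y j = y j * y i := rel_y.fx i j h
      refine ⟨h' * y j, mul_mem hh' (hy j), ?_, ?_⟩
      · rw [nmn]
        refine mul_mem hnh ?_
        rw [c1, mul_assoc, hn, mul_one]; exact hy j
      · rcases he with rfl | rfl
        · left; rw [mul_one]
        · right; rw [mul_assoc, c2, mul_assoc]
    · rcases he with rfl | rfl
      · refine ⟨h' * y j, mul_mem hh' (hy j), ?_, Or.inl (by rw [mul_one])⟩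
        rw [nmn]
        refine mul_mem hnh ?_
        rw [rel_y.a1 i j h]
        exact mul_mem (mul_mem (mul_mem (hy i) (hy j)) (hy i)) (hy j)
      · refine ⟨h' * (y i * y j * y i), mul_mem hh' (mul_mem (mul_mem (hy i) (hy j)) (hy i)), ?_,
          Or.inr ?_⟩
        · rw [nmn]
          refine mul_mem hnh ?_
          rw [rel_y.a2 i j h]
          exact mul_mem (mul_mem (hy i) (hy j)) (hy i)
        · simp only [mul_assoc]
          rw [hyy, mul_one]
  induction hh using Subgroup.closure_induction_right with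
  | one => exact ⟨1, one_mem _, by rw [mul_one, hn]; exact one_mem _, Or.inl rfl⟩
  | mul_right a ha b hb ih =>
    obtain ⟨j, rfl⟩ := hb
    obtain ⟨h', hh', hnh, h | h⟩ := ih
    · have := step h' hh' hnh j 1 (Or.inl rfl)
      rwa [mul_one, ← h] at this
    · have := step h' hh' hnh j (y i) (Or.inr rfl)
      rwa [← h] at this
  | mul_inv_cancel a ha b hb ih =>
    obtain ⟨j, rfl⟩ := hb
    rw [y_inv]
    obtain ⟨h', hh', hnh, h | h⟩ := ih
    · have := step h' hh' hnh j 1 (Or.inl rfl)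
      rwa [mul_one, ← h] at this
    · have := step h' hh' hnh j (y i) (Or.inr rfl)
      rwa [← h] at this

/-- The span of the images of an eigenvector is everything. -/
theorem EigV.span {v : M} (V : EigV φ v) (h2 : ∀ m : M, m + m = 0)
    (hirr : ∀ W : AddSubgroup M, (∀ g, ∀ m ∈ W, φ g m ∈ W) → W = ⊥ ∨ W = ⊤) :
    AddSubgroup.closure {m | ∃ h ∈ H, m = φ h v} = ⊤ := by
  set W := AddSubgroup.closure {m | ∃ h ∈ H, m = φ h v} with hW
  have hin : ∀ h ∈ H, φ h v ∈ W := fun h hh => AddSubgroup.subset_closure ⟨h, hh, rfl⟩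
  have hyH : ∀ j, y j ∈ H := fun j => Subgroup.subset_closure ⟨j, rfl⟩
  have ext : ∀ g : X, (∀ h ∈ H, φ (g * h) v ∈ W) → ∀ m ∈ W, φ g m ∈ W := by
    intro g hg m hm
    induction hm using AddSubgroup.closure_induction with
    | mem m hm =>
      obtain ⟨h, hh, rfl⟩ := hm
      rw [← mulφ]
      exact hg h hh
    | zero => rw [map_zero]; exact W.zero_mem
    | add a b _ _ ha hb => rw [map_add]; exact W.add_mem ha hb
    | neg a _ ha => rw [map_neg]; exact W.neg_mem ha
  have hWy : ∀ i, ∀ m, m ∈ W → φ (y i) m ∈ W := fun i =>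
    ext (y i) fun h hh => hin _ (mul_mem (hyH i) hh)
  have hWn : ∀ i, ∀ m, m ∈ W → φ (n i) m ∈ W := by
    intro i
    apply ext
    intro h hh
    obtain ⟨h', hh', hnh, he⟩ := H_split i hh
    have key : ∀ e : X, (e = 1 ∨ e = y i) → ∃ w, w ∈ AddSubgroup.closure {v, φ (y i) v} ∧
        φ (n i * e) v = w := by
      intro e he
      refine ⟨_, ?_, rfl⟩
      have hv : v ∈ AddSubgroup.closure {v, φ (y i) v} := AddSubgroup.subset_closure (by simp)
      have hv' : φ (y i) v ∈ AddSubgroup.closure {v, φ (y i) v} :=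
        AddSubgroup.subset_closure (by simp)
      rcases he with rfl | rfl
      · rw [mul_one]
        rcases V.nn i with h | h
        · rw [h]; exact hv
        · rw [h]; exact add_mem hv hv'
      · rcases V.nn i with h | h
        · have h5 : φ (y i) v = v := by
            rw [← nxn, mulφ, h, mulφ, V.xx, h]
          have h6 : φ (n i * y i) v = v := by rw [mulφ, h5, h]
          rw [h6]; exact hv
        · have h5 := congrArg (φ (n i)) h
          rw [← mulφ, rel_y.nn, oneφ, map_add, ← mulφ, h] at h5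
          have h6 : φ (n i * y i) v = φ (y i) v := by
            calc φ (n i * y i) v = (v + v) + (φ (y i) v + φ (y i) v) + φ (n i * y i) v := by
                  rw [h2, h2, zero_add, zero_add]
              _ = v + (v + φ (y i) v + φ (n i * y i) v) + φ (y i) v := by abel
              _ = v + v + φ (y i) v := by rw [← h5]
              _ = _ := by rw [h2, zero_add]
          rw [h6]; exact hv'
    have hall : ∀ w ∈ AddSubgroup.closure {v, φ (y i) v}, φ (n i * h' * n i) w ∈ W := by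
      intro w hw
      induction hw using AddSubgroup.closure_induction with
      | mem m hm =>
        rcases hm with rfl | rfl
        · exact hin _ hnh
        · rw [← mulφ]; exact hin _ (mul_mem hnh (hyH i))
      | zero => rw [map_zero]; exact W.zero_mem
      | add a b _ _ ha hb => rw [map_add]; exact W.add_mem ha hb
      | neg a _ ha => rw [map_neg]; exact W.neg_mem ha
    have e0 : ∀ e : X, n i * (h' * e) = (n i * h' * n i) * (n i * e) := by
      intro e
      simp only [mul_assoc]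
      rw [← mul_assoc (n i) (n i) e, rel_y.nn, one_mul]
    rcases he with he | he
    · obtain ⟨w, hw, hw'⟩ := key 1 (Or.inl rfl)
      have := e0 1
      rw [mul_one] at this
      rw [he, this, mulφ, hw']
      exact hall w hw
    · obtain ⟨w, hw, hw'⟩ := key (y i) (Or.inr rfl)
      rw [he, e0, mulφ, hw']
      exact hall w hw
  rcases hirr W (fun g m hm => invariant_of (p := fun m => m ∈ W) hWy hWn g m hm) with h | h
  · exfalso
    apply V.ne
    have h5 := hin 1 (one_mem _)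
    rw [h, oneφ] at h5
    exact h5
  · exact h

theorem Eig.fv (E : Eig φ f D) {v : M} (V : EigV φ v) (h2 : ∀ m : M, m + m = 0)
    (hirr : ∀ W : AddSubgroup M, (∀ g, ∀ m ∈ W, φ g m ∈ W) → W = ⊥ ∨ W = ⊤) : f v = 1 := by
  have hH : ∀ h ∈ H, ∀ m, f (φ h m) = f m := by
    intro h hh
    induction hh using Subgroup.closure_induction'' with
    | mem g hg => obtain ⟨j, rfl⟩ := hg; exact E.yy j
    | inv_mem g hg => obtain ⟨j, rfl⟩ := hg; rw [y_inv]; exact E.yy j
    | one => intro m; rw [oneφ]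
    | mul a b _ _ ha hb => intro m; rw [mulφ, ha, hb]
  by_contra hcon
  have hf0 : f v = 0 := by
    have : ∀ a : ZMod 2, a ≠ 1 → a = 0 := by decide
    exact this _ hcon
  apply E.ne
  have h3 : AddSubgroup.closure {m | ∃ h ∈ H, m = φ h v} ≤ f.ker := by
    rw [AddSubgroup.closure_le]
    rintro _ ⟨h, hh, rfl⟩
    show f (φ h v) = 0
    rw [hH h hh, hf0]
  rw [V.span h2 hirr] at h3
  ext m
  exact h3 (AddSubgroup.mem_top m)

/-- `D` is nonempty. -/
theorem Eig.D_ne [Finite M] (E : Eig φ f D) (hcard : Nat.card M = 2 ^ 10)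
    (hirr : ∀ W : AddSubgroup M, (∀ g, ∀ m ∈ W, φ g m ∈ W) → W = ⊥ ∨ W = ⊤) :
    ∃ i, D i := by
  by_contra hcon
  push Not at hcon
  have h1 : ∀ g m, f (φ g m) = f m := fun g m =>
    invariant_of (φ := φ) (p := fun m' => f m' = f m) (fun i m' h => by rw [E.yy, h])
      (fun i m' h => by rw [E.nn i (hcon i), h]) g m rfl
  rcases hirr f.ker (fun g m hm => by
    rw [AddMonoidHom.mem_ker] at hm ⊢
    rw [h1, hm]) with h | h
  · have hinj : Function.Injective f := (AddMonoidHom.ker_eq_bot_iff f).1 h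
    have := Nat.card_le_card_of_injective f hinj
    rw [hcard, Nat.card_zmod] at this
    omega
  · apply E.ne
    ext m
    have : m ∈ f.ker := by rw [h]; trivial
    exact this

/-! ### Two special nodes -/

/-- Number of inversions. -/
def inv (w : Perm (Fin 5)) : ℕ :=
  ((Finset.univ : Finset (Fin 5 × Fin 5)).filter fun p => p.1 < p.2 ∧ w p.2 < w p.1).card

theorem inv_s : ∀ (i : Fin 4) (w : Perm (Fin 5)), w⁻¹ i.succ < w⁻¹ i.castSucc →
    inv (s i * w) < inv w := by decide +kernel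

theorem eq_one_of : ∀ w : Perm (Fin 5), (∀ i : Fin 4, ¬ w⁻¹ i.succ < w⁻¹ i.castSucc) → w = 1 := by
  decide +kernel

/-- `w` preserves `{0, …, a}`. -/
def Pr (a : Fin 4) (w : Perm (Fin 5)) : Prop := ∀ k : Fin 5, k ≤ a.castSucc → w k ≤ a.castSucc

instance (a : Fin 4) (w : Perm (Fin 5)) : Decidable (Pr a w) := by unfold Pr; infer_instance

theorem Pr_s : ∀ (a i : Fin 4) (w : Perm (Fin 5)), i ≠ a → ¬ Pr a w → ¬ Pr a (s i * w) := by
  decide +kernel

theorem Pr_one : ∀ a : Fin 4, Pr a 1 := by decide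

def wordsU : List (List (Fin 4)) :=
  [[0], [1], [2], [3], [0, 1, 0, 1], [1, 2, 1, 2], [2, 3, 2, 3], [0, 1, 0, 1, 2, 0, 1, 0, 1, 2],
    [1, 2, 1, 2, 3, 1, 2, 1, 2, 3],
    [0, 1, 0, 1, 2, 0, 1, 0, 1, 2, 3, 0, 1, 0, 1, 2, 0, 1, 0, 1, 2, 3],
    [0, 1, 0, 1, 2, 0, 1, 0, 1, 2, 3, 2, 1, 0, 1, 0, 2, 1, 0, 1, 0, 3]]

theorem wordsU_spec : ∀ (a b : Fin 5) (h : a < b), ∃ w ∈ wordsU,
    ((w.map x).prod : Matrix (Fin 5) (Fin 5) (ZMod 2)) = (T (ne_of_lt h) : Matrix _ _ _) := by
  decide +kernel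

theorem EigV.T {v : M} (V : EigV φ v) {a b : Fin 5} (h : a < b) : φ (T (ne_of_lt h)) v = v := by
  obtain ⟨w, hw, he⟩ := wordsU_spec a b h
  have h1 : L5.T (ne_of_lt h) = (w.map x).prod := Subtype.ext he.symm
  rw [h1]
  clear he hw h1
  induction w with
  | nil => rw [List.map_nil, List.prod_nil, oneφ]
  | cons i w ih => rw [List.map_cons, List.prod_cons, mulφ, ih, V.xx]

theorem Eig.F_zero (E : Eig φ f D) {v : M} (V : EigV φ v) {i : Fin 4} (hi : D i)
    {w : Perm (Fin 5)} (hw : w⁻¹ i.succ < w⁻¹ i.castSucc) : f (φ (P w) v) = 0 := by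
  -- `w = s i * w'` with `w'⁻¹ i < w'⁻¹ (i+1)`
  have h1 := E.xx i hi (φ (P (s i * w)) v)
  have h2 : s i * s i = 1 := by
    show Equiv.swap _ _ * Equiv.swap _ _ = 1
    rw [Equiv.swap_mul_self]
  have h2' : n i * P (s i * w) = P w := by
    rw [← P_s, ← map_mul, ← mul_assoc, h2, one_mul]
  rw [← mulφ φ (n i), h2', ← mulφ] at h1
  have h3 : (s i * w)⁻¹ i.castSucc = w⁻¹ i.succ := by
    rw [_root_.mul_inv_rev, Perm.mul_apply]
    congr 1
    show (Equiv.swap _ _)⁻¹ _ = _
    rw [Equiv.swap_inv, Equiv.swap_apply_left]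
  have h4 : (s i * w)⁻¹ i.succ = w⁻¹ i.castSucc := by
    rw [_root_.mul_inv_rev, Perm.mul_apply]
    congr 1
    show (Equiv.swap _ _)⁻¹ _ = _
    rw [Equiv.swap_inv, Equiv.swap_apply_right]
  have h5 : (s i * w) (w⁻¹ i.succ) = i.castSucc := by
    rw [← h3]; simp
  have h6 : (s i * w) (w⁻¹ i.castSucc) = i.succ := by
    rw [← h4]; simp
  have h7 : x i * P (s i * w) = P (s i * w) * L5.T (ne_of_lt hw) := by
    rw [P_conj_T]
    congr 1
    show L5.T _ = L5.T _
    congr 1 <;> first | exact h5.symm | exact h6.symm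
  rw [h7, mulφ, V.T hw] at h1
  have h8 : ∀ a b : ZMod 2, a = a + b → b = 0 := by decide
  exact h8 _ _ h1

theorem Eig.F_Pr (E : Eig φ f D) {v : M} (V : EigV φ v) {a : Fin 4} (ha : D a) :
    ∀ (k : ℕ) (w : Perm (Fin 5)), inv w = k → ¬ Pr a w → f (φ (P w) v) = 0 := by
  intro k
  induction k using Nat.strong_induction_on with
  | _ k ih =>
    intro w hk hw
    by_cases h1 : ∀ i : Fin 4, ¬ w⁻¹ i.succ < w⁻¹ i.castSucc
    · exact absurd (eq_one_of w h1 ▸ Pr_one a) hw
    · push Not at h1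
      obtain ⟨i, hi⟩ := h1
      by_cases hD : D i
      · exact E.F_zero V hD hi
      · have hia : i ≠ a := fun h => hD (h ▸ ha)
        have h3 := ih (inv (s i * w)) (hk ▸ inv_s i w hi) (s i * w) rfl (Pr_s a i w hia hw)
        rw [map_mul, mulφ, P_s, E.nn i hD] at h3
        exact h3

def σ (k : Fin 11) : Perm (Fin 5) :=
  (((![[0, 1, 0, 2, 1, 0, 3, 2, 1, 0], [0, 1, 2, 1, 0, 3], [1, 3, 2, 1], [2, 1, 0, 3, 2, 1],
    [0, 1, 0, 3, 2, 1], [1, 2, 1], [0, 2, 1], [2, 3, 2], [0, 1, 2, 3, 2], [0, 3], [1, 0, 2, 3]] :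
    Fin 11 → List (Fin 4)) k).map s).prod

theorem σ_spec : ∀ a b : Fin 4, a < b → ∀ k l : Fin 11, k ≠ l →
    ¬ Pr a ((σ k)⁻¹ * σ l) ∨ ¬ Pr b ((σ k)⁻¹ * σ l) := by
  decide +kernel

/-- At most one special node. -/
theorem Eig.D_unique [Finite M] (E : Eig φ f D) (hcard : Nat.card M = 2 ^ 10)
    (h2 : ∀ m : M, m + m = 0)
    (hirr : ∀ W : AddSubgroup M, (∀ g, ∀ m ∈ W, φ g m ∈ W) → W = ⊥ ∨ W = ⊤)
    {a b : Fin 4} (hab : a < b) (ha : D a) (hb : D b) : False := by
  have : Nontrivial M := by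
    rw [← Finite.one_lt_card_iff_nontrivial, hcard]; norm_num
  obtain ⟨v, V⟩ := exists_EigV h2 φ
  have h1 := E.fv V h2 hirr
  have hF : ∀ k l : Fin 11, f (φ (P ((σ k)⁻¹ * σ l)) v) = if k = l then 1 else 0 := by
    intro k l
    split_ifs with h
    · subst h
      rw [inv_mul_cancel, map_one, oneφ, h1]
    · rcases σ_spec a b hab k l h with h3 | h3
      · exact E.F_Pr V ha _ _ rfl h3
      · exact E.F_Pr V hb _ _ rfl h3
  let g : (Fin 11 → ZMod 2) → M := fun c => ∑ l, if c l = 0 then 0 else φ (P (σ l)) v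
  have hg : ∀ c k, f (φ (P (σ k)⁻¹) (g c)) = c k := by
    intro c k
    show f (φ (P (σ k)⁻¹) (∑ l, if c l = 0 then 0 else φ (P (σ l)) v)) = c k
    rw [map_sum, map_sum, Finset.sum_eq_single k]
    · split_ifs with h
      · rw [map_zero, map_zero, h]
      · rw [← mulφ, ← map_mul, hF, if_pos rfl]
        have : ∀ a : ZMod 2, a ≠ 0 → 1 = a := by decide
        exact this _ h
    · intro l _ hl
      split_ifs with h
      · rw [map_zero, map_zero]
      · rw [← mulφ, ← map_mul, hF, if_neg (Ne.symm hl)]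
    · intro h; exact absurd (Finset.mem_univ _) h
  have hinj : Function.Injective g := by
    intro c c' h
    funext k
    rw [← hg c k, h, hg c' k]
  have := Nat.card_le_card_of_injective g hinj
  rw [hcard, Nat.card_fun, Nat.card_zmod, Nat.card_fin] at this
  norm_num at this

end Cfsg.Agent.H338.L5
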