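import Cfsg.Agent.H338.L5Blk

/-!
# Construction of the data (helper338)
-/

set_option autoImplicit false

namespace Cfsg.Agent.H338.L5

open Matrix Subgroup

section

variable {G : Type*} [Group G]

/-- The natural situation: `N(V)/V ≅ SL(5,2)` acting on `V` as on alternating matrices. -/
structure Nat5 (V : Subgroup G) (F : normalizer (V : Set G) →* X) (ψ : G → M5) : Prop where
  surj : Function.Surjective F
  ker : ∀ x : normalizer (V : Set G), F x = 1 ↔ (x : G) ∈ V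
  sq : ∀ v ∈ V, v * v = 1
  cent : ∀ g : G, (∀ v ∈ V, g * v = v * g) → g ∈ V
  add : ∀ v ∈ V, ∀ w ∈ V, ψ (v * w) = ψ v + ψ w
  inj : ∀ v ∈ V, ψ v = 0 → v = 1
  alt : ∀ v ∈ V, ψ v ∈ Alt
  onto : ∀ B ∈ Alt, ∃ v ∈ V, ψ v = B
  conj : ∀ (n : normalizer (V : Set G)), ∀ v ∈ V,
    ψ (n * v * (n : G)⁻¹) = (F n).1 * ψ v * ((F n).1)ᵀ

variable {V : Subgroup G} {F : normalizer (V : Set G) →* X} {ψ : G → M5}

open Classical in
/-- Extension of `F` to `G`. -/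
noncomputable def Fm (F : normalizer (V : Set G) →* X) (x : G) : M5 :=
  if h : x ∈ normalizer (V : Set G) then (F ⟨x, h⟩).1 else 1

theorem Fm_of {x : G} (h : x ∈ normalizer (V : Set G)) : Fm F x = (F ⟨x, h⟩).1 := dif_pos h

theorem Fm_mul {x y : G} (hx : x ∈ normalizer (V : Set G)) (hy : y ∈ normalizer (V : Set G)) :
    Fm F (x * y) = Fm F x * Fm F y := by
  rw [Fm_of hx, Fm_of hy, Fm_of (mul_mem hx hy)]
  exact congrArg Subtype.val (map_mul F ⟨x, hx⟩ ⟨y, hy⟩)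

theorem Fm_one : Fm F 1 = 1 := by
  rw [Fm_of (one_mem _)]
  exact congrArg Subtype.val (map_one F)

/-- The Sylow 2-subgroup of the normaliser. -/
noncomputable def SS (F : normalizer (V : Set G) →* X) : Subgroup G :=
  ((U up).comap F).map (normalizer (V : Set G)).subtype

theorem mem_SS {x : G} : x ∈ SS F ↔ ∃ h : x ∈ normalizer (V : Set G), F ⟨x, h⟩ ∈ U up := by
  constructor
  · rintro ⟨y, hy, rfl⟩
    exact ⟨y.2, hy⟩
  · rintro ⟨h, h'⟩
    exact ⟨⟨x, h⟩, h', rfl⟩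

theorem SS_le : SS F ≤ normalizer (V : Set G) := map_subtype_le _

theorem SS_U {x : G} (hx : x ∈ SS F) : ∃ g ∈ U up, Fm F x = g.1 := by
  obtain ⟨h, h'⟩ := mem_SS.1 hx
  exact ⟨_, h', Fm_of h⟩

theorem SS_LR {x : G} (hx : x ∈ SS F) : LR (Fm F x) := by
  obtain ⟨g, hg, h⟩ := SS_U hx
  rw [h]
  exact LR_U hg

theorem SS_mul {x y : G} (hx : x ∈ SS F) (hy : y ∈ SS F) : Fm F (x * y) = Fm F x * Fm F y :=
  Fm_mul (SS_le hx) (SS_le hy)

theorem SS_inv {x : G} (hx : x ∈ SS F) : Fm F x * Fm F x⁻¹ = 1 := by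
  rw [← SS_mul hx (inv_mem hx), mul_inv_cancel, Fm_one]

/-- The subgroup `J`. -/
noncomputable def JJ (F : normalizer (V : Set G) →* X) : Subgroup G where
  carrier := {x | x ∈ SS F ∧ rB (Fm F x) = 1}
  one_mem' := ⟨one_mem _, by
    rw [Fm_one]
    ext i j
    rw [rB_apply, Matrix.one_apply, Matrix.one_apply]
    simp⟩
  mul_mem' := by
    rintro x y ⟨hx, hx'⟩ ⟨hy, hy'⟩
    refine ⟨mul_mem hx hy, ?_⟩
    rw [SS_mul hx hy, rB_mul (SS_LR hy), hx', hy', mul_one]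
  inv_mem' := by
    rintro x ⟨hx, hx'⟩
    refine ⟨inv_mem hx, ?_⟩
    have h1 := SS_inv (inv_mem hx)
    rw [inv_inv] at h1
    have h2 : rB (Fm F x⁻¹) * rB (Fm F x) = rB (1 : M5) := by
      rw [← rB_mul (SS_LR hx), h1]
    rw [hx', mul_one] at h2
    rw [h2]
    ext i j
    rw [rB_apply, Matrix.one_apply, Matrix.one_apply]
    simp

theorem mem_JJ {x : G} : x ∈ JJ F ↔ x ∈ SS F ∧ rB (Fm F x) = 1 := Iff.rfl

theorem rB_one : rB (1 : M5) = 1 := by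
  ext i j
  rw [rB_apply, Matrix.one_apply, Matrix.one_apply]
  simp

theorem pB_one : pB (1 : M5) = 0 := by
  funext i
  rw [pB_apply, Matrix.one_apply, if_neg]
  · rfl
  · exact (Fin.castSucc_lt_last i).ne

theorem pB_add (ψ ψ' : M5) : pB (ψ + ψ') = pB ψ + pB ψ' := rfl
theorem rB_add (ψ ψ' : M5) : rB (ψ + ψ') = rB ψ + rB ψ' := rfl

theorem Nat5.one (H : Nat5 V F ψ) : ψ 1 = 0 := by
  have := H.add 1 V.one_mem 1 V.one_mem
  rw [mul_one] at this
  exact left_eq_add.1 this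

/-- The subgroup `C`. -/
def CC (H : Nat5 V F ψ) : Subgroup G where
  carrier := {x | x ∈ V ∧ pB (ψ x) = 0}
  one_mem' := ⟨V.one_mem, by rw [H.one]; rfl⟩
  mul_mem' := by
    rintro x y ⟨hx, hx'⟩ ⟨hy, hy'⟩
    exact ⟨V.mul_mem hx hy, by rw [H.add x hx y hy, pB_add, hx', hy', add_zero]⟩
  inv_mem' := by
    rintro x ⟨hx, hx'⟩
    have : x⁻¹ = x := inv_eq_of_mul_eq_one_left (H.sq x hx)
    rw [this]
    exact ⟨hx, hx'⟩

theorem mem_CC (H : Nat5 V F ψ) {x : G} : x ∈ CC H ↔ x ∈ V ∧ pB (ψ x) = 0 := Iff.rfl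

theorem Nat5.conj' (H : Nat5 V F ψ) {s v : G} (hs : s ∈ SS F) (hv : v ∈ V) :
    ψ (s * v * s⁻¹) = Fm F s * ψ v * (Fm F s)ᵀ := by
  rw [Fm_of (SS_le hs)]
  exact H.conj ⟨s, SS_le hs⟩ v hv

theorem Nat5.V_J (H : Nat5 V F ψ) {x : G} (hx : x ∈ V) : x ∈ SS F ∧ Fm F x = 1 := by
  have h1 : x ∈ normalizer (V : Set G) := le_normalizer hx
  have h2 : F ⟨x, h1⟩ = 1 := (H.ker ⟨x, h1⟩).2 hx
  refine ⟨mem_SS.2 ⟨h1, by rw [h2]; exact one_mem _⟩, ?_⟩
  rw [Fm_of h1, h2]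
  rfl

theorem conj_mem_V' {g v : G} (hg : g ∈ normalizer (V : Set G)) (hv : v ∈ V) : g * v * g⁻¹ ∈ V :=
  (mem_normalizer_iff.1 hg v).1 hv

theorem Nat5.exists_SS (H : Nat5 V F ψ) {g : X} (hg : g ∈ U up) : ∃ s ∈ SS F, Fm F s = g.1 := by
  obtain ⟨n, hn⟩ := H.surj g
  refine ⟨n, mem_SS.2 ⟨n.2, by rw [Subtype.coe_eta, hn]; exact hg⟩, ?_⟩
  rw [Fm_of n.2, Subtype.coe_eta, hn]

theorem one_UT (M : M5) (h1 : rB M = 1) (h2 : pB M = 0) (h3 : LR M) : M = 1 := by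
  ext i j
  induction i using Fin.lastCases with
  | last =>
    induction j using Fin.lastCases with
    | last => rw [h3.2, Matrix.one_apply_eq]
    | cast j => rw [h3.1, Matrix.one_apply_ne (Fin.castSucc_lt_last j).ne']
  | cast i =>
    induction j using Fin.lastCases with
    | last => rw [Matrix.one_apply_ne (Fin.castSucc_lt_last i).ne]; exact congrFun h2 i
    | cast j =>
      have := congrFun (congrFun h1 i) j
      rw [rB_apply] at this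
      rw [this, Matrix.one_apply, Matrix.one_apply]
      simp

theorem Nat5.dat (H : Nat5 V F ψ) : Dat V (CC H) (JJ F) (SS F) (fun x => rB (Fm F x))
    (fun x => pB (Fm F x)) (fun x => pB (ψ x)) (fun x => rB (ψ x)) where
  CA := fun x hx => hx.1
  AJ := fun x hx => by
    obtain ⟨h1, h2⟩ := H.V_J hx
    exact ⟨h1, by rw [h2, rB_one]⟩
  JS := fun x hx => hx.1
  nA := fun s hs a ha => conj_mem_V' (SS_le hs) ha
  nC := fun s hs a ha => by
    refine ⟨conj_mem_V' (SS_le hs) ha.1, ?_⟩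
    rw [H.conj' hs ha.1, pB_conj (SS_LR hs) (H.alt a ha.1), ha.2, Matrix.mulVec_zero]
  A2 := H.sq
  r_mul := fun s hs t ht => by rw [SS_mul hs ht, rB_mul (SS_LR ht)]
  r_one := fun s hs => ⟨fun h => ⟨hs, h⟩, fun h => h.2⟩
  r_ut := fun s hs => by
    obtain ⟨g, hg, h⟩ := SS_U hs
    rw [h]
    exact rB_U hg
  r_surj := fun a b c d e f => by
    obtain ⟨g, hg, hgU⟩ := exists_UT5 a b c d e f 0 0 0 0
    obtain ⟨s, hs, h⟩ := H.exists_SS hgU
    exact ⟨s, hs, by rw [h, hg, rB_UT5]⟩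
  p_mul := fun x hx y hy => by
    rw [SS_mul hx.1 hy.1, pB_mul (SS_LR hy.1), hx.2, Matrix.one_mulVec, add_comm]
  p_zero := fun x hx => by
    constructor
    · intro h
      have h1 := one_UT _ hx.2 h (SS_LR hx.1)
      rw [Fm_of (SS_le hx.1)] at h1
      exact (H.ker ⟨x, SS_le hx.1⟩).1 (Subtype.ext h1)
    · intro h
      rw [(H.V_J h).2, pB_one]
  p_conj := fun s hs x hx => by
    have h1 : s * x * s⁻¹ ∈ SS F := mul_mem (mul_mem hs hx.1) (inv_mem hs)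
    have h2 : Fm F (s * x * s⁻¹) * Fm F s = Fm F s * Fm F x := by
      rw [← SS_mul h1 hs, ← SS_mul hs hx.1]; congr 1; group
    have h3 : rB (Fm F (s * x * s⁻¹)) = 1 := by
      have h4 : rB (Fm F (s * x * s⁻¹)) * rB (Fm F s) = rB (Fm F s) := by
        rw [← rB_mul (SS_LR hs), h2, rB_mul (SS_LR hx.1), hx.2, mul_one]
      have h5 : rB (Fm F s) * rB (Fm F s⁻¹) = 1 := by
        rw [← rB_mul (SS_LR (inv_mem hs)), SS_inv hs, rB_one]
      calc rB (Fm F (s * x * s⁻¹)) = rB (Fm F (s * x * s⁻¹)) * (rB (Fm F s) * rB (Fm F s⁻¹)) := by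
            rw [h5, mul_one]
        _ = (rB (Fm F (s * x * s⁻¹)) * rB (Fm F s)) * rB (Fm F s⁻¹) := (mul_assoc _ _ _).symm
        _ = 1 := by rw [h4, h5]
    have h6 : pB (Fm F (s * x * s⁻¹) * Fm F s) = pB (Fm F s * Fm F x) := by rw [h2]
    rw [pB_mul (SS_LR hs), pB_mul (SS_LR hx.1), h3, Matrix.one_mulVec, add_comm] at h6
    exact add_right_cancel h6
  p_surj := fun v => by
    obtain ⟨g, hg, hgU⟩ := exists_UT5 0 0 0 0 0 0 (v 0) (v 1) (v 2) (v 3)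
    obtain ⟨s, hs, h⟩ := H.exists_SS hgU
    refine ⟨s, ⟨hs, by rw [h, hg, rB_UT5, UTm_one]⟩, ?_⟩
    rw [h, hg, pB_UT5, vec4]
  k_mul := fun x hx y hy => by rw [H.add x hx y hy, pB_add]
  k_zero := fun x hx => ⟨fun h => ⟨hx, h⟩, fun h => h.2⟩
  k_conj := fun s hs x hx => by
    rw [H.conj' hs hx, pB_conj (SS_LR hs) (H.alt x hx)]
  k_surj := fun v => by
    obtain ⟨B, hB, -, hp⟩ := exists_alt 0 0 0 0 0 0 (v 0) (v 1) (v 2) (v 3)
    obtain ⟨x, hx, h⟩ := H.onto B hB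
    exact ⟨x, hx, by rw [h, hp, vec4]⟩
  c_mul := fun x hx y hy => by rw [H.add x hx.1 y hy.1, rB_add]
  c_zero := fun x hx => by
    constructor
    · intro h
      apply H.inj x hx.1
      exact eq_of_blocks (H.alt x hx.1) Alt.zero_mem h hx.2
    · rintro rfl
      rw [H.one]; rfl
  c_alt := fun x hx => rB_alt (H.alt x hx.1)
  c_surj := fun a b c d e f => by
    obtain ⟨B, hB, hr, hp⟩ := exists_alt a b c d e f 0 0 0 0
    obtain ⟨x, hx, h⟩ := H.onto B hB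
    refine ⟨x, ⟨hx, ?_⟩, by rw [h, hr]⟩
    rw [h, hp]
    funext i; fin_cases i <;> rfl
  c_conj := fun s hs x hx => by
    rw [H.conj' hs hx.1, rB_conj (H.alt x hx.1), hx.2, Matrix.mulVec_zero, om_zero_right, add_zero]
  comm := fun x hx a ha => by
    have h1 : x * a * x⁻¹ ∈ V := conj_mem_V' (SS_le hx.1) ha
    have h2 : a⁻¹ = a := inv_eq_of_mul_eq_one_left (H.sq a ha)
    have h3 : ψ (x * a * x⁻¹ * a⁻¹) = Fm F x * ψ a * (Fm F x)ᵀ + ψ a := by
      rw [h2, H.add _ h1 _ ha, H.conj' hx.1 ha]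
    have h4 : pB (ψ (x * a * x⁻¹ * a⁻¹)) = 0 := by
      rw [h3, pB_add, pB_conj (SS_LR hx.1) (H.alt a ha), hx.2, Matrix.one_mulVec, v2]
    refine ⟨⟨V.mul_mem h1 (V.inv_mem ha), h4⟩, ?_⟩
    rw [h3, rB_add, rB_conj (H.alt a ha), hx.2, Matrix.transpose_one, one_mul, mul_one,
      Matrix.one_mulVec, add_comm, ← add_assoc, m2, zero_add]

end

end Cfsg.Agent.H338.L5
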