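import Cfsg.Agent.H338.L5Norm2

/-!
# Construction of the swap (helper338)
-/

set_option autoImplicit false

namespace Cfsg.Agent.H338.L5

open Matrix

theorem exists_tau {K : Type*} [Group K] {A : Subgroup K} {φ k : K → V4}
    (hφ : ∀ a ∈ A, ∀ b ∈ A, φ (a * b) = φ a + φ b) (hk : ∀ a ∈ A, ∀ b ∈ A, k (a * b) = k a + k b)
    (hs : ∀ v, ∃ a ∈ A, k a = v) (h0 : ∀ a ∈ A, k a = 0 → φ a = 0) :
    ∃ τ : M4, ∀ a ∈ A, φ a = τ *ᵥ k a := by
  have hφ1 : φ 1 = 0 := by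
    have := hφ 1 A.one_mem 1 A.one_mem
    rw [mul_one] at this
    exact left_eq_add.1 this
  have hk1 : k 1 = 0 := by
    have := hk 1 A.one_mem 1 A.one_mem
    rw [mul_one] at this
    exact left_eq_add.1 this
  have heq : ∀ a ∈ A, ∀ b ∈ A, k a = k b → φ a = φ b := by
    intro a ha b hb h
    have h1 : k (b⁻¹ * a) = 0 := by
      have h2 := hk b hb _ (A.mul_mem (A.inv_mem hb) ha)
      rw [mul_inv_cancel_left, h] at h2
      exact left_eq_add.1 h2
    have h3 := h0 _ (A.mul_mem (A.inv_mem hb) ha) h1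
    have h4 := hφ b hb _ (A.mul_mem (A.inv_mem hb) ha)
    rw [mul_inv_cancel_left, h3, add_zero] at h4
    exact h4
  choose s hsA hs using hs
  let f : V4 →+ V4 :=
    { toFun := fun v => φ (s v)
      map_zero' := (heq _ (hsA 0) _ A.one_mem (by rw [hs, hk1])).trans hφ1
      map_add' := fun u v => by
        rw [← hφ _ (hsA u) _ (hsA v)]
        exact heq _ (hsA _) _ (A.mul_mem (hsA u) (hsA v)) (by rw [hk _ (hsA u) _ (hsA v), hs, hs, hs]) }
  refine ⟨LinearMap.toMatrix' (f.toZModLinearMap 2), ?_⟩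
  intro a ha
  rw [LinearMap.toMatrix'_mulVec]
  show φ a = φ (s (k a))
  exact heq _ ha _ (hsA _) (hs _).symm

theorem tau_ut {τ : M4} (hs : ∀ v, ∃ u, τ *ᵥ u = v)
    (h1 : ∃ a b c d e f, τ * UTm 1 0 0 0 0 0 = UTm a b c d e f * τ)
    (h2 : ∃ a b c d e f, τ * UTm 0 0 0 1 0 0 = UTm a b c d e f * τ)
    (h3 : ∃ a b c d e f, τ * UTm 0 0 0 0 0 1 = UTm a b c d e f * τ) :
    ∃ a b c d e f, τ = UTm a b c d e f := by
  obtain ⟨a1, b1, c1, d1, e1, f1, h1⟩ := h1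
  obtain ⟨a2, b2, c2, d2, e2, f2, h2⟩ := h2
  obtain ⟨a3, b3, c3, d3, e3, f3, h3⟩ := h3
  have e : ∀ (a b c d e f a' b' c' d' e' f' : ZMod 2) (i j : Fin 4),
      τ * UTm a' b' c' d' e' f' = UTm a b c d e f * τ →
      τ i 0 * UTm a' b' c' d' e' f' 0 j + τ i 1 * UTm a' b' c' d' e' f' 1 j +
        τ i 2 * UTm a' b' c' d' e' f' 2 j + τ i 3 * UTm a' b' c' d' e' f' 3 j =
      UTm a b c d e f i 0 * τ 0 j + UTm a b c d e f i 1 * τ 1 j + UTm a b c d e f i 2 * τ 2 j +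
        UTm a b c d e f i 3 * τ 3 j := by
    intro a b c d e f a' b' c' d' e' f' i j h
    have := congrFun (congrFun h i) j
    rw [Matrix.mul_apply, Matrix.mul_apply, Fin.sum_univ_four, Fin.sum_univ_four] at this
    exact this
  have t30 : τ 3 0 = 0 := by
    have := e _ _ _ _ _ _ _ _ _ _ _ _ 3 1 h1
    simpa [UTm] using this
  have t31 : τ 3 1 = 0 := by
    have := e _ _ _ _ _ _ _ _ _ _ _ _ 3 2 h2
    simpa [UTm] using this
  have t32 : τ 3 2 = 0 := by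
    have := e _ _ _ _ _ _ _ _ _ _ _ _ 3 3 h3
    simpa [UTm] using this
  have t20 : τ 2 0 = 0 := by
    have := e _ _ _ _ _ _ _ _ _ _ _ _ 2 1 h1
    simpa [UTm, t30, t31, t32] using this
  have t21 : τ 2 1 = 0 := by
    have := e _ _ _ _ _ _ _ _ _ _ _ _ 2 2 h2
    simpa [UTm, t30, t31, t32] using this
  have t10 : τ 1 0 = 0 := by
    have := e _ _ _ _ _ _ _ _ _ _ _ _ 1 1 h1
    simpa [UTm, t30, t31, t32, t20, t21] using this
  have z1 : ∀ a : ZMod 2, a ≠ 0 → a = 1 := by decide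
  have v : ∀ (u : V4) (i : Fin 4), (τ *ᵥ u) i = τ i 0 * u 0 + τ i 1 * u 1 + τ i 2 * u 2 + τ i 3 * u 3 := by
    intro u i
    rw [Matrix.mulVec, dotProduct, Fin.sum_univ_four]
  have t33 : τ 3 3 = 1 := by
    apply z1
    intro h
    obtain ⟨u, hu⟩ := hs ![0, 0, 0, 1]
    have := congrFun hu 3
    rw [v, t30, t31, t32, h] at this
    simp at this
  have t22 : τ 2 2 = 1 := by
    apply z1
    intro h
    obtain ⟨u, hu⟩ := hs ![0, 0, 1, 0]
    have a3 := congrFun hu 3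
    rw [v, t30, t31, t32, t33] at a3
    have a3' : u 3 = 0 := by simpa using a3
    have := congrFun hu 2
    rw [v, t20, t21, h, a3'] at this
    simp at this
  have t11 : τ 1 1 = 1 := by
    apply z1
    intro h
    obtain ⟨u, hu⟩ := hs ![0, 1, 0, 0]
    have a3 := congrFun hu 3
    rw [v, t30, t31, t32, t33] at a3
    have a3' : u 3 = 0 := by simpa using a3
    have a2 := congrFun hu 2
    rw [v, t20, t21, t22, a3'] at a2
    have a2' : u 2 = 0 := by simpa using a2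
    have := congrFun hu 1
    rw [v, t10, h, a3', a2'] at this
    simp at this
  have t00 : τ 0 0 = 1 := by
    apply z1
    intro h
    obtain ⟨u, hu⟩ := hs ![1, 0, 0, 0]
    have a3 := congrFun hu 3
    rw [v, t30, t31, t32, t33] at a3
    have a3' : u 3 = 0 := by simpa using a3
    have a2 := congrFun hu 2
    rw [v, t20, t21, t22, a3'] at a2
    have a2' : u 2 = 0 := by simpa using a2
    have a1 := congrFun hu 1
    rw [v, t10, t11, a3', a2'] at a1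
    have a1' : u 1 = 0 := by simpa using a1
    have := congrFun hu 0
    rw [v, h, a3', a2', a1'] at this
    simp at this
  refine ⟨τ 0 1, τ 0 2, τ 0 3, τ 1 2, τ 1 3, τ 2 3, ?_⟩
  ext i j
  fin_cases i <;> fin_cases j <;> simp [UTm, t00, t11, t22, t33, t10, t20, t21, t30, t31, t32]

section

variable {K : Type*} [Group K] {A C J S : Subgroup K} {r : K → M4} {p k : K → V4} {c : K → M4}

theorem Dat.exists_Sw [Finite K] (d : Dat A C J S r p k c) (hA : Nat.card A = 2 ^ 10)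
    {T : Subgroup K} (hST : S ≤ T) (hT : Nat.card T = 2 * Nat.card S)
    (hNA : ∀ t ∈ T, (∀ a ∈ A, t * a * t⁻¹ ∈ A) → t ∈ S) : ∃ g, Sw A C J S r p k c T g := by
  have hidx : (S.subgroupOf T).index = 2 := by
    have h1 := (S.subgroupOf T).card_mul_index
    have h2 : Nat.card (S.subgroupOf T) = Nat.card S :=
      Nat.card_congr (Subgroup.subgroupOfEquivOfLe hST).toEquiv
    rw [h2, hT, mul_comm] at h1
    exact Nat.eq_of_mul_eq_mul_right Nat.card_pos h1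
  have hmul : ∀ a ∈ T, ∀ b ∈ T, (a * b ∈ S ↔ (a ∈ S ↔ b ∈ S)) := by
    intro a ha b hb
    have := Subgroup.mul_mem_iff_of_index_two hidx (a := ⟨a, ha⟩) (b := ⟨b, hb⟩)
    simpa [Subgroup.mem_subgroupOf] using this
  have hnorm : (S.subgroupOf T).Normal := Subgroup.normal_of_index_eq_two hidx
  have hnS : ∀ t ∈ T, ∀ s ∈ S, t * s * t⁻¹ ∈ S := by
    intro t ht s hs
    have := hnorm.conj_mem ⟨s, hST hs⟩ (Subgroup.mem_subgroupOf.2 hs) ⟨t, ht⟩
    exact this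
  obtain ⟨g, hgT, hgS⟩ : ∃ g ∈ T, g ∉ S := by
    by_contra hcon
    push Not at hcon
    have h1 : T = S := le_antisymm hcon hST
    rw [h1] at hT
    have : 0 < Nat.card S := Nat.card_pos
    omega
  have hcases : ∀ g ∈ T, g ∉ S → ∀ t ∈ T, t ∈ S ∨ g⁻¹ * t ∈ S := by
    intro g hgT hgS t ht
    by_cases h : t ∈ S
    · exact Or.inl h
    · right
      rw [hmul _ (T.inv_mem hgT) _ ht]
      constructor
      · intro h1; exact absurd (by simpa using S.inv_mem h1) hgS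
      · intro h1; exact absurd h1 h
  have hggS : ∀ g ∈ T, g * g ∈ S := fun g hg => (hmul g hg g hg).2 Iff.rfl
  -- the conjugate of `A`
  have hES : A.map (MulAut.conj g).toMonoidHom ≤ S := by
    rintro _ ⟨a, ha, rfl⟩
    exact hnS g hgT a (d.JS (d.AJ ha))
  have hEc : Nat.card (A.map (MulAut.conj g).toMonoidHom) = 2 ^ 10 := by
    rw [← hA]
    exact (Nat.card_congr (A.equivMapOfInjective (MulAut.conj g).toMonoidHom
      (MulAut.conj g).injective).toEquiv).symm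
  have hE := d.ff hES (by
    rintro s hs _ ⟨a, ha, rfl⟩
    have h1 : g⁻¹ * s * g ∈ S := by
      have := hnS g⁻¹ (T.inv_mem hgT) s hs
      rwa [inv_inv] at this
    refine ⟨(g⁻¹ * s * g) * a * (g⁻¹ * s * g)⁻¹, d.nA _ h1 a ha, ?_⟩
    show g * ((g⁻¹ * s * g) * a * (g⁻¹ * s * g)⁻¹) * g⁻¹ = s * (g * a * g⁻¹) * s⁻¹
    group) (by
    rintro _ ⟨a, ha, rfl⟩
    show (g * a * g⁻¹) * (g * a * g⁻¹) = 1
    rw [← conj_mul', d.A2 a ha]; group)
  have hE' : (A.map (MulAut.conj g).toMonoidHom ≤ J ∧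
      ((∀ v, ∃ x ∈ A.map (MulAut.conj g).toMonoidHom, p x = v) ∧
        A.map (MulAut.conj g).toMonoidHom ⊓ A = C)) := by
    rcases hE with h | h | ⟨h, -, h'⟩
    · exfalso
      apply hgS
      apply hNA g hgT
      intro a ha
      exact h ⟨a, ha, rfl⟩
    · rw [hEc] at h; norm_num at h
    · exact ⟨h, h' hEc⟩
  obtain ⟨hEJ, hEp, hEA⟩ := hE'
  have hgJ : ∀ a ∈ A, g * a * g⁻¹ ∈ J := fun a ha => hEJ ⟨a, ha, rfl⟩
  have hgg : ∀ a ∈ A, g * (g * a * g⁻¹) * g⁻¹ ∈ A := by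
    intro a ha
    rw [conj_conj']
    exact d.nA _ (hggS g hgT) a ha
  have hgC : ∀ z ∈ C, g * z * g⁻¹ ∈ C := by
    intro z hz
    rw [← hEA] at hz ⊢
    refine ⟨⟨z, hz.2, rfl⟩, ?_⟩
    obtain ⟨a, ha, rfl⟩ := hz.1
    exact hgg a ha
  -- the matrix `τ`
  obtain ⟨τ, hτ⟩ := exists_tau (A := A) (φ := fun a => p (g * a * g⁻¹)) (k := k) (by
    intro a ha b hb
    show p (g * (a * b) * g⁻¹) = _
    rw [conj_mul', d.p_mul _ (hgJ a ha) _ (hgJ b hb)]) d.k_mul d.k_surj (by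
    intro a ha hka
    show p (g * a * g⁻¹) = 0
    have haC := (d.k_zero a ha).1 hka
    exact (d.p_zero _ (hgJ a ha)).2 (d.CA (hgC a haC)))
  have hτr : ∀ s ∈ S, τ * r s = r (g * s * g⁻¹) * τ := by
    intro s hs
    apply eq_of_mulVec
    intro v
    obtain ⟨a, ha, rfl⟩ := d.k_surj v
    rw [← Matrix.mulVec_mulVec, ← Matrix.mulVec_mulVec, ← d.k_conj s hs a ha, ← hτ a ha,
      ← hτ _ (d.nA s hs a ha)]
    show p (g * (s * a * s⁻¹) * g⁻¹) = r (g * s * g⁻¹) *ᵥ p (g * a * g⁻¹)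
    rw [← d.p_conj _ (hnS g hgT s hs) _ (hgJ a ha)]
    congr 1
    group
  have hτs : ∀ v, ∃ u, τ *ᵥ u = v := by
    intro v
    obtain ⟨_, ⟨a, ha, rfl⟩, hav⟩ := hEp v
    exact ⟨k a, by rw [← hτ a ha]; exact hav⟩
  have hgen : ∀ a b c d' e f : ZMod 2, ∃ a' b' c' d'' e' f',
      τ * UTm a b c d' e f = UTm a' b' c' d'' e' f' * τ := by
    intro a b c' d' e f
    obtain ⟨s, hs, hsr⟩ := d.r_surj a b c' d' e f
    obtain ⟨a', b', c'', d'', e', f', h⟩ := d.r_ut _ (hnS g hgT s hs)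
    refine ⟨a', b', c'', d'', e', f', ?_⟩
    rw [← hsr, ← h]
    exact hτr s hs
  obtain ⟨a, b, c', d', e, f, hτe⟩ := tau_ut hτs (hgen _ _ _ _ _ _) (hgen _ _ _ _ _ _)
    (hgen _ _ _ _ _ _)
  obtain ⟨s1, hs1, hs1r⟩ := d.r_surj a b c' d' e f
  have hs1' := S.inv_mem hs1
  have hgT' : s1⁻¹ * g ∈ T := T.mul_mem (hST hs1') hgT
  have hgS' : s1⁻¹ * g ∉ S := by
    intro h
    apply hgS
    have : g = s1 * (s1⁻¹ * g) := by group
    rw [this]; exact S.mul_mem hs1 h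
  refine ⟨s1⁻¹ * g, d, hST, hgT', hgS', hcases _ hgT' hgS', hnS, hggS _ hgT', ?_, ?_, ?_⟩
  · intro a ha
    rw [← conj_conj']
    exact d.nJ hs1' (hgJ a ha)
  · intro a ha
    rw [← conj_conj', d.p_conj _ hs1' _ (hgJ a ha)]
    have h1 := hτ a ha
    have h2 : p (g * a * g⁻¹) = τ *ᵥ k a := h1
    rw [h2, hτe, ← hs1r, Matrix.mulVec_mulVec]
    have h3 : r s1⁻¹ * r s1 = 1 := by
      rw [← d.r_mul _ hs1' _ hs1, inv_mul_cancel]
      exact (d.r_one 1 S.one_mem).2 J.one_mem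
    rw [h3, Matrix.one_mulVec]
  · intro z hz
    rw [← conj_conj']
    exact d.nC _ hs1' _ (hgC z hz)

end

end Cfsg.Agent.H338.L5
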