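import Cfsg.Agent.H338.L5Rank

/-!
# The normaliser of the extended 2-group (helper338)
-/

set_option autoImplicit false

namespace Cfsg.Agent.H338.L5

open Matrix

theorem four_le {V : Type*} [AddCommGroup V] (W : AddSubgroup V) [Finite W] {a b : V}
    (ha : a ∈ W) (hb : b ∈ W) (ha0 : a ≠ 0) (hb0 : b ≠ 0) (hab : a ≠ b) (hs : a + b ≠ 0) :
    4 ≤ Nat.card W := by
  classical
  have h1 : ({0, a, b, a + b} : Finset V).card = 4 := by
    rw [Finset.card_insert_of_notMem, Finset.card_insert_of_notMem, Finset.card_insert_of_notMem,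
      Finset.card_singleton]
    · rw [Finset.mem_singleton]
      intro h
      exact ha0 (right_eq_add.1 h)
    · rw [Finset.mem_insert, Finset.mem_singleton]
      rintro (h | h)
      · exact hab h
      · exact hb0 (left_eq_add.1 h)
    · rw [Finset.mem_insert, Finset.mem_insert, Finset.mem_singleton]
      rintro (h | h | h)
      · exact ha0 h.symm
      · exact hb0 h.symm
      · exact hs h.symm
  have h2 : ∀ x ∈ ({0, a, b, a + b} : Finset V), x ∈ W := by
    intro x hx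
    rw [Finset.mem_insert, Finset.mem_insert, Finset.mem_insert, Finset.mem_singleton] at hx
    rcases hx with rfl | rfl | rfl | rfl
    · exact W.zero_mem
    · exact ha
    · exact hb
    · exact W.add_mem ha hb
  have h3 := Nat.card_le_card_of_injective (fun x : ({0, a, b, a + b} : Finset V) =>
    (⟨x.1, h2 x.1 x.2⟩ : W)) (fun x y h => Subtype.ext (congrArg (fun z : W => (z : V)) h))
  rw [Nat.card_eq_fintype_card, Fintype.card_coe, h1] at h3
  exact h3

section

variable {K : Type*} [Group K] {A C J S : Subgroup K} {r : K → M4} {p k : K → V4} {c : K → M4}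

namespace Sw

variable {T : Subgroup K} {g : K}

open Classical in
/-- The extension of `r` to `T`. -/
noncomputable def rt (S : Subgroup K) (r : K → M4) (g : K) (y : K) : M4 :=
  if y ∈ S then r y else r (g⁻¹ * y)

theorem rt_in {y : K} (h : y ∈ S) : rt S r g y = r y := if_pos h
theorem rt_out {y : K} (h : y ∉ S) : rt S r g y = r (g⁻¹ * y) := if_neg h

/-- The difference. -/
def de (p : K → V4) (g : K) (x : K) : V4 := p x + q p g x

theorem de_mul (w : Sw A C J S r p k c T g) {x y : K} (hx : x ∈ J) (hy : y ∈ J) :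
    de p g (x * y) = de p g x + de p g y := by
  unfold de
  rw [w.dat.p_mul x hx y hy, w.q_mul hx hy]
  abel

theorem de_inv (w : Sw A C J S r p k c T g) {x : K} (hx : x ∈ J) :
    de p g x⁻¹ = de p g x := by
  unfold de
  rw [w.dat.p_inv hx, w.q_inv hx]

theorem de_conj (w : Sw A C J S r p k c T g) {y x : K} (hy : y ∈ T) (hx : x ∈ J) :
    de p g (y * x * y⁻¹) = rt S r g y *ᵥ de p g x := by
  unfold de
  by_cases hS : y ∈ S
  · rw [rt_in hS, w.dat.p_conj y hS x hx, w.q_conj hS hx, Matrix.mulVec_add]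
  · have h1 := (w.cases y hy).resolve_left hS
    have h2 : y = g * (g⁻¹ * y) := by group
    rw [rt_out hS]
    conv_lhs => rw [h2]
    rw [w.p_out h1 hx, w.q_out h1 hx, Matrix.mulVec_add, add_comm]

theorem c_conj (w : Sw A C J S r p k c T g) {y x : K} (hy : y ∈ T) (hx : x ∈ C) :
    c (y * x * y⁻¹) = rt S r g y * c x * (rt S r g y)ᵀ := by
  by_cases hS : y ∈ S
  · rw [rt_in hS, w.dat.c_conj y hS x hx]
  · have h1 := (w.cases y hy).resolve_left hS
    have h2 : y = g * (g⁻¹ * y) := by group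
    rw [rt_out hS]
    conv_lhs => rw [h2]
    rw [← conj_conj', w.gC_fix (w.dat.nC _ h1 _ hx), w.dat.c_conj _ h1 x hx]

theorem rt_ut (w : Sw A C J S r p k c T g) {y : K} (hy : y ∈ T) :
    ∃ a b c d e f, rt S r g y = UTm a b c d e f := by
  by_cases hS : y ∈ S
  · rw [rt_in hS]; exact w.dat.r_ut y hS
  · rw [rt_out hS]; exact w.dat.r_ut _ ((w.cases y hy).resolve_left hS)

/-- The centraliser of `y` in `C` is small. -/
theorem card_CC [Finite K] (w : Sw A C J S r p k c T g) {y : K} (hy : y ∈ T)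
    (hr : rt S r g y ≠ 1) {Q : Subgroup K} (hQ : ∀ z ∈ Q, z ∈ C ∧ y * z * y⁻¹ = z) :
    4 * Nat.card Q ≤ Nat.card C := by
  obtain ⟨E0, W, hE0, hW, hc⟩ := lay C (fun z => c (y * z * y⁻¹) + c z) (by
    intro a ha b hb
    show c (y * (a * b) * y⁻¹) + c (a * b) = _
    rw [conj_mul', w.dat.c_mul _ (w.nCT hy ha) _ (w.nCT hy hb), w.dat.c_mul _ ha _ hb]
    abel)
  obtain ⟨a, b, c', d, e, f, hu⟩ := w.rt_ut hy
  have h4 : 4 ≤ Nat.card W := by
    rcases rank_two a b c' d e f with ⟨rfl, rfl, rfl, rfl, rfl, rfl⟩ | ⟨i, j, h1, h2, h3⟩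
    · exact absurd (hu.trans UTm_one) hr
    · have hB : ∀ i : Fin 6, rt S r g y * Bas i * (rt S r g y)ᵀ + Bas i ∈ W := by
        intro i
        obtain ⟨z, hz, hzi⟩ := w.dat.c_surj (if i = 0 then 1 else 0) (if i = 1 then 1 else 0)
          (if i = 2 then 1 else 0) (if i = 3 then 1 else 0) (if i = 4 then 1 else 0)
          (if i = 5 then 1 else 0)
        rw [hW]
        refine ⟨z, hz, ?_⟩
        have h5 : c z = Bas i := hzi
        show c (y * z * y⁻¹) + c z = _
        rw [w.c_conj hy hz, h5]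
      rw [← hu] at h1 h2 h3
      have hi := hB i
      have hj := hB j
      set wi := rt S r g y * Bas i * (rt S r g y)ᵀ + Bas i with hwi
      set wj := rt S r g y * Bas j * (rt S r g y)ᵀ + Bas j with hwj
      have hi0 : wi ≠ 0 := by
        intro h
        apply h1
        calc rt S r g y * Bas i * (rt S r g y)ᵀ = rt S r g y * Bas i * (rt S r g y)ᵀ + (Bas i + Bas i) := by
              rw [m2, add_zero]
          _ = wi + Bas i := by rw [hwi]; abel
          _ = Bas i := by rw [h, zero_add]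
      have hj0 : wj ≠ 0 := by
        intro h
        apply h2
        calc rt S r g y * Bas j * (rt S r g y)ᵀ = rt S r g y * Bas j * (rt S r g y)ᵀ + (Bas j + Bas j) := by
              rw [m2, add_zero]
          _ = wj + Bas j := by rw [hwj]; abel
          _ = Bas j := by rw [h, zero_add]
      have hij : wi + wj ≠ 0 := by
        intro h
        apply h3
        calc wi = wi + (wj + wj) := by rw [m2, add_zero]
          _ = (wi + wj) + wj := by abel
          _ = wj := by rw [h, zero_add]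
      exact four_le W hi hj hi0 hj0 h3 hij
  have hQE : Q ≤ E0 := by
    intro z hz
    rw [hE0]
    obtain ⟨h1, h2⟩ := hQ z hz
    refine ⟨h1, ?_⟩
    show c (y * z * y⁻¹) + c z = 0
    rw [h2, m2]
  have h5 : Nat.card Q ≤ Nat.card E0 := Nat.card_mono (Set.toFinite _) hQE
  rw [hc]
  exact Nat.mul_le_mul h4 h5

/-- Elements of `F` outside `S`. -/
theorem F_out (w : Sw A C J S r p k c T g) {z x : K} (hz : z ∈ w.F) (hzS : z ∉ S) (hx : x ∈ J) :
    p (z * x * z⁻¹) = q p g x := by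
  have h1 := (w.cases z (w.mem_F.1 hz).1).resolve_left hzS
  have h2 : z = g * (g⁻¹ * z) := by group
  have h3 : r (g⁻¹ * z) = 1 := by
    apply eq_of_mulVec
    intro v
    obtain ⟨y, hy, hyv⟩ := w.D_surj v
    have h4 : z * y * z⁻¹ = y := by rw [(w.mem_F.1 hz).2 y hy]; group
    have h5 := w.p_out h1 hy.1
    rw [← h2, h4, ← hy.2, hyv] at h5
    rw [Matrix.one_mulVec, ← h5]
  have h6 := w.p_out h1 hx
  rw [← h2, h3, Matrix.one_mulVec] at h6
  exact h6

theorem om_eq (w : Sw A C J S r p k c T g) {z x : K} (hz : z ∈ w.D) (hx : x ∈ J)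
    (h : z * x = x * z) : om (p z) (de p g x) = 0 := by
  obtain ⟨h1, h2⟩ := w.commJ hz.1 hx
  have h3 : z * x * z⁻¹ * x⁻¹ = 1 := by rw [h]; group
  rw [h3, (w.dat.c_zero 1 C.one_mem).2 rfl, ← hz.2, ← om_add'] at h2
  unfold de
  rw [add_comm]
  exact h2.symm

theorem gT_inv (w : Sw A C J S r p k c T g) : g⁻¹ ∈ T := T.inv_mem w.gT

/-- An element outside `S` in `F`. -/
theorem exists_F_out (w : Sw A C J S r p k c T g) : ∃ z ∈ w.F, z ∉ S := by
  obtain ⟨y, hy, h⟩ := w.exists_g1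
  refine ⟨y * g, w.mem_F.2 ⟨T.mul_mem (w.ST (w.dat.JS hy)) w.gT, fun x hx => ?_⟩, fun hS => ?_⟩
  · calc (y * g) * x = ((y * g) * x * (y * g)⁻¹) * (y * g) := by group
      _ = x * (y * g) := by rw [h x hx]
  · apply w.gS
    have : g = y⁻¹ * (y * g) := by group
    rw [this]
    exact S.mul_mem (S.inv_mem (w.dat.JS hy)) hS

theorem el_p (w : Sw A C J S r p k c T g) (v : V4) : ∃ x ∈ J, p x = v ∧ q p g x = 0 := by
  obtain ⟨b, hb, rfl⟩ := w.dat.k_surj v
  exact ⟨g * b * g⁻¹, w.gJ b hb, w.pg b hb, w.q_E hb⟩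

/-- Normal elementary abelian subgroups of `T` of order `2^10` lie in `F`. -/
theorem normal_le_F [Finite K] (w : Sw A C J S r p k c T g) (hA : Nat.card A = 2 ^ 10)
    {Y : Subgroup K} (hYT : Y ≤ T) (hn : ∀ t ∈ T, ∀ x ∈ Y, t * x * t⁻¹ ∈ Y)
    (h2 : ∀ x ∈ Y, x * x = 1) (hY : Nat.card Y = 2 ^ 10) : Y ≤ w.F := by
  by_cases hYS : Y ≤ S
  · rcases w.dat.ff hYS (fun s hs => hn s (w.ST hs)) h2 with h | h | ⟨h, -, h'⟩
    · exfalso
      have hYA : Y = A := Subgroup.eq_of_le_of_card_ge h (by rw [hA, hY])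
      obtain ⟨a, ha, hka⟩ := w.dat.k_surj (fun _ => 1)
      have h1 : g * a * g⁻¹ ∈ A := by
        rw [← hYA] at ha ⊢
        exact hn g w.gT a ha
      have h3 := w.pg a ha
      rw [(w.dat.p_zero _ (w.gJ a ha)).2 h1, hka] at h3
      have h4 := congrFun h3 0
      exact absurd h4 (by decide)
    · rw [hY] at h
      norm_num at h
    · obtain ⟨-, h3⟩ := h' hY
      have hpC : ∀ x ∈ Y, p x = 0 → x ∈ C := by
        intro x hx hp
        rw [← h3]
        exact ⟨hx, (w.dat.p_zero x (h hx)).1 hp⟩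
      intro x hx
      apply w.D_F
      rcases w.pure (h hx) (h2 x hx) with h4 | h4 | h4
      · have hxC := hpC x hx h4
        exact ⟨h hx, by rw [h4, w.C_q hxC]⟩
      · have h5 := hpC _ (hn g w.gT x hx) h4
        have h6 := w.nCT w.gT_inv h5
        have h7 : g⁻¹ * (g * x * g⁻¹) * g⁻¹⁻¹ = x := by group
        rw [h7] at h6
        exact ⟨h hx, by rw [w.C_p h6, w.C_q h6]⟩
      · exact ⟨h hx, h4⟩
  · obtain ⟨y, hy, hyS⟩ := Set.not_subset.1 hYS
    have hyT := hYT hy
    have h1 := (w.cases y hyT).resolve_left hyS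
    have hyg : y = g * (g⁻¹ * y) := by group
    -- elements of `Y` in `D`
    have key : ∀ v, ∃ x ∈ w.D, p x = v ∧ x ∈ Y := by
      intro v
      obtain ⟨x, hxJ, hxp, hxq⟩ := w.el_p v
      have h3 : x * (y * x⁻¹ * y⁻¹) ∈ Y := by
        have : x * (y * x⁻¹ * y⁻¹) = (x * y * x⁻¹) * y⁻¹ := by group
        rw [this]
        exact Y.mul_mem (hn x (w.ST (w.dat.JS hxJ)) y hy) (Y.inv_mem hy)
      have h4 : y * x⁻¹ * y⁻¹ ∈ J := w.nJT hyT (J.inv_mem hxJ)
      have hp : p (x * (y * x⁻¹ * y⁻¹)) = v := by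
        rw [w.dat.p_mul x hxJ _ h4, hxp]
        have := w.p_out h1 (J.inv_mem hxJ)
        rw [← hyg, w.q_inv hxJ, hxq, Matrix.mulVec_zero] at this
        rw [this, add_zero]
      have hq : q p g (x * (y * x⁻¹ * y⁻¹)) = r (g⁻¹ * y) *ᵥ v := by
        rw [w.q_mul hxJ h4, hxq, zero_add]
        have := w.q_out h1 (J.inv_mem hxJ)
        rw [← hyg, w.dat.p_inv hxJ, hxp] at this
        exact this
      have hJ := J.mul_mem hxJ h4
      refine ⟨_, ⟨hJ, ?_⟩, hp, h3⟩
      rcases w.pure hJ (h2 _ h3) with h5 | h5 | h5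
      · rw [hp] at h5
        rw [hp, hq, h5, Matrix.mulVec_zero]
      · rw [hq] at h5
        have h6 : v = 0 := by
          calc v = (r (g⁻¹ * y)⁻¹ * r (g⁻¹ * y)) *ᵥ v := by
                rw [w.dat.r_inv_mul h1, Matrix.one_mulVec]
            _ = r (g⁻¹ * y)⁻¹ *ᵥ (r (g⁻¹ * y) *ᵥ v) := by rw [Matrix.mulVec_mulVec]
            _ = 0 := by rw [h5, Matrix.mulVec_zero]
        rw [hp, hq, h6, Matrix.mulVec_zero]
      · exact h5
    intro x hx
    by_cases hxS : x ∈ S
    · apply w.D_F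
      apply w.cent_D hxS
      intro v
      obtain ⟨z, hz, hzv, hzY⟩ := key v
      exact ⟨z, hz, hzv, comm_of_two h2 hx hzY⟩
    · obtain ⟨u, hu, huS⟩ := w.exists_F_out
      have h3 := w.out_out (w.mem_F.1 hu).1 (hYT hx) huS hxS
      have h4 : u⁻¹ * x ∈ w.D := by
        apply w.cent_D h3
        intro v
        obtain ⟨z, hz, hzv, hzY⟩ := key v
        refine ⟨z, hz, hzv, ?_⟩
        have h5 := (w.mem_F.1 (w.F.inv_mem hu)).2 z hz
        have h6 := comm_of_two h2 hx hzY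
        rw [mul_assoc, h6, ← mul_assoc, h5, mul_assoc]
      have h5 : x = u * (u⁻¹ * x) := by group
      rw [h5]
      exact w.F.mul_mem hu (w.D_F h4)

theorem card_D [Finite K] (w : Sw A C J S r p k c T g) : Nat.card w.D = Nat.card A := by
  obtain ⟨E0, W, hE0, hW, hc⟩ := lay w.D p (fun x hx y hy => w.dat.p_mul x hx.1 y hy.1)
  obtain ⟨E1, W1, hE1, hW1, hc1⟩ := lay A k (fun x hx y hy => w.dat.k_mul x hx y hy)
  have h1 : W = ⊤ := by
    rw [eq_top_iff]
    intro v _
    obtain ⟨x, hx, hxv⟩ := w.D_surj v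
    exact (hW v).2 ⟨x, hx, hxv⟩
  have h2 : W1 = ⊤ := by
    rw [eq_top_iff]
    intro v _
    obtain ⟨x, hx, hxv⟩ := w.dat.k_surj v
    exact (hW1 v).2 ⟨x, hx, hxv⟩
  have h3 : E0 = C := by
    ext x
    rw [hE0]
    constructor
    · rintro ⟨h, h'⟩; exact w.pq_zero h.1 h' (by rw [← h.2, h'])
    · intro h
      exact ⟨⟨w.dat.AJ (w.dat.CA h), by rw [w.C_p h, w.C_q h]⟩, w.C_p h⟩
  have h4 : E1 = C := by
    ext x
    rw [hE1]
    constructor
    · rintro ⟨h, h'⟩; exact (w.dat.k_zero x h).1 h'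
    · intro h
      exact ⟨w.dat.CA h, (w.dat.k_zero x (w.dat.CA h)).2 h⟩
  rw [hc, hc1, h1, h2, h3, h4]

theorem D_sq (w : Sw A C J S r p k c T g) {x : K} (hx : x ∈ w.D) : x * x = 1 := by
  obtain ⟨a, ha, b, hb, hxe, hxb⟩ := w.split hx.1
  have hqx : q p g x = k a := by
    rw [hxe, w.q_mul (w.dat.AJ ha) (w.gJ b hb), w.q_A ha, w.q_E hb, add_zero]
  have h1 : k b = k a := by rw [hxb, hx.2, hqx]
  have h2 := w.comm_E hb ha h1
  have hbb : (g * b * g⁻¹) * (g * b * g⁻¹) = 1 := by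
    rw [← conj_mul', w.dat.A2 b hb]; group
  have haa := w.dat.A2 a ha
  rw [hxe]
  calc a * (g * b * g⁻¹) * (a * (g * b * g⁻¹)) = a * ((g * b * g⁻¹) * a) * (g * b * g⁻¹) := by
        simp only [mul_assoc]
    _ = a * (a * (g * b * g⁻¹)) * (g * b * g⁻¹) := by rw [h2]
    _ = (a * a) * ((g * b * g⁻¹) * (g * b * g⁻¹)) := by simp only [mul_assoc]
    _ = 1 := by rw [haa, hbb, one_mul]

theorem D_normal (w : Sw A C J S r p k c T g) {t x : K} (ht : t ∈ T) (hx : x ∈ w.D) :
    t * x * t⁻¹ ∈ w.D := by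
  refine ⟨w.nJT ht hx.1, ?_⟩
  rcases w.cases t ht with h | h
  · rw [w.dat.p_conj t h x hx.1, w.q_conj h hx.1, hx.2]
  · have h2 : t = g * (g⁻¹ * t) := by group
    rw [h2, w.p_out h hx.1, w.q_out h hx.1, hx.2]

end Sw

end

end Cfsg.Agent.H338.L5
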