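import Cfsg.Agent.H338.L5Norm

/-!
# The normaliser of the extended 2-group, conclusion (helper338)
-/

set_option autoImplicit false

namespace Cfsg.Agent.H338.L5

open Matrix

section

variable {K : Type*} [Group K] {A C J S : Subgroup K} {r : K → M4} {p k : K → V4} {c : K → M4}

namespace Sw

variable {T : Subgroup K} {g : K}

theorem norm_inv {t : K} (ht : ∀ x, x ∈ T ↔ t * x * t⁻¹ ∈ T) : ∀ x ∈ T, t⁻¹ * x * t ∈ T := by
  intro x hx
  rw [ht]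
  have : t * (t⁻¹ * x * t) * t⁻¹ = x := by group
  rw [this]; exact hx

theorem norm_symm {t : K} (ht : ∀ x, x ∈ T ↔ t * x * t⁻¹ ∈ T) :
    ∀ x, x ∈ T ↔ t⁻¹ * x * t⁻¹⁻¹ ∈ T := by
  intro x
  rw [inv_inv]
  constructor
  · exact norm_inv ht x
  · intro h
    have := (ht _).1 h
    have h2 : t * (t⁻¹ * x * t) * t⁻¹ = x := by group
    rwa [h2] at this

theorem norm_F [Finite K] (w : Sw A C J S r p k c T g) (hA : Nat.card A = 2 ^ 10) {t : K}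
    (ht : ∀ x, x ∈ T ↔ t * x * t⁻¹ ∈ T) : ∀ x ∈ w.F, t⁻¹ * x * t ∈ w.F := by
  have hY : w.D.map (MulAut.conj t).toMonoidHom ≤ w.F := by
    apply w.normal_le_F hA
    · rintro _ ⟨x, hx, rfl⟩
      exact (ht x).1 (w.ST (w.DS hx))
    · rintro s hs _ ⟨x, hx, rfl⟩
      refine ⟨(t⁻¹ * s * t) * x * (t⁻¹ * s * t)⁻¹, w.D_normal (norm_inv ht s hs) hx, ?_⟩
      show t * ((t⁻¹ * s * t) * x * (t⁻¹ * s * t)⁻¹) * t⁻¹ = s * (t * x * t⁻¹) * s⁻¹
      group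
    · rintro _ ⟨x, hx, rfl⟩
      show (t * x * t⁻¹) * (t * x * t⁻¹) = 1
      rw [← conj_mul', w.D_sq hx]; group
    · rw [Nat.card_congr (w.D.equivMapOfInjective _ (MulAut.conj t).injective).toEquiv.symm,
        w.card_D, hA]
  intro x hx
  rw [w.mem_F]
  refine ⟨norm_inv ht x (w.mem_F.1 hx).1, ?_⟩
  intro y hy
  have h1 : t * y * t⁻¹ ∈ w.F := hY ⟨y, hy, rfl⟩
  have h2 := w.F_comm hx h1
  calc t⁻¹ * x * t * y = t⁻¹ * (x * (t * y * t⁻¹)) * t := by group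
    _ = t⁻¹ * ((t * y * t⁻¹) * x) * t := by rw [h2]
    _ = _ := by group

theorem norm_F' [Finite K] (w : Sw A C J S r p k c T g) (hA : Nat.card A = 2 ^ 10) {t : K}
    (ht : ∀ x, x ∈ T ↔ t * x * t⁻¹ ∈ T) : ∀ x ∈ w.F, t * x * t⁻¹ ∈ w.F := by
  intro x hx
  have := w.norm_F hA (norm_symm ht) x hx
  rwa [inv_inv] at this

theorem C_F (w : Sw A C J S r p k c T g) {z : K} (hz : z ∈ C) : z ∈ w.F :=
  w.D_F ⟨w.dat.AJ (w.dat.CA hz), by rw [w.C_p hz, w.C_q hz]⟩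

theorem norm_rt [Finite K] (w : Sw A C J S r p k c T g) (hA : Nat.card A = 2 ^ 10) {t : K}
    (ht : ∀ x, x ∈ T ↔ t * x * t⁻¹ ∈ T) {a : K} (ha : a ∈ A) : rt S r g (t * a * t⁻¹) = 1 := by
  by_contra hr
  set y := t * a * t⁻¹ with hy
  have hyT : y ∈ T := (ht a).1 (w.ST (w.dat.JS (w.dat.AJ ha)))
  obtain ⟨v, hv⟩ : ∃ v : V4, rt S r g y *ᵥ v ≠ v := by
    by_contra hcon
    push Not at hcon
    exact hr (eq_of_mulVec fun v => by rw [hcon, Matrix.one_mulVec])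
  obtain ⟨x, hxJ, hxp, hxq⟩ := w.el_p v
  have hxT : x ∈ T := w.ST (w.dat.JS hxJ)
  have hdx : de p g x = v := by unfold de; rw [hxp, hxq, add_zero]
  have h4 : y * x⁻¹ * y⁻¹ ∈ J := w.nJT hyT (J.inv_mem hxJ)
  have hwJ : x * (y * x⁻¹ * y⁻¹) ∈ J := J.mul_mem hxJ h4
  set u := x * (y * x⁻¹ * y⁻¹) with hu
  have hdu : de p g u ≠ 0 := by
    rw [hu, w.de_mul hxJ h4, w.de_conj hyT (J.inv_mem hxJ), w.de_inv hxJ, hdx]
    intro h
    apply hv
    calc rt S r g y *ᵥ v = (v + v) + rt S r g y *ᵥ v := by rw [v2, zero_add]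
      _ = v + (v + rt S r g y *ᵥ v) := by abel
      _ = v := by rw [h, add_zero]
  let Q : Subgroup K := w.F ⊓ Subgroup.centralizer ({u, y} : Set K)
  have hQ : ∀ z, z ∈ Q ↔ z ∈ w.F ∧ z * u = u * z ∧ z * y = y * z := by
    intro z
    rw [Subgroup.mem_inf, Subgroup.mem_centralizer_iff]
    constructor
    · rintro ⟨h1, h2⟩
      exact ⟨h1, (h2 u (by simp)).symm, (h2 y (by simp)).symm⟩
    · rintro ⟨h1, h2, h3⟩
      refine ⟨h1, ?_⟩
      rintro b (rfl | rfl)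
      · exact h2.symm
      · exact h3.symm
  have hCy : ∀ z ∈ C, (t * z * t⁻¹) * y = y * (t * z * t⁻¹) := by
    intro z hz
    rw [hy, ← conj_mul', ← conj_mul', w.dat.A_comm (w.dat.CA hz) ha]
  have hCQ : C.map (MulAut.conj t).toMonoidHom ≤ Q := by
    rintro _ ⟨z, hz, rfl⟩
    show t * z * t⁻¹ ∈ Q
    rw [hQ]
    refine ⟨w.norm_F' hA ht z (w.C_F hz), ?_, hCy z hz⟩
    -- commutes with `x y x⁻¹`
    have h1 : (t⁻¹ * x * t)⁻¹ * z * (t⁻¹ * x * t)⁻¹⁻¹ ∈ C :=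
      w.nCT (T.inv_mem (norm_inv ht x hxT)) hz
    have h2 := hCy _ h1
    have h3 : t * ((t⁻¹ * x * t)⁻¹ * z * (t⁻¹ * x * t)⁻¹⁻¹) * t⁻¹ = x⁻¹ * (t * z * t⁻¹) * x := by
      group
    rw [h3] at h2
    have h5 : (t * z * t⁻¹) * (x * y * x⁻¹) = (x * y * x⁻¹) * (t * z * t⁻¹) := by
      calc (t * z * t⁻¹) * (x * y * x⁻¹) = x * ((x⁻¹ * (t * z * t⁻¹) * x) * y) * x⁻¹ := by group
        _ = x * (y * (x⁻¹ * (t * z * t⁻¹) * x)) * x⁻¹ := by rw [h2]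
        _ = _ := by group
    have h6 : (t * z * t⁻¹) * y⁻¹ = y⁻¹ * (t * z * t⁻¹) := by
      calc (t * z * t⁻¹) * y⁻¹ = y⁻¹ * (y * (t * z * t⁻¹)) * y⁻¹ := by group
        _ = y⁻¹ * ((t * z * t⁻¹) * y) * y⁻¹ := by rw [hCy z hz]
        _ = _ := by group
    have h7 : u = (x * y * x⁻¹) * y⁻¹ := by rw [hu]; group
    rw [h7]
    calc (t * z * t⁻¹) * ((x * y * x⁻¹) * y⁻¹) = ((t * z * t⁻¹) * (x * y * x⁻¹)) * y⁻¹ := by group
      _ = (x * y * x⁻¹) * ((t * z * t⁻¹) * y⁻¹) := by rw [h5, mul_assoc]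
      _ = (x * y * x⁻¹) * (y⁻¹ * (t * z * t⁻¹)) := by rw [h6]
      _ = _ := by group
  have hQD : ∀ z ∈ Q, z ∈ w.D := by
    intro z hz
    obtain ⟨h1, h2, h3⟩ := (hQ z).1 hz
    by_cases hzS : z ∈ S
    · exact w.F_S h1 hzS
    · exfalso
      have h5 := w.F_out h1 hzS hwJ
      have h6 : z * u * z⁻¹ = u := by rw [h2]; group
      rw [h6] at h5
      apply hdu
      unfold de
      rw [h5, v2]
  obtain ⟨E0, W, hE0, hW, hc⟩ := lay Q p (fun a ha b hb =>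
    w.dat.p_mul a (hQD a ha).1 b (hQD b hb).1)
  have hW2 : Nat.card W ≤ 2 := card_le_two (a := de p g u) fun v hv => by
    obtain ⟨z, hz, rfl⟩ := (hW v).1 hv
    rcases om_zero _ _ (w.om_eq (hQD z hz) hwJ ((hQ z).1 hz).2.1) with h | h | h
    · exact Or.inl h
    · exact absurd h hdu
    · exact Or.inr h
  have hE4 := w.card_CC hyT hr (Q := E0) (by
    intro z hz
    obtain ⟨h1, h2⟩ := (hE0 z).1 hz
    have h3 := hQD z h1
    refine ⟨w.pq_zero h3.1 h2 (by rw [← h3.2, h2]), ?_⟩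
    rw [← ((hQ z).1 h1).2.2]; group)
  have h5 : Nat.card C ≤ Nat.card Q := by
    rw [Nat.card_congr (C.equivMapOfInjective (MulAut.conj t).toMonoidHom
      (MulAut.conj t).injective).toEquiv]
    exact Nat.card_mono (Set.toFinite _) hCQ
  have h6 : 0 < Nat.card E0 := Nat.card_pos
  have h7 : Nat.card W * Nat.card E0 ≤ 2 * Nat.card E0 := Nat.mul_le_mul_right _ hW2
  rw [hc] at h5
  omega

theorem A_of_F (w : Sw A C J S r p k c T g) {a : K} (ha : a ∈ A) (haF : a ∈ w.F) : a ∈ C := by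
  have h1 := w.F_S haF (w.dat.JS (w.dat.AJ ha))
  have h2 := (w.dat.p_zero a (w.dat.AJ ha)).2 ha
  exact w.pq_zero h1.1 h2 (by rw [← h1.2, h2])

theorem norm_J [Finite K] (w : Sw A C J S r p k c T g) (hA : Nat.card A = 2 ^ 10) {t : K}
    (ht : ∀ x, x ∈ T ↔ t * x * t⁻¹ ∈ T) {a : K} (ha : a ∈ A) : t * a * t⁻¹ ∈ J := by
  have hT : ∀ a ∈ A, t * a * t⁻¹ ∈ T := fun a ha => (ht a).1 (w.ST (w.dat.JS (w.dat.AJ ha)))
  have hSJ : ∀ a ∈ A, t * a * t⁻¹ ∈ S → t * a * t⁻¹ ∈ J := by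
    intro a ha hS
    have := w.norm_rt hA ht ha
    rw [rt_in hS] at this
    exact w.dat.J_le hS this
  by_contra hcon
  have hyS : t * a * t⁻¹ ∉ S := fun h => hcon (hSJ a ha h)
  have hrt := w.norm_rt hA ht ha
  rw [rt_out hyS] at hrt
  have h1 := (w.cases _ (hT a ha)).resolve_left hyS
  have key : ∀ b ∈ A, t * b * t⁻¹ ∈ S → b ∈ C := by
    intro b hb hS
    have hJ := hSJ b hb hS
    have h2 := w.p_out h1 hJ
    have h3 : g * (g⁻¹ * (t * a * t⁻¹)) = t * a * t⁻¹ := by group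
    rw [h3, hrt, Matrix.one_mulVec] at h2
    have h4 : (t * a * t⁻¹) * (t * b * t⁻¹) * (t * a * t⁻¹)⁻¹ = t * b * t⁻¹ := by
      rw [← conj_mul', w.dat.A_comm ha hb]; group
    rw [h4] at h2
    have h5 : t * b * t⁻¹ ∈ w.D := ⟨hJ, h2⟩
    have h6 := w.norm_F hA ht _ (w.D_F h5)
    have h7 : t⁻¹ * (t * b * t⁻¹) * t = b := by group
    rw [h7] at h6
    exact w.A_of_F hb h6
  obtain ⟨a1, ha1, hk1⟩ := w.dat.k_surj ![1, 0, 0, 0]
  obtain ⟨a2, ha2, hk2⟩ := w.dat.k_surj ![0, 1, 0, 0]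
  have hn1 : t * a1 * t⁻¹ ∉ S := by
    intro h
    have := (w.dat.k_zero a1 ha1).2 (key a1 ha1 h)
    rw [hk1] at this
    exact absurd (congrFun this 0) (by decide)
  have hn2 : t * a2 * t⁻¹ ∉ S := by
    intro h
    have := (w.dat.k_zero a2 ha2).2 (key a2 ha2 h)
    rw [hk2] at this
    exact absurd (congrFun this 1) (by decide)
  have h12 := w.out_out (hT a1 ha1) (hT a2 ha2) hn1 hn2
  have h13 : (t * a1 * t⁻¹)⁻¹ * (t * a2 * t⁻¹) = t * (a1⁻¹ * a2) * t⁻¹ := by group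
  rw [h13] at h12
  have h14 := A.mul_mem (A.inv_mem ha1) ha2
  have h15 := (w.dat.k_zero _ h14).2 (key _ h14 h12)
  rw [w.dat.k_mul _ (A.inv_mem ha1) _ ha2, w.dat.k_inv ha1, hk1, hk2] at h15
  exact absurd (congrFun h15 0) (by decide)

theorem main [Finite K] (w : Sw A C J S r p k c T g) (hA : Nat.card A = 2 ^ 10) {t : K}
    (ht : ∀ x, x ∈ T ↔ t * x * t⁻¹ ∈ T) :
    (∀ a ∈ A, t * a * t⁻¹ ∈ A) ∨ ∀ a ∈ A, (g * t) * a * (g * t)⁻¹ ∈ A := by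
  have hJ : ∀ a ∈ A, t * a * t⁻¹ ∈ J := fun a ha => w.norm_J hA ht ha
  have hα : ∀ a ∈ A, ∀ b ∈ A, p (t * (a * b) * t⁻¹) = p (t * a * t⁻¹) + p (t * b * t⁻¹) := by
    intro a ha b hb
    rw [conj_mul', w.dat.p_mul _ (hJ a ha) _ (hJ b hb)]
  have hβ : ∀ a ∈ A, ∀ b ∈ A,
      q p g (t * (a * b) * t⁻¹) = q p g (t * a * t⁻¹) + q p g (t * b * t⁻¹) := by
    intro a ha b hb
    rw [conj_mul', w.q_mul (hJ a ha) (hJ b hb)]
  have hpure : ∀ a ∈ A, p (t * a * t⁻¹) = 0 ∨ q p g (t * a * t⁻¹) = 0 ∨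
      p (t * a * t⁻¹) = q p g (t * a * t⁻¹) := by
    intro a ha
    apply w.pure (hJ a ha)
    rw [← conj_mul', w.dat.A2 a ha]; group
  have hD : ∀ a ∈ A, p (t * a * t⁻¹) = q p g (t * a * t⁻¹) → a ∈ C := by
    intro a ha h
    have h5 : t * a * t⁻¹ ∈ w.D := ⟨hJ a ha, h⟩
    have h6 := w.norm_F hA ht _ (w.D_F h5)
    have h7 : t⁻¹ * (t * a * t⁻¹) * t = a := by group
    rw [h7] at h6
    exact w.A_of_F ha h6
  by_contra hcon
  push Not at hcon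
  obtain ⟨⟨a0, ha0, ha0'⟩, ⟨b0, hb0, hb0'⟩⟩ := hcon
  have hα0 : p (t * a0 * t⁻¹) ≠ 0 := fun h => ha0' ((w.dat.p_zero _ (hJ a0 ha0)).1 h)
  have hβ0 : q p g (t * b0 * t⁻¹) ≠ 0 := by
    intro h
    apply hb0'
    rw [← conj_conj']
    exact (w.dat.p_zero _ (w.ngJ (hJ b0 hb0))).1 h
  obtain ⟨a', ha', hka'⟩ := w.dat.k_surj ![1, 0, 0, 0]
  have ha'C : a' ∉ C := by
    intro h
    have := (w.dat.k_zero a' ha').2 h
    rw [hka'] at this
    exact absurd (congrFun this 0) (by decide)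
  have hmulC : ∀ {a b : K}, a ∈ C → b ∉ C → a * b ∉ C := by
    intro a b ha hb h
    apply hb
    have : b = a⁻¹ * (a * b) := by group
    rw [this]; exact C.mul_mem (C.inv_mem ha) h
  obtain ⟨a1, ha1, ha1C, hα1⟩ : ∃ a1 ∈ A, a1 ∉ C ∧ p (t * a1 * t⁻¹) ≠ 0 := by
    by_cases h : a0 ∈ C
    · by_cases h' : p (t * a' * t⁻¹) = 0
      · refine ⟨a0 * a', A.mul_mem ha0 ha', hmulC h ha'C, ?_⟩
        rw [hα a0 ha0 a' ha', h', add_zero]; exact hα0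
      · exact ⟨a', ha', ha'C, h'⟩
    · exact ⟨a0, ha0, h, hα0⟩
  obtain ⟨b1, hb1, hb1C, hβ1⟩ : ∃ b1 ∈ A, b1 ∉ C ∧ q p g (t * b1 * t⁻¹) ≠ 0 := by
    by_cases h : b0 ∈ C
    · by_cases h' : q p g (t * a' * t⁻¹) = 0
      · refine ⟨b0 * a', A.mul_mem hb0 ha', hmulC h ha'C, ?_⟩
        rw [hβ b0 hb0 a' ha', h', add_zero]; exact hβ0
      · exact ⟨a', ha', ha'C, h'⟩
    · exact ⟨b0, hb0, h, hβ0⟩
  -- a product of two elements of different type lies in `C`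
  have prod : ∀ a ∈ A, ∀ b ∈ A, a ∉ C → b ∉ C → p (t * a * t⁻¹) ≠ 0 → q p g (t * b * t⁻¹) ≠ 0 →
      k a = k b := by
    intro a ha b hb haC hbC h1 h2
    have h3 : q p g (t * a * t⁻¹) = 0 := by
      rcases hpure a ha with h | h | h
      · exact absurd h h1
      · exact h
      · exact absurd (hD a ha h) haC
    have h4 : p (t * b * t⁻¹) = 0 := by
      rcases hpure b hb with h | h | h
      · exact h
      · exact absurd h h2
      · exact absurd (hD b hb h) hbC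
    have h5 : a * b ∈ C := by
      rcases hpure _ (A.mul_mem ha hb) with h | h | h
      · rw [hα a ha b hb, h4, add_zero] at h; exact absurd h h1
      · rw [hβ a ha b hb, h3, zero_add] at h; exact absurd h h2
      · exact hD _ (A.mul_mem ha hb) h
    have h6 := (w.dat.k_zero _ (A.mul_mem ha hb)).2 h5
    rw [w.dat.k_mul a ha b hb] at h6
    calc k a = k a + (k b + k b) := by rw [v2, add_zero]
      _ = (k a + k b) + k b := by abel
      _ = k b := by rw [h6, zero_add]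
  have h6 : ∀ u : V4, ∃ v, v ≠ 0 ∧ v ≠ u := by decide +kernel
  obtain ⟨v, hv0, hv1⟩ := h6 (k a1)
  obtain ⟨a3, ha3, hk3⟩ := w.dat.k_surj v
  have ha3C : a3 ∉ C := by
    intro h
    have := (w.dat.k_zero a3 ha3).2 h
    rw [hk3] at this
    exact hv0 this
  have h11 := prod a1 ha1 b1 hb1 ha1C hb1C hα1 hβ1
  by_cases h7 : p (t * a3 * t⁻¹) = 0
  · have h8 : q p g (t * a3 * t⁻¹) ≠ 0 := by
      intro h
      exact ha3C (hD a3 ha3 (by rw [h7, h]))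
    have := prod a1 ha1 a3 ha3 ha1C ha3C hα1 h8
    rw [hk3] at this
    exact hv1 this.symm
  · have := prod a3 ha3 b1 hb1 ha3C hb1C h7 hβ1
    rw [hk3, ← h11] at this
    exact hv1 this

end Sw

end

end Cfsg.Agent.H338.L5
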