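import Cfsg.Agent.H338.L5Eig

/-!
# The natural module of `SL(5,2)` (helper338)
-/

set_option autoImplicit false

namespace Cfsg.Agent.H338.L5

open Equiv

variable {M : Type*} [AddCommGroup M] {φ : X →* AddMonoid.End M} {f : M →+ ZMod 2}
  {D : Fin 4 → Prop}

/-- Simple reflections. -/
def s (i : Fin 4) : Perm (Fin 5) := Equiv.swap i.castSucc i.succ

theorem P_s (i : Fin 4) : P (s i) = n i := rfl

theorem Eig.word (E : Eig φ f D) (w : List (Fin 4)) (hw : ∀ i ∈ w, ¬ D i) (m : M) :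
    f (φ (P (w.map s).prod) m) = f m := by
  induction w with
  | nil => rw [List.map_nil, List.prod_nil, map_one, oneφ]
  | cons i w ih =>
    rw [List.map_cons, List.prod_cons, map_mul, mulφ, P_s, E.nn i (hw i (List.mem_cons_self ..)),
      ih (fun j hj => hw j (List.mem_cons_of_mem _ hj))]

def words0 : List (List (Fin 4)) :=
  (([[], [1], [2, 1], [3, 2, 1]] : List (List (Fin 4))).flatMap fun a =>
    ([[], [2], [3, 2]] : List (List (Fin 4))).flatMap fun b =>
      ([[], [3]] : List (List (Fin 4))).map fun c => a ++ b ++ c)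

theorem words0_spec : ∀ τ : Perm (Fin 5), τ 0 = 0 → ∃ w ∈ words0, (w.map s).prod = τ := by
  decide +kernel

theorem words0_ne : ∀ w ∈ words0, ∀ i ∈ w, i ≠ 0 := by decide

theorem Eig.perm0 (E : Eig φ f D) (h1 : ¬ D 1) (h2 : ¬ D 2) (h3 : ¬ D 3) (τ : Perm (Fin 5))
    (hτ : τ 0 = 0) (m : M) : f (φ (P τ) m) = f m := by
  obtain ⟨w, hw, rfl⟩ := words0_spec τ hτ
  apply E.word
  intro i hi
  have := words0_ne w hw i hi
  fin_cases i
  · exact absurd rfl this
  · exact h1
  · exact h2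
  · exact h3

theorem T_conj (τ : Perm (Fin 5)) {i j r s : Fin 5} (h : i ≠ j) (h' : r ≠ s) (hr : τ i = r)
    (hs : τ j = s) : T h' = P τ * T h * P τ⁻¹ := by
  subst hr; subst hs
  rw [P_conj_T, mul_assoc, ← map_mul, mul_inv_cancel, map_one, mul_one]

theorem exP_y0 : ∀ r : Fin 5, r ≠ 0 → ∃ τ : Perm (Fin 5), τ 0 = 0 ∧ τ 1 = r := by decide +kernel

theorem exP_y1 : ∀ r s : Fin 5, r ≠ 0 → s ≠ 0 → r ≠ s →
    ∃ τ : Perm (Fin 5), τ 0 = 0 ∧ τ 2 = r ∧ τ 1 = s := by decide +kernel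

theorem Eig.T0 (E : Eig φ f D) (h1 : ¬ D 1) (h2 : ¬ D 2) (h3 : ¬ D 3) {r s : Fin 5} (h : r ≠ s)
    (hr : r ≠ 0) (m : M) : f (φ (T h) m) = f m := by
  have hf := E.perm0 h1 h2 h3
  by_cases hs : s = 0
  · subst hs
    obtain ⟨τ, hτ0, hτ1⟩ := exP_y0 r hr
    have e : T h = P τ * y 0 * P τ⁻¹ := T_conj τ _ h hτ1 hτ0
    rw [e, mulφ, mulφ, hf τ hτ0, E.yy, hf τ⁻¹ (by rw [Perm.inv_eq_iff_eq]; exact hτ0.symm)]
  · obtain ⟨τ, hτ0, hτ2, hτ1⟩ := exP_y1 r s hr hs h
    have e : T h = P τ * y 1 * P τ⁻¹ := T_conj τ _ h hτ2 hτ1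
    rw [e, mulφ, mulφ, hf τ hτ0, E.yy, hf τ⁻¹ (by rw [Perm.inv_eq_iff_eq]; exact hτ0.symm)]

theorem Eig.T0' (E : Eig φ f D) (h0 : D 0) (h1 : ¬ D 1) (h2 : ¬ D 2) (h3 : ¬ D 3) {s : Fin 5}
    (h : 0 ≠ s) (m : M) : f (φ (T h) m) = f m + f (φ (P (swap 0 s)) m) := by
  have hf := E.perm0 h1 h2 h3
  obtain ⟨τ, hτ0, hτ1⟩ := exP_y0 s (Ne.symm h)
  have e : T h = P τ * x 0 * P τ⁻¹ := T_conj τ _ h hτ0 hτ1
  have hi : τ⁻¹ 0 = 0 := by rw [Perm.inv_eq_iff_eq]; exact hτ0.symm
  rw [e, mulφ, mulφ, hf τ hτ0, E.xx 0 h0, hf τ⁻¹ hi]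
  congr 1
  have e2 : n 0 * P τ⁻¹ = P τ⁻¹ * P (swap 0 s) := by
    rw [← P_s, ← map_mul, ← map_mul]
    congr 1
    have h5 : swap 0 s = τ * (Cfsg.Agent.H338.L5.s 0) * τ⁻¹ := by
      show swap 0 s = τ * swap 0 1 * τ⁻¹
      rw [mul_swap_eq_swap_mul, hτ0, hτ1, mul_assoc, mul_inv_cancel, mul_one]
    rw [h5]
    simp only [← mul_assoc, inv_mul_cancel, one_mul]
  rw [← mulφ, e2, mulφ, hf τ⁻¹ hi]

/-- The module is small for `D = {0}`. -/
theorem Eig.card_le [Finite M] (E : Eig φ f D)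
    (hirr : ∀ W : AddSubgroup M, (∀ g, ∀ m ∈ W, φ g m ∈ W) → W = ⊥ ∨ W = ⊤)
    (h0 : D 0) (h1 : ¬ D 1) (h2 : ¬ D 2) (h3 : ¬ D 3) : Nat.card M ≤ 2 ^ 5 := by
  have hf := E.perm0 h1 h2 h3
  let ψ : M →+ (Fin 5 → ZMod 2) :=
    { toFun := fun m a => f (φ (P (swap 0 a)) m)
      map_zero' := by funext a; simp
      map_add' := fun m m' => by funext a; simp }
  have hψ : ∀ m a, ψ m a = f (φ (P (swap 0 a)) m) := fun m a => rfl
  -- any permutation mapping `a` to `0`
  have key : ∀ (τ : Perm (Fin 5)) (a : Fin 5), τ a = 0 → ∀ m, f (φ (P τ) m) = ψ m a := by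
    intro τ a hτ m
    rw [hψ]
    have e : P τ = P (τ * swap 0 a) * P (swap 0 a) := by
      rw [← map_mul, mul_assoc, swap_mul_self, mul_one]
    rw [e, mulφ, hf]
    rw [Perm.mul_apply, swap_apply_left, hτ]
  have hT : ∀ (c d : Fin 5) (h : c ≠ d) (a : Fin 5) (m : M), ψ (φ (T h) m) a =
      ψ m a + if a = c then ψ m d else 0 := by
    intro c d h a m
    rw [hψ, ← mulφ, P_conj_T, mulφ]
    by_cases hac : a = c
    · subst hac
      have h6 : swap 0 a a = 0 := swap_apply_right _ _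
      rw [if_pos rfl]
      have h7 : (0 : Fin 5) ≠ swap 0 a d := fun h8 => h ((swap 0 a).injective (h6.trans h8))
      have h8 : T ((swap 0 a).injective.ne h) = T h7 := by
        congr 1
      rw [h8, E.T0' h0 h1 h2 h3, hψ]
      congr 1
      rw [← mulφ, ← map_mul]
      apply key
      rw [Perm.mul_apply, swap_apply_right]
    · rw [if_neg hac, add_zero, E.T0 h1 h2 h3, hψ]
      intro h6
      apply hac
      have h7 : swap 0 a c = swap 0 a a := by rw [h6, swap_apply_right]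
      exact ((swap 0 a).injective h7).symm
  have hinj : Function.Injective ψ := by
    rw [injective_iff_map_eq_zero']
    have hW : ∀ g, ∀ m ∈ ψ.ker, φ g m ∈ ψ.ker := by
      intro g
      have hg : g ∈ Subgroup.closure {g : X | ∃ (i j : Fin 5) (h : i ≠ j), g = T h} := by
        rw [closure_T]; trivial
      induction hg using Subgroup.closure_induction with
      | mem g hg =>
        obtain ⟨i, j, h, rfl⟩ := hg
        intro m hm
        rw [AddMonoidHom.mem_ker] at hm ⊢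
        funext a
        rw [hT, hm]
        simp
      | one => intro m hm; rw [oneφ]; exact hm
      | mul g h _ _ hg hh => intro m hm; rw [mulφ]; exact hg _ (hh _ hm)
      | inv g _ hg =>
        intro m hm
        -- finite order
        have h1 : ∀ k : ℕ, ∀ m ∈ ψ.ker, φ (g ^ k) m ∈ ψ.ker := by
          intro k
          induction k with
          | zero => intro m hm; rw [pow_zero, oneφ]; exact hm
          | succ k ih => intro m hm; rw [pow_succ, mulφ]; exact ih _ (hg _ hm)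
        have h2 : g⁻¹ = g ^ (orderOf g - 1) := by
          rw [inv_eq_iff_mul_eq_one, ← pow_succ', Nat.sub_add_cancel (orderOf_pos g),
            pow_orderOf_eq_one g]
        rw [h2]
        exact h1 _ m hm
    rcases hirr ψ.ker hW with h | h
    · intro m
      constructor
      · intro hm
        have : m ∈ ψ.ker := hm
        rw [h] at this
        exact this
      · rintro rfl; exact map_zero _
    · exfalso
      apply E.ne
      ext m
      have h5 : m ∈ ψ.ker := by rw [h]; trivial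
      have h6 := congrFun (AddMonoidHom.mem_ker.1 h5) 0
      rw [hψ, swap_self] at h6
      have h7 : P (Equiv.refl (Fin 5)) = 1 := map_one P
      rw [h7, oneφ] at h6
      exact h6
  have h5 := Nat.card_le_card_of_injective ψ hinj
  refine h5.trans ?_
  rw [Nat.card_fun]
  simp

end Cfsg.Agent.H338.L5
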