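import Cfsg.Agent.H338.EmbAut
import Cfsg.Agent.UGT.U2.Rec.Congr
import Cfsg.Agent.ClassicalGeometry.OrthDickson
import Cfsg.Agent.LieClassical.OrthCenter
import Cfsg.Agent.LieClassical.OmegaReindex
import Cfsg.Agent.S0817

/-!
# `O⁺₁₀(2)` (helper338)
-/

set_option autoImplicit false

namespace Cfsg.Agent.H338.L5Orth

open Cfsg Cfsg.Agent.LieClassical Cfsg.Agent.LieClassical.OmegaReindex QuadraticMap

theorem h20 : (2 : ZMod 2) = 0 := by decide

theorem center_bot : Subgroup.center (Omega (ZMod 2) (quadFormPlus 5 (ZMod 2))) = ⊥ := by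
  have h := OrthCenter.center_omega_eq_bot_char_two (Q := quadPlus 5 (ZMod 2)) h20
    quadPlus_nondegenerate (by decide) (quadPlus_isotropic (by norm_num))
  rw [coe_quadPlus] at h
  exact h

theorem index_two : (Omega (ZMod 2) (quadFormPlus 5 (ZMod 2))).index = 2 := by
  have h1 := ClassicalGeometry.OrthDickson.index_commutator_two (quadPlus 5 (ZMod 2)) h20
    quadPlus_nondegenerate (Or.inr (by decide))
  rw [coe_quadPlus] at h1
  exact h1

theorem cent_triv0 : ∀ Q : (Fin 5 ⊕ Fin 5 → ZMod 2) → ZMod 2, quadPlus 5 (ZMod 2) = Q →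
    ∀ d : isometryGroup (ZMod 2) Q, (∀ w ∈ Omega (ZMod 2) Q, d * w = w * d) → d = 1 := by
  rintro _ rfl d hd
  have h := OrthCenter.eq_one_or_neg_one_of_commute_omega (Q := quadPlus 5 (ZMod 2))
    quadPlus_nondegenerate (by decide) (quadPlus_isotropic (by norm_num)) d hd
  apply Subtype.ext
  apply Units.ext
  rcases h with h | h
  · exact h
  · refine h.trans ?_
    have h3 : (-1 : ZMod 2) = 1 := by decide
    have h4 : (-1 : Matrix (Fin 5 ⊕ Fin 5) (Fin 5 ⊕ Fin 5) (ZMod 2)) = 1 := by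
      rw [← one_smul (ZMod 2) (1 : Matrix (Fin 5 ⊕ Fin 5) (Fin 5 ⊕ Fin 5) (ZMod 2)), ← neg_smul, h3]
    exact h4

theorem cent_triv (d : isometryGroup (ZMod 2) (quadFormPlus 5 (ZMod 2)))
    (hd : ∀ w ∈ Omega (ZMod 2) (quadFormPlus 5 (ZMod 2)), d * w = w * d) : d = 1 :=
  cent_triv0 _ (coe_quadPlus 5 (ZMod 2)) d hd

theorem exists_iso {F : Type} [Field F] [Fintype F] (hF : Fintype.card F = 2) {K : Type*} [Group K]
    (e : K ≃* POmega F (quadFormPlus 5 F)) :
    Nonempty (K ≃* POmega (ZMod 2) (quadFormPlus 5 (ZMod 2))) ∧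
      Nonempty (K ≃* Omega (ZMod 2) (quadFormPlus 5 (ZMod 2))) := by
  have h1 : Fintype.card F = Fintype.card (ZMod 2) := by rw [hF, ZMod.card]
  obtain ⟨e1⟩ := Cfsg.Agent.UGT.U2.Rec.Congr.nonempty_POmega (FiniteField.ringEquivOfCardEq h1)
    (Q := quadFormPlus 5 F) (Q' := quadFormPlus 5 (ZMod 2)) (by
      intro v
      unfold quadFormPlus
      rw [map_sum]
      apply Finset.sum_congr rfl
      intro i _
      rw [map_mul]
      rfl)
  exact ⟨⟨e.trans e1⟩, ⟨(e.trans e1).trans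
    ((QuotientGroup.quotientMulEquivOfEq center_bot).trans QuotientGroup.quotientBot)⟩⟩

theorem card_aut : Nat.card (MulAut (Omega (ZMod 2) (quadFormPlus 5 (ZMod 2)))) =
    2 * Nat.card (Omega (ZMod 2) (quadFormPlus 5 (ZMod 2))) := by
  have : Fact (Nat.Prime 2) := ⟨Nat.prime_two⟩
  have h := Cfsg.Agent.S0817.result (F := ZMod 2) 2 1 le_rfl (by rw [ZMod.card]; norm_num) 5
    (by norm_num)
  rw [if_neg (by norm_num), if_pos rfl, one_mul, mul_one] at h
  have e : POmega (ZMod 2) (quadFormPlus 5 (ZMod 2)) ≃* Omega (ZMod 2) (quadFormPlus 5 (ZMod 2)) :=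
    (QuotientGroup.quotientMulEquivOfEq center_bot).trans QuotientGroup.quotientBot
  rw [Nat.card_congr (MulAut.congr e).toEquiv, Nat.card_congr e.toEquiv] at h
  exact h

/-- A group with a normal subgroup `Ω⁺₁₀(2)` with trivial centraliser. -/
theorem iso_of {G : Type*} [Group G] [Finite G] (K : Subgroup G) [K.Normal]
    (hC : ∀ g : G, (∀ k ∈ K, g * k = k * g) → g = 1) {F : Type} [Field F] [Fintype F]
    (hF : Fintype.card F = 2) (e : K ≃* POmega F (quadFormPlus 5 F)) :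
    Nonempty (G ≃* Omega (ZMod 2) (quadFormPlus 5 (ZMod 2))) ∨
      Nonempty (G ≃* isometryGroup (ZMod 2) (quadFormPlus 5 (ZMod 2))) := by
  obtain ⟨-, ⟨e1⟩⟩ := exists_iso hF e
  exact EmbAut.iso_of_card K hC _ index_two cent_triv e1 card_aut

end Cfsg.Agent.H338.L5Orth
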