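import Cfsg.Agent.SylowL.SylowPSL

/-!
# Block elementary abelian normal subgroups of Sylow 2-subgroups of `PSL(m, 2^k)` (helper338)
-/

set_option autoImplicit false

namespace Cfsg.Agent.H338.PslBlk

open Matrix Cfsg.Agent.SylowL.UT Cfsg.Agent.SylowL.Lev

variable {m : ℕ} {F : Type*} [Field F]

/-- Matrices with nonzero entries only in rows `< k` and columns `≥ k`. -/
def blk (m : ℕ) (F : Type*) [Field F] (k : ℕ) : Submodule F (Matrix (Fin m) (Fin m) F) where
  carrier := {a | ∀ i j : Fin m, a i j ≠ 0 → (i : ℕ) < k ∧ k ≤ (j : ℕ)}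
  add_mem' {a b} ha hb := by
    intro i j h
    by_cases h1 : a i j = 0
    · exact hb i j (by
        intro h2
        exact h (by rw [Matrix.add_apply, h1, h2, add_zero]))
    · exact ha i j h1
  zero_mem' := by
    intro i j h
    exact absurd rfl h
  smul_mem' c a ha := by
    intro i j h
    refine ha i j fun h1 => h ?_
    rw [Matrix.smul_apply, h1, smul_zero]

theorem isIdeal_blk (k : ℕ) : IsIdeal (blk m F k) := by
  refine ⟨?_, ?_, ?_⟩
  · intro a ha i j h
    have := ha i j h
    omega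
  · intro a ha b hb i j h
    rw [Matrix.mul_apply] at h
    obtain ⟨t, -, ht⟩ := Finset.exists_ne_zero_of_sum_ne_zero h
    have h1 := ha i t (left_ne_zero_of_mul ht)
    have h2 := hb t j (right_ne_zero_of_mul ht)
    omega
  · intro a ha b hb i j h
    rw [Matrix.mul_apply] at h
    obtain ⟨t, -, ht⟩ := Finset.exists_ne_zero_of_sum_ne_zero h
    have h1 := hb i t (left_ne_zero_of_mul ht)
    have h2 := ha t j (right_ne_zero_of_mul ht)
    omega

theorem blk_mul {k : ℕ} {a b : Matrix (Fin m) (Fin m) F} (ha : a ∈ blk m F k)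
    (hb : b ∈ blk m F k) : a * b = 0 := by
  ext i j
  rw [Matrix.mul_apply]
  apply Finset.sum_eq_zero
  intro t _
  by_contra h
  have h1 := ha i t (left_ne_zero_of_mul h)
  have h2 := hb t j (right_ne_zero_of_mul h)
  omega

theorem sq_eq_one [CharP F 2] {k : ℕ} {g : UT m F} (hg : g ∈ ofAlg _ (isIdeal_blk k).isAlg) :
    g * g = 1 := by
  rw [← N_eq_zero_iff, N_mul, blk_mul hg hg, add_zero]
  ext i j
  exact CharTwo.add_self_eq_zero _

/-- The block matrix of a function. -/
def bl (m : ℕ) {F : Type*} [Field F] (k : ℕ) (f : Fin m → Fin m → F) :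
    Matrix (Fin m) (Fin m) F :=
  fun i j => if (i : ℕ) < k ∧ k ≤ (j : ℕ) then f i j else 0

theorem bl_mem (k : ℕ) (f : Fin m → Fin m → F) : bl m k f ∈ blk m F k := by
  intro i j h
  by_contra h1
  apply h
  unfold bl
  rw [if_neg h1]

theorem card_le [Fintype F] (k l : ℕ) :
    Fintype.card F ^ (k * l) ≤ Nat.card (ofAlg _ (isIdeal_blk (m := k + l) (F := F) k).isAlg) := by
  have h1 : Nat.card (Fin k → Fin l → F) = Fintype.card F ^ (k * l) := by
    rw [Nat.card_eq_fintype_card, Fintype.card_fun, Fintype.card_fun, Fintype.card_fin,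
      Fintype.card_fin, ← pow_mul, mul_comm]
  rw [← h1]
  let u : (Fin k → Fin l → F) → Matrix (Fin (k + l)) (Fin (k + l)) F := fun f i j =>
    if h : (i : ℕ) < k ∧ k ≤ (j : ℕ) then f ⟨i, h.1⟩ ⟨(j : ℕ) - k, by have := j.2; omega⟩ else 0
  have hu : ∀ f, u f ∈ blk (k + l) F k := by
    intro f i j h
    by_contra h1
    apply h
    show dite _ _ _ = _
    rw [dif_neg h1]
  apply Nat.card_le_card_of_injective (fun f =>
    (⟨mk (u f) ((isIdeal_blk k).le (hu f)), by
      rw [mem_ofAlg, N_mk]; exact hu f⟩ : ofAlg _ (isIdeal_blk (m := k + l) (F := F) k).isAlg))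
  intro f g h
  have h2 : u f = u g := by
    have := congrArg (fun z : ofAlg _ (isIdeal_blk (m := k + l) (F := F) k).isAlg =>
      N (z : UT (k + l) F)) h
    simpa only [N_mk] using this
  funext i j
  have h3 := congrFun (congrFun h2 (Fin.castAdd l i)) (Fin.natAdd k j)
  have e1 : ((Fin.castAdd l i : Fin (k + l)) : ℕ) < k ∧ k ≤ ((Fin.natAdd k j : Fin (k + l)) : ℕ) := by
    simp
  change dite _ _ _ = dite _ _ _ at h3
  rw [dif_pos e1, dif_pos e1] at h3
  have e2 : (⟨((Fin.natAdd k j : Fin (k + l)) : ℕ) - k, by simp⟩ : Fin l) = j := by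
    ext
    simp
  have e3 : (⟨((Fin.castAdd l i : Fin (k + l)) : ℕ), by simp⟩ : Fin k) = i := by
    ext
    simp
  rw [e3, e2] at h3
  exact h3

/-- In a group isomorphic to `PSL(k + l, F)`, `F` of characteristic 2, every Sylow 2-subgroup has a
normal elementary abelian subgroup of order at least `|F|^(k l)`. -/
theorem exists_sub {G : Type*} [Group G] [Finite G] [Fintype F] [CharP F 2] (k l : ℕ)
    (e : G ≃* Matrix.ProjectiveSpecialLinearGroup (Fin (k + l)) F) (T : Sylow 2 G) :
    ∃ E : Subgroup G, E ≤ T ∧ (∀ t ∈ T, ∀ x ∈ E, t * x * t⁻¹ ∈ E) ∧ (∀ x ∈ E, x * x = 1) ∧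
      Fintype.card F ^ (k * l) ≤ Nat.card E := by
  have : Fact (Nat.Prime 2) := ⟨Nat.prime_two⟩
  have hT : IsPGroup 2 ((T : Subgroup G).map e.toMonoidHom) := T.2.map _
  let P : Sylow 2 (Matrix.ProjectiveSpecialLinearGroup (Fin (k + l)) F) :=
    T.comapOfInjective e.symm.toMonoidHom e.symm.injective (by
      intro x _
      exact ⟨e x, e.symm_apply_apply x⟩)
  obtain ⟨φ⟩ := Cfsg.Agent.SylowL.SylowPSL.sylow_equiv (m := k + l) (F := F) 2 P
  have hP : ∀ x : G, x ∈ T ↔ e x ∈ P := by
    intro x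
    show _ ↔ e.symm (e x) ∈ (T : Subgroup G)
    rw [e.symm_apply_apply]
    rfl
  let θ : (T : Subgroup G) →* UT (k + l) F := φ.toMonoidHom.comp
    { toFun := fun t => ⟨e t, (hP t).1 t.2⟩
      map_one' := Subtype.ext (map_one e)
      map_mul' := fun a b => Subtype.ext (map_mul e _ _) }
  have hθi : Function.Injective θ := by
    intro a b h
    have h1 := φ.injective h
    exact Subtype.ext (e.injective (congrArg Subtype.val h1))
  have hθs : Function.Surjective θ := by
    intro x
    have h1 := (φ.symm x).2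
    refine ⟨⟨e.symm (φ.symm x), (hP _).2 (by rw [e.apply_symm_apply]; exact h1)⟩, ?_⟩
    refine (congrArg φ (Subtype.ext ?_)).trans (φ.apply_symm_apply x)
    exact e.apply_symm_apply _
  set B := ofAlg _ (isIdeal_blk (m := k + l) (F := F) k).isAlg with hB
  have hBn : B.Normal := (isIdeal_blk (m := k + l) (F := F) k).normal
  refine ⟨(B.comap θ).map (T : Subgroup G).subtype, ?_, ?_, ?_, ?_⟩
  · rintro _ ⟨x, -, rfl⟩
    exact x.2
  · rintro t ht _ ⟨x, hx, rfl⟩
    refine ⟨⟨t, ht⟩ * x * ⟨t, ht⟩⁻¹, ?_, rfl⟩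
    have := hBn.comap θ
    exact this.conj_mem x hx ⟨t, ht⟩
  · rintro _ ⟨x, hx, rfl⟩
    have h1 : x * x = 1 := by
      apply hθi
      rw [map_mul, map_one]
      exact sq_eq_one hx
    exact congrArg Subtype.val h1
  · refine (card_le k l).trans (le_of_eq ?_)
    rw [Subgroup.card_map_of_injective (Subgroup.subtype_injective _)]
    have h1 := Subgroup.index_comap_of_surjective B hθs
    have h2 := (B.comap θ).card_mul_index
    have h3 := B.card_mul_index
    have h4 : Nat.card (T : Subgroup G) = Nat.card (UT (k + l) F) :=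
      Nat.card_congr (Equiv.ofBijective θ ⟨hθi, hθs⟩)
    rw [h4, h1, ← h3] at h2
    exact (Nat.eq_of_mul_eq_mul_right (Nat.pos_of_ne_zero Subgroup.index_ne_zero_of_finite) h2).symm

end Cfsg.Agent.H338.PslBlk
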