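import Cfsg.Agent.H338.L5Syl
import Cfsg.Agent.H338.PslBlk

/-!
# `2^10 : L5(2)`: `PSL(m, 2^k)` (helper338)
-/

set_option autoImplicit false

namespace Cfsg.Agent.H338.L5

open Matrix Subgroup

variable {G : Type*} [Group G] {V : Subgroup G} {F : normalizer (V : Set G) →* X} {ψ : G → M5}

theorem Nat5.not22 [Finite G] (H : Nat5 V F ψ) : ¬ 2 ^ 22 ∣ Nat.card G := by
  rcases H.two_part with h | h
  · exact fun h2 => h ((pow_dvd_pow 2 (by norm_num)).trans h2)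
  · exact h.1

/-- No large normal elementary abelian subgroups in a Sylow 2-subgroup of `G`. -/
theorem Nat5.no_large [Finite G] (H : Nat5 V F ψ)
    (h : ∀ T : Sylow 2 G, ∃ E : Subgroup G, E ≤ T ∧ (∀ t ∈ T, ∀ x ∈ E, t * x * t⁻¹ ∈ E) ∧
      (∀ x ∈ E, x * x = 1) ∧ 2 ^ 12 ≤ Nat.card E) : False := by
  have : Fact (Nat.Prime 2) := ⟨Nat.prime_two⟩
  have hS2 : IsPGroup 2 (SS F) := IsPGroup.of_card H.card_SS
  obtain ⟨Q, hSQ⟩ := hS2.exists_le_sylow
  obtain ⟨E, hEQ, hEn, hE2, hEc⟩ := h Q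
  obtain ⟨m, hm⟩ := IsPGroup.iff_card.1 Q.2
  have hm21 : m ≤ 21 := by
    by_contra hcon
    apply H.not22
    refine (pow_dvd_pow 2 (show 22 ≤ m by omega)).trans ?_
    rw [← hm]
    exact Subgroup.card_subgroup_dvd_card _
  have h1 : (SS F).relIndex (Q : Subgroup G) ≤ 2 := by
    have h2 := ((SS F).subgroupOf (Q : Subgroup G)).card_mul_index
    rw [Nat.card_congr (Subgroup.subgroupOfEquivOfLe hSQ).toEquiv, H.card_SS, hm] at h2
    have h3 : 2 ^ m ≤ 2 ^ 21 := Nat.pow_le_pow_right (by norm_num) hm21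
    have h4 : 2 ^ 20 * ((SS F).subgroupOf (Q : Subgroup G)).index ≤ 2 ^ 20 * 2 := by
      rw [h2]; exact h3.trans (by norm_num)
    exact Nat.le_of_mul_le_mul_left h4 (by norm_num)
  have h2 : (SS F).relIndex E ≤ 2 :=
    (relIndex_le_of_le_right hEQ Subgroup.index_ne_zero_of_finite).trans h1
  have h3 := ((SS F ⊓ E).subgroupOf E).card_mul_index
  rw [Nat.card_congr (Subgroup.subgroupOfEquivOfLe (inf_le_right : SS F ⊓ E ≤ E)).toEquiv] at h3
  have h4 : ((SS F ⊓ E).subgroupOf E).index = (SS F).relIndex E := inf_relIndex_right _ _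
  rw [h4] at h3
  have h5 : 2 ^ 11 ≤ Nat.card (SS F ⊓ E : Subgroup G) := by
    have h6 : Nat.card E ≤ Nat.card (SS F ⊓ E : Subgroup G) * 2 := by
      rw [← h3]; exact Nat.mul_le_mul_left _ h2
    have h7 : (2 : ℕ) ^ 12 = 2 ^ 11 * 2 := by norm_num
    omega
  have h6 := H.dat.ff (E := SS F ⊓ E) inf_le_left (fun s hs x hx =>
    ⟨(SS F).mul_mem ((SS F).mul_mem hs hx.1) ((SS F).inv_mem hs), hEn s (hSQ hs) x hx.2⟩) (fun x hx => hE2 x hx.2)
  have h7 : (2 : ℕ) ^ 11 = 2048 := by norm_num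
  rcases h6 with h6 | h6 | h6
  · have h8 := Subgroup.card_le_of_le h6
    rw [H.card_V] at h8
    have h9 : (2 : ℕ) ^ 10 = 1024 := by norm_num
    omega
  · have h9 : (2 : ℕ) ^ 9 = 512 := by norm_num
    omega
  · have h9 : (2 : ℕ) ^ 10 = 1024 := by norm_num
    have := h6.2.1
    omega

theorem Nat5.no_psl [Finite G] (H : Nat5 V F ψ) {K : Type*} [Field K] [Fintype K] [CharP K 2]
    (k l : ℕ) (hkl : 2 ^ 12 ≤ Fintype.card K ^ (k * l))
    (e : G ≃* Matrix.ProjectiveSpecialLinearGroup (Fin (k + l)) K) : False := by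
  apply H.no_large
  intro T
  obtain ⟨E, h1, h2, h3, h4⟩ := PslBlk.exists_sub k l e T
  exact ⟨E, h1, h2, h3, hkl.trans h4⟩

end Cfsg.Agent.H338.L5
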