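import Cfsg.Agent.H338.L5Sw

/-!
# A rank computation (helper338)
-/

set_option autoImplicit false

namespace Cfsg.Agent.H338.L5

open Matrix

def Bas (i : Fin 6) : M4 :=
  ALm (if i = 0 then 1 else 0) (if i = 1 then 1 else 0) (if i = 2 then 1 else 0)
    (if i = 3 then 1 else 0) (if i = 4 then 1 else 0) (if i = 5 then 1 else 0)

def Chk (u : M4) (i j : Fin 6) : Prop :=
  u * Bas i * uᵀ ≠ Bas i ∧ u * Bas j * uᵀ ≠ Bas j ∧ u * Bas i * uᵀ + Bas i ≠ u * Bas j * uᵀ + Bas j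

instance instDecChk (u : M4) (i j : Fin 6) : Decidable (Chk u i j) := by
  unfold Chk; infer_instance

theorem rank_two : ∀ a b c d e f : ZMod 2,
    (a = 0 ∧ b = 0 ∧ c = 0 ∧ d = 0 ∧ e = 0 ∧ f = 0) ∨ ∃ i j : Fin 6,
      Chk (UTm a b c d e f) i j := by
  decide +kernel

end Cfsg.Agent.H338.L5
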