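import Cfsg.Agent.H338.L5FF2

/-!
# The swap (helper338)
-/

set_option autoImplicit false

namespace Cfsg.Agent.H338.L5

open Matrix

section

variable {K : Type*} [Group K] {A C J S : Subgroup K} {r : K → M4} {p k : K → V4} {c : K → M4}

theorem conj_mul' (g x y : K) : g * (x * y) * g⁻¹ = (g * x * g⁻¹) * (g * y * g⁻¹) := by group
theorem conj_conj' (g h x : K) : g * (h * x * h⁻¹) * g⁻¹ = (g * h) * x * (g * h)⁻¹ := by group
theorem conj_inv' (g x : K) : g * x⁻¹ * g⁻¹ = (g * x * g⁻¹)⁻¹ := by group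

theorem Dat.r_one' (d : Dat A C J S r p k c) : r 1 = 1 := (d.r_one 1 S.one_mem).2 J.one_mem

theorem Dat.r_inv_mul (d : Dat A C J S r p k c) {s : K} (hs : s ∈ S) : r s⁻¹ * r s = 1 := by
  rw [← d.r_mul _ (S.inv_mem hs) _ hs, inv_mul_cancel, d.r_one']

theorem Dat.r_mul_inv (d : Dat A C J S r p k c) {s : K} (hs : s ∈ S) : r s * r s⁻¹ = 1 := by
  rw [← d.r_mul _ hs _ (S.inv_mem hs), mul_inv_cancel, d.r_one']

theorem Dat.k_inv (d : Dat A C J S r p k c) {x : K} (hx : x ∈ A) : k x⁻¹ = k x := by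
  rw [inv_eq_of_mul_eq_one_left (d.A2 x hx)]

theorem Dat.c_inj (d : Dat A C J S r p k c) {x y : K} (hx : x ∈ C) (hy : y ∈ C)
    (h : c x = c y) : x = y := by
  have h12 : c (x * y) = 0 := by rw [d.c_mul _ hx _ hy, h, m2]
  have h13 := (d.c_zero _ (C.mul_mem hx hy)).1 h12
  have h14 := d.A2 _ (d.CA hy)
  exact mul_right_cancel (h13.trans h14.symm)

theorem Dat.c_inv (d : Dat A C J S r p k c) {x : K} (hx : x ∈ C) : c x⁻¹ = c x := by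
  rw [inv_eq_of_mul_eq_one_left (d.A2 x (d.CA hx))]

/-- `C` is central in `J`. -/
theorem Dat.C_central (d : Dat A C J S r p k c) {x z : K} (hx : x ∈ J) (hz : z ∈ C) :
    x * z = z * x := by
  obtain ⟨h1, h2⟩ := d.comm x hx z (d.CA hz)
  rw [(d.k_zero z (d.CA hz)).2 hz, om_zero_right] at h2
  have h3 := (d.c_zero _ h1).1 h2
  calc x * z = (x * z * x⁻¹ * z⁻¹) * (z * x) := by group
    _ = z * x := by rw [h3, one_mul]

/-- The matrix equation determined by its action. -/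
theorem eq_of_mulVec {M M' : M4} (h : ∀ v, M *ᵥ v = M' *ᵥ v) : M = M' :=
  Matrix.ext_of_mulVec_single fun _ => h _

/-- Swapping data. -/
structure Sw (A C J S : Subgroup K) (r : K → M4) (p k : K → V4) (c : K → M4) (T : Subgroup K)
    (g : K) : Prop where
  dat : Dat A C J S r p k c
  ST : S ≤ T
  gT : g ∈ T
  gS : g ∉ S
  cases : ∀ t ∈ T, t ∈ S ∨ g⁻¹ * t ∈ S
  nS : ∀ t ∈ T, ∀ s ∈ S, t * s * t⁻¹ ∈ S
  gg : g * g ∈ S
  gJ : ∀ a ∈ A, g * a * g⁻¹ ∈ J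
  pg : ∀ a ∈ A, p (g * a * g⁻¹) = k a
  gC : ∀ x ∈ C, g * x * g⁻¹ ∈ C

namespace Sw

variable {T : Subgroup K} {g : K}

theorem ggA (w : Sw A C J S r p k c T g) {a : K} (ha : a ∈ A) : (g * g) * a * (g * g)⁻¹ ∈ A :=
  w.dat.nA _ w.gg a ha

theorem split (w : Sw A C J S r p k c T g) {x : K} (hx : x ∈ J) :
    ∃ a ∈ A, ∃ b ∈ A, x = a * (g * b * g⁻¹) ∧ k b = p x := by
  obtain ⟨b, hb, hbv⟩ := w.dat.k_surj (p x)
  have h1 := w.gJ b hb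
  refine ⟨x * (g * b * g⁻¹)⁻¹, ?_, b, hb, by group, hbv⟩
  rw [← w.dat.p_zero _ (J.mul_mem hx (J.inv_mem h1)), w.dat.p_mul _ hx _ (J.inv_mem h1),
    w.dat.p_inv h1, w.pg b hb, hbv, v2]

theorem ngJ (w : Sw A C J S r p k c T g) {x : K} (hx : x ∈ J) : g * x * g⁻¹ ∈ J := by
  obtain ⟨a, ha, b, hb, rfl, -⟩ := w.split hx
  rw [conj_mul', conj_conj']
  exact J.mul_mem (w.gJ a ha) (w.dat.AJ (w.ggA hb))

/-- The second coordinate. -/
def q (p : K → V4) (g : K) (x : K) : V4 := p (g * x * g⁻¹)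

theorem q_mul (w : Sw A C J S r p k c T g) {x y : K} (hx : x ∈ J) (hy : y ∈ J) :
    q p g (x * y) = q p g x + q p g y := by
  unfold q
  rw [conj_mul', w.dat.p_mul _ (w.ngJ hx) _ (w.ngJ hy)]

theorem q_A (w : Sw A C J S r p k c T g) {x : K} (hx : x ∈ A) : q p g x = k x := w.pg x hx

theorem q_E (w : Sw A C J S r p k c T g) {x : K} (hx : x ∈ A) : q p g (g * x * g⁻¹) = 0 := by
  unfold q
  rw [conj_conj', w.dat.p_zero _ (w.dat.AJ (w.ggA hx))]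
  exact w.ggA hx

theorem q_inv (w : Sw A C J S r p k c T g) {x : K} (hx : x ∈ J) : q p g x⁻¹ = q p g x := by
  unfold q
  rw [conj_inv', w.dat.p_inv (w.ngJ hx)]

theorem rg (w : Sw A C J S r p k c T g) {s : K} (hs : s ∈ S) : r (g * s * g⁻¹) = r s := by
  apply eq_of_mulVec
  intro v
  obtain ⟨a, ha, rfl⟩ := w.dat.k_surj v
  have h1 : g * (s * a * s⁻¹) * g⁻¹ = (g * s * g⁻¹) * (g * a * g⁻¹) * (g * s * g⁻¹)⁻¹ := by group
  have h2 := w.pg _ (w.dat.nA s hs a ha)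
  rw [h1, w.dat.p_conj _ (w.nS g w.gT s hs) _ (w.gJ a ha), w.pg a ha, w.dat.k_conj s hs a ha] at h2
  exact h2

theorem q_conj (w : Sw A C J S r p k c T g) {s x : K} (hs : s ∈ S) (hx : x ∈ J) :
    q p g (s * x * s⁻¹) = r s *ᵥ q p g x := by
  unfold q
  have h1 : g * (s * x * s⁻¹) * g⁻¹ = (g * s * g⁻¹) * (g * x * g⁻¹) * (g * s * g⁻¹)⁻¹ := by group
  rw [h1, w.dat.p_conj _ (w.nS g w.gT s hs) _ (w.ngJ hx), w.rg hs]

theorem comm_E (w : Sw A C J S r p k c T g) {a b : K} (ha : a ∈ A) (hb : b ∈ A)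
    (h : k a = k b) : (g * a * g⁻¹) * b = b * (g * a * g⁻¹) := by
  obtain ⟨h1, h2⟩ := w.dat.comm _ (w.gJ a ha) b hb
  rw [w.pg a ha, h, om_self] at h2
  have h3 := (w.dat.c_zero _ h1).1 h2
  calc (g * a * g⁻¹) * b = ((g * a * g⁻¹) * b * (g * a * g⁻¹)⁻¹ * b⁻¹) * (b * (g * a * g⁻¹)) := by
        group
    _ = _ := by rw [h3, one_mul]

theorem rgg (w : Sw A C J S r p k c T g) : r (g * g) = 1 := by
  apply eq_of_mulVec
  intro v
  rw [Matrix.one_mulVec]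
  obtain ⟨a, ha, rfl⟩ := w.dat.k_surj v
  have h1 := w.comm_E ha ha rfl
  have hb := w.ggA ha
  -- conjugate by `g`
  have h2 : ((g * g) * a * (g * g)⁻¹) * (g * a * g⁻¹) = (g * a * g⁻¹) * ((g * g) * a * (g * g)⁻¹) := by
    calc ((g * g) * a * (g * g)⁻¹) * (g * a * g⁻¹) = g * ((g * a * g⁻¹) * a) * g⁻¹ := by group
      _ = g * (a * (g * a * g⁻¹)) * g⁻¹ := by rw [h1]
      _ = _ := by group
  obtain ⟨h3, h4⟩ := w.dat.comm _ (w.gJ a ha) _ hb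
  have h5 : (g * a * g⁻¹) * ((g * g) * a * (g * g)⁻¹) * (g * a * g⁻¹)⁻¹ *
      ((g * g) * a * (g * g)⁻¹)⁻¹ = 1 := by
    rw [← h2]; group
  rw [h5, (w.dat.c_zero 1 C.one_mem).2 rfl, w.pg a ha, w.dat.k_conj _ w.gg a ha] at h4
  rcases om_zero _ _ h4.symm with h | h | h
  · rw [h, Matrix.mulVec_zero]
  · have h6 : k a = 0 := by
      calc k a = (r (g * g)⁻¹ * r (g * g)) *ᵥ k a := by rw [w.dat.r_inv_mul w.gg, Matrix.one_mulVec]
        _ = r (g * g)⁻¹ *ᵥ (r (g * g) *ᵥ k a) := by rw [Matrix.mulVec_mulVec]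
        _ = 0 := by rw [h, Matrix.mulVec_zero]
    rw [h6, Matrix.mulVec_zero]
  · exact h.symm

theorem ggJ (w : Sw A C J S r p k c T g) : g * g ∈ J := w.dat.J_le w.gg w.rgg

theorem q_g (w : Sw A C J S r p k c T g) {x : K} (hx : x ∈ J) :
    q p g (g * x * g⁻¹) = p x := by
  unfold q
  rw [conj_conj', w.dat.p_conj _ w.gg x hx, w.rgg, Matrix.one_mulVec]

/-- The commutator formula. -/
theorem commJ (w : Sw A C J S r p k c T g) {x y : K} (hx : x ∈ J) (hy : y ∈ J) :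
    x * y * x⁻¹ * y⁻¹ ∈ C ∧
      c (x * y * x⁻¹ * y⁻¹) = om (p x) (q p g y) + om (q p g x) (p y) := by
  obtain ⟨a, ha, b, hb, hxe, hxb⟩ := w.split hx
  obtain ⟨a', ha', b', hb', hye, hyb⟩ := w.split hy
  have hqx : q p g x = k a := by
    rw [hxe, w.q_mul (w.dat.AJ ha) (w.gJ b hb), w.q_A ha, w.q_E hb, add_zero]
  have hqy : q p g y = k a' := by
    rw [hye, w.q_mul (w.dat.AJ ha') (w.gJ b' hb'), w.q_A ha', w.q_E hb', add_zero]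
  obtain ⟨h1, h2⟩ := w.dat.comm x hx a' ha'
  obtain ⟨h3, h4⟩ := w.dat.comm _ (w.gJ b' hb') a ha
  rw [w.pg b' hb', hyb] at h4
  -- `[x, f] = [f, a]⁻¹`
  have hEE : (g * b * g⁻¹) * (g * b' * g⁻¹) = (g * b' * g⁻¹) * (g * b * g⁻¹) := by
    rw [← conj_mul', ← conj_mul', w.dat.A_comm hb hb']
  have h5 : x * (g * b' * g⁻¹) * x⁻¹ * (g * b' * g⁻¹)⁻¹ =
      ((g * b' * g⁻¹) * a * (g * b' * g⁻¹)⁻¹ * a⁻¹)⁻¹ := by
    rw [hxe]
    calc a * (g * b * g⁻¹) * (g * b' * g⁻¹) * (a * (g * b * g⁻¹))⁻¹ * (g * b' * g⁻¹)⁻¹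
        = a * ((g * b * g⁻¹) * (g * b' * g⁻¹)) * (g * b * g⁻¹)⁻¹ * a⁻¹ * (g * b' * g⁻¹)⁻¹ := by group
      _ = a * ((g * b' * g⁻¹) * (g * b * g⁻¹)) * (g * b * g⁻¹)⁻¹ * a⁻¹ * (g * b' * g⁻¹)⁻¹ := by
          rw [hEE]
      _ = _ := by group
  have h6 : x * y * x⁻¹ * y⁻¹ = (x * a' * x⁻¹ * a'⁻¹) *
      ((g * b' * g⁻¹) * a * (g * b' * g⁻¹)⁻¹ * a⁻¹)⁻¹ := by
    have h7 : a' * ((g * b' * g⁻¹) * a * (g * b' * g⁻¹)⁻¹ * a⁻¹)⁻¹ =
        ((g * b' * g⁻¹) * a * (g * b' * g⁻¹)⁻¹ * a⁻¹)⁻¹ * a' :=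
      w.dat.C_central (w.dat.AJ ha') (C.inv_mem h3)
    rw [← h5] at h7 ⊢
    calc x * y * x⁻¹ * y⁻¹ = x * (a' * (g * b' * g⁻¹)) * x⁻¹ * (a' * (g * b' * g⁻¹))⁻¹ := by
          rw [← hye]
      _ = (x * a' * x⁻¹) * ((x * (g * b' * g⁻¹) * x⁻¹ * (g * b' * g⁻¹)⁻¹) * a') * a'⁻¹ * a'⁻¹ := by
          group
      _ = (x * a' * x⁻¹) * (a' * (x * (g * b' * g⁻¹) * x⁻¹ * (g * b' * g⁻¹)⁻¹)) * a'⁻¹ * a'⁻¹ := by
          rw [h7]
      _ = (x * a' * x⁻¹ * a'⁻¹) * (a' * (a' * (x * (g * b' * g⁻¹) * x⁻¹ * (g * b' * g⁻¹)⁻¹)) * a'⁻¹) * a'⁻¹ := by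
          group
      _ = (x * a' * x⁻¹ * a'⁻¹) * (a' * ((x * (g * b' * g⁻¹) * x⁻¹ * (g * b' * g⁻¹)⁻¹) * a') * a'⁻¹) * a'⁻¹ := by
          rw [h7]
      _ = (x * a' * x⁻¹ * a'⁻¹) * (a' * (x * (g * b' * g⁻¹) * x⁻¹ * (g * b' * g⁻¹)⁻¹)) * a'⁻¹ := by
          group
      _ = (x * a' * x⁻¹ * a'⁻¹) * ((x * (g * b' * g⁻¹) * x⁻¹ * (g * b' * g⁻¹)⁻¹) * a') * a'⁻¹ := by
          rw [h7]
      _ = _ := by group
  rw [h6]
  refine ⟨C.mul_mem h1 (C.inv_mem h3), ?_⟩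
  rw [w.dat.c_mul _ h1 _ (C.inv_mem h3), w.dat.c_inv h3, h2, h4, hqx, hqy, om_comm (p y)]

theorem sq (w : Sw A C J S r p k c T g) {x : K} (hx : x ∈ J) (h2 : x * x = 1) :
    om (p x) (q p g x) = 0 := by
  obtain ⟨a, ha, b, hb, hxe, hxb⟩ := w.split hx
  have hqx : q p g x = k a := by
    rw [hxe, w.q_mul (w.dat.AJ ha) (w.gJ b hb), w.q_A ha, w.q_E hb, add_zero]
  obtain ⟨h3, h4⟩ := w.dat.comm _ (w.gJ b hb) a ha
  rw [w.pg b hb, hxb] at h4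
  have hbb : (g * b * g⁻¹) * (g * b * g⁻¹) = 1 := by
    rw [← conj_mul', w.dat.A2 b hb]; group
  have haa := w.dat.A2 a ha
  have h5 : (g * b * g⁻¹) * a * (g * b * g⁻¹)⁻¹ * a⁻¹ = 1 := by
    rw [inv_eq_of_mul_eq_one_left hbb, inv_eq_of_mul_eq_one_left haa]
    rw [hxe] at h2
    -- `a e a e = 1`
    calc (g * b * g⁻¹) * a * (g * b * g⁻¹) * a = a⁻¹ * (a * (g * b * g⁻¹) * (a * (g * b * g⁻¹))) * a := by
          group
      _ = 1 := by rw [h2]; group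
  rw [h5, (w.dat.c_zero 1 C.one_mem).2 rfl] at h4
  rw [hqx]
  exact h4.symm

theorem pure (w : Sw A C J S r p k c T g) {x : K} (hx : x ∈ J) (h2 : x * x = 1) :
    p x = 0 ∨ q p g x = 0 ∨ p x = q p g x := om_zero _ _ (w.sq hx h2)

/-- `g` centralises the commutators. -/
theorem g_comm (w : Sw A C J S r p k c T g) (u v : V4) :
    ∃ z ∈ C, c z = om u v ∧ g * z * g⁻¹ = z := by
  obtain ⟨a, ha, rfl⟩ := w.dat.k_surj v
  obtain ⟨b, hb, rfl⟩ := w.dat.k_surj u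
  obtain ⟨h1, h2⟩ := w.dat.comm _ (w.gJ b hb) a ha
  rw [w.pg b hb] at h2
  refine ⟨_, h1, h2, ?_⟩
  apply w.dat.c_inj (w.gC _ h1) h1
  have h3 : g * ((g * b * g⁻¹) * a * (g * b * g⁻¹)⁻¹ * a⁻¹) * g⁻¹ =
      ((g * a * g⁻¹) * ((g * g) * b * (g * g)⁻¹) * (g * a * g⁻¹)⁻¹ *
        ((g * g) * b * (g * g)⁻¹)⁻¹)⁻¹ := by simp [mul_assoc]
  obtain ⟨h4, h5⟩ := w.dat.comm _ (w.gJ a ha) _ (w.ggA hb)
  rw [h3, w.dat.c_inv h4, h5, h2, w.pg a ha, w.dat.k_conj _ w.gg b hb, w.rgg, Matrix.one_mulVec,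
    om_comm]

theorem gC_fix (w : Sw A C J S r p k c T g) {z : K} (hz : z ∈ C) : g * z * g⁻¹ = z := by
  have hdec : ∀ a b c d e f : ZMod 2, ALm a b c d e f =
      om ![1, 0, 0, 0] ![0, a, b, c] + om ![0, 1, 0, 0] ![0, 0, d, e] + om ![0, 0, 1, 0] ![0, 0, 0, f] := by
    decide +kernel
  obtain ⟨z1, h1, h1', h1''⟩ := w.g_comm ![1, 0, 0, 0] ![0, c z 0 1, c z 0 2, c z 0 3]
  obtain ⟨z2, h2, h2', h2''⟩ := w.g_comm ![0, 1, 0, 0] ![0, 0, c z 1 2, c z 1 3]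
  obtain ⟨z3, h3, h3', h3''⟩ := w.g_comm ![0, 0, 1, 0] ![0, 0, 0, c z 2 3]
  have h4 : z = z1 * z2 * z3 := by
    apply w.dat.c_inj hz (C.mul_mem (C.mul_mem h1 h2) h3)
    rw [w.dat.c_mul _ (C.mul_mem h1 h2) _ h3, w.dat.c_mul _ h1 _ h2, h1', h2', h3', ← hdec]
    exact w.dat.al hz
  rw [h4, conj_mul', conj_mul', h1'', h2'', h3'']

theorem pq_zero (w : Sw A C J S r p k c T g) {x : K} (hx : x ∈ J) (hp : p x = 0)
    (hq : q p g x = 0) : x ∈ C := by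
  have hA := (w.dat.p_zero x hx).1 hp
  rw [← w.dat.k_zero x hA, ← w.q_A hA, hq]

theorem C_p (w : Sw A C J S r p k c T g) {x : K} (hx : x ∈ C) : p x = 0 :=
  (w.dat.p_zero x (w.dat.AJ (w.dat.CA hx))).2 (w.dat.CA hx)

theorem C_q (w : Sw A C J S r p k c T g) {x : K} (hx : x ∈ C) : q p g x = 0 := by
  rw [w.q_A (w.dat.CA hx), w.dat.k_zero x (w.dat.CA hx)]; exact hx

/-- Action of elements outside `S`. -/
theorem p_out (w : Sw A C J S r p k c T g) {s x : K} (hs : s ∈ S) (hx : x ∈ J) :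
    p ((g * s) * x * (g * s)⁻¹) = r s *ᵥ q p g x := by
  rw [← conj_conj', ← w.q_conj hs hx]; rfl

theorem q_out (w : Sw A C J S r p k c T g) {s x : K} (hs : s ∈ S) (hx : x ∈ J) :
    q p g ((g * s) * x * (g * s)⁻¹) = r s *ᵥ p x := by
  rw [← conj_conj', w.q_g (w.dat.nJ hs hx), w.dat.p_conj s hs x hx]

theorem nJT (w : Sw A C J S r p k c T g) {t x : K} (ht : t ∈ T) (hx : x ∈ J) :
    t * x * t⁻¹ ∈ J := by
  rcases w.cases t ht with h | h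
  · exact w.dat.nJ h hx
  · have h1 : t = g * (g⁻¹ * t) := by group
    rw [h1, ← conj_conj']
    exact w.ngJ (w.dat.nJ h hx)

theorem nCT (w : Sw A C J S r p k c T g) {t x : K} (ht : t ∈ T) (hx : x ∈ C) :
    t * x * t⁻¹ ∈ C := by
  rcases w.cases t ht with h | h
  · exact w.dat.nC _ h _ hx
  · have h1 : t = g * (g⁻¹ * t) := by group
    rw [h1, ← conj_conj']
    exact w.gC _ (w.dat.nC _ h _ hx)

/-- The diagonal group. -/
def D (w : Sw A C J S r p k c T g) : Subgroup K where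
  carrier := {x | x ∈ J ∧ p x = q p g x}
  one_mem' := ⟨J.one_mem, by rw [w.C_p C.one_mem, w.C_q C.one_mem]⟩
  mul_mem' := fun {x y} hx hy => ⟨J.mul_mem hx.1 hy.1, by
    rw [w.dat.p_mul x hx.1 y hy.1, w.q_mul hx.1 hy.1, hx.2, hy.2]⟩
  inv_mem' := fun {x} hx => ⟨J.inv_mem hx.1, by rw [w.dat.p_inv hx.1, w.q_inv hx.1, hx.2]⟩

theorem mem_D (w : Sw A C J S r p k c T g) {x : K} : x ∈ w.D ↔ x ∈ J ∧ p x = q p g x := Iff.rfl

theorem D_comm (w : Sw A C J S r p k c T g) {x y : K} (hx : x ∈ w.D) (hy : y ∈ w.D) :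
    x * y = y * x := by
  obtain ⟨h1, h2⟩ := w.commJ hx.1 hy.1
  rw [← hx.2, ← hy.2, m2] at h2
  have h3 := (w.dat.c_zero _ h1).1 h2
  calc x * y = (x * y * x⁻¹ * y⁻¹) * (y * x) := by group
    _ = _ := by rw [h3, one_mul]

theorem D_surj (w : Sw A C J S r p k c T g) (v : V4) : ∃ x ∈ w.D, p x = v := by
  obtain ⟨a, ha, rfl⟩ := w.dat.k_surj v
  refine ⟨a * (g * a * g⁻¹), ⟨J.mul_mem (w.dat.AJ ha) (w.gJ a ha), ?_⟩, ?_⟩
  · rw [w.dat.p_mul _ (w.dat.AJ ha) _ (w.gJ a ha), w.q_mul (w.dat.AJ ha) (w.gJ a ha), w.q_A ha,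
      w.q_E ha, w.pg a ha, (w.dat.p_zero a (w.dat.AJ ha)).2 ha, add_zero, zero_add]
  · rw [w.dat.p_mul _ (w.dat.AJ ha) _ (w.gJ a ha), w.pg a ha, (w.dat.p_zero a (w.dat.AJ ha)).2 ha,
      zero_add]

/-- An element outside `S` centralising `D`. -/
theorem exists_g1 (w : Sw A C J S r p k c T g) : ∃ y ∈ J, ∀ x ∈ w.D,
    (y * g) * x * (y * g)⁻¹ = x := by
  obtain ⟨y, hy, hyp⟩ := w.dat.k_surj (p (g * g))
  refine ⟨y, w.dat.AJ hy, ?_⟩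
  intro x hx
  obtain ⟨a, ha, hav⟩ := w.dat.k_surj (p x)
  have hyJ := w.dat.AJ hy
  -- the element `a * a^g`
  have hd' : a * (g * a * g⁻¹) ∈ w.D := by
    refine ⟨J.mul_mem (w.dat.AJ ha) (w.gJ a ha), ?_⟩
    rw [w.dat.p_mul _ (w.dat.AJ ha) _ (w.gJ a ha), w.q_mul (w.dat.AJ ha) (w.gJ a ha), w.q_A ha,
      w.q_E ha, w.pg a ha, (w.dat.p_zero a (w.dat.AJ ha)).2 ha, add_zero, zero_add]
  have hpd' : p (a * (g * a * g⁻¹)) = p x := by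
    rw [w.dat.p_mul _ (w.dat.AJ ha) _ (w.gJ a ha), w.pg a ha, (w.dat.p_zero a (w.dat.AJ ha)).2 ha,
      zero_add, hav]
  set d' := a * (g * a * g⁻¹) with hd'e
  have hz : d'⁻¹ * x ∈ C := by
    apply w.pq_zero (J.mul_mem (J.inv_mem hd'.1) hx.1)
    · rw [w.dat.p_mul _ (J.inv_mem hd'.1) _ hx.1, w.dat.p_inv hd'.1, hpd', v2]
    · rw [w.q_mul (J.inv_mem hd'.1) hx.1, w.q_inv hd'.1, ← hd'.2, ← hx.2, hpd', v2]
  set z := d'⁻¹ * x with hze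
  have hxz : x = d' * z := by rw [hze]; group
  obtain ⟨h1, h2⟩ := w.dat.comm _ w.ggJ a ha
  -- conjugation by `g`
  have h3 : g * x * g⁻¹ = ((g * g) * a * (g * g)⁻¹ * a⁻¹) * x := by
    have h4 : g * d' * g⁻¹ = ((g * g) * a * (g * g)⁻¹ * a⁻¹) * d' := by
      rw [hd'e, conj_mul', conj_conj']
      have h5 := w.dat.C_central (w.gJ a ha) h1
      calc (g * a * g⁻¹) * ((g * g) * a * (g * g)⁻¹)
          = ((g * a * g⁻¹) * ((g * g) * a * (g * g)⁻¹ * a⁻¹)) * a := by group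
        _ = (((g * g) * a * (g * g)⁻¹ * a⁻¹) * (g * a * g⁻¹)) * a := by rw [h5]
        _ = ((g * g) * a * (g * g)⁻¹ * a⁻¹) * ((g * a * g⁻¹) * a) := by rw [mul_assoc]
        _ = _ := by rw [w.comm_E ha ha rfl]
    calc g * x * g⁻¹ = (g * d' * g⁻¹) * (g * z * g⁻¹) := by rw [hxz, conj_mul']
      _ = _ := by rw [h4, w.gC_fix hz, mul_assoc, ← hxz]
  obtain ⟨h6, h7⟩ := w.commJ hyJ hx.1
  rw [(w.dat.p_zero y hyJ).2 hy, om_zero_left, zero_add, w.q_A hy, hyp] at h7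
  rw [hav] at h2
  have h8 : ((g * g) * a * (g * g)⁻¹ * a⁻¹) * (y * x * y⁻¹ * x⁻¹) = 1 := by
    rw [← w.dat.c_zero _ (C.mul_mem h1 h6), w.dat.c_mul _ h1 _ h6, h2, h7, m2]
  have h9 := w.dat.C_central hyJ h1
  calc (y * g) * x * (y * g)⁻¹ = y * (g * x * g⁻¹) * y⁻¹ := by group
    _ = (y * ((g * g) * a * (g * g)⁻¹ * a⁻¹)) * x * y⁻¹ := by rw [h3]; group
    _ = (((g * g) * a * (g * g)⁻¹ * a⁻¹) * y) * x * y⁻¹ := by rw [h9]
    _ = (((g * g) * a * (g * g)⁻¹ * a⁻¹) * (y * x * y⁻¹ * x⁻¹)) * x := by group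
    _ = x := by rw [h8, one_mul]

/-- The centraliser of `D` in `T`. -/
def F (w : Sw A C J S r p k c T g) : Subgroup K := T ⊓ Subgroup.centralizer (w.D : Set K)

theorem mem_F (w : Sw A C J S r p k c T g) {x : K} :
    x ∈ w.F ↔ x ∈ T ∧ ∀ y ∈ w.D, x * y = y * x := by
  unfold F
  rw [Subgroup.mem_inf, Subgroup.mem_centralizer_iff]
  constructor
  · rintro ⟨h, h'⟩; exact ⟨h, fun y hy => (h' y hy).symm⟩
  · rintro ⟨h, h'⟩; exact ⟨h, fun y hy => (h' y hy).symm⟩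

theorem DS (w : Sw A C J S r p k c T g) {x : K} (hx : x ∈ w.D) : x ∈ S := w.dat.JS hx.1

theorem D_F (w : Sw A C J S r p k c T g) {x : K} (hx : x ∈ w.D) : x ∈ w.F :=
  w.mem_F.2 ⟨w.ST (w.DS hx), fun _ hy => w.D_comm hx hy⟩

/-- An element of `S` commuting with representatives lies in `D`. -/
theorem cent_D (w : Sw A C J S r p k c T g) {s : K} (hs : s ∈ S)
    (h : ∀ v, ∃ x ∈ w.D, p x = v ∧ s * x = x * s) : s ∈ w.D := by
  have hr : r s = 1 := by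
    apply eq_of_mulVec
    intro v
    obtain ⟨x, hx, rfl, hsx⟩ := h v
    rw [Matrix.one_mulVec, w.dat.p_fix hs hx.1 hsx]
  have hsJ := w.dat.J_le hs hr
  refine ⟨hsJ, ?_⟩
  have h5 : ∀ v, om (p s + q p g s) v = 0 := by
    intro v
    obtain ⟨x, hx, hxv, hsx⟩ := h v
    obtain ⟨h1, h2⟩ := w.commJ hsJ hx.1
    have h3 : s * x * s⁻¹ * x⁻¹ = 1 := by rw [hsx]; group
    rw [h3, (w.dat.c_zero 1 C.one_mem).2 rfl, ← hx.2, hxv, ← om_add] at h2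
    exact h2.symm
  have h6 : ∀ u : V4, (∀ v, om u v = 0) → u = 0 := by decide +kernel
  have h7 := h6 _ h5
  calc p s = p s + (q p g s + q p g s) := by rw [v2, add_zero]
    _ = (p s + q p g s) + q p g s := by abel
    _ = q p g s := by rw [h7, zero_add]

theorem F_S (w : Sw A C J S r p k c T g) {x : K} (hx : x ∈ w.F) (hxS : x ∈ S) : x ∈ w.D := by
  apply w.cent_D hxS
  intro v
  obtain ⟨y, hy, hyv⟩ := w.D_surj v
  exact ⟨y, hy, hyv, (w.mem_F.1 hx).2 y hy⟩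

/-- Products of two elements outside `S`. -/
theorem out_out (w : Sw A C J S r p k c T g) {x y : K} (hx : x ∈ T) (hy : y ∈ T) (hxS : x ∉ S)
    (hyS : y ∉ S) : x⁻¹ * y ∈ S := by
  have h1 := (w.cases x hx).resolve_left hxS
  have h2 := (w.cases y hy).resolve_left hyS
  have h3 : x⁻¹ * y = (g⁻¹ * x)⁻¹ * (g⁻¹ * y) := by group
  rw [h3]
  exact S.mul_mem (S.inv_mem h1) h2

theorem F_comm (w : Sw A C J S r p k c T g) {x y : K} (hx : x ∈ w.F) (hy : y ∈ w.F) :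
    x * y = y * x := by
  by_cases hxS : x ∈ S
  · exact ((w.mem_F.1 hy).2 x (w.F_S hx hxS)).symm
  · by_cases hyS : y ∈ S
    · exact (w.mem_F.1 hx).2 y (w.F_S hy hyS)
    · have h1 := w.out_out (w.mem_F.1 hx).1 (w.mem_F.1 hy).1 hxS hyS
      have h2 := w.F_S (w.F.mul_mem (w.F.inv_mem hx) hy) h1
      have h3 := (w.mem_F.1 hx).2 _ h2
      calc x * y = x * (x * (x⁻¹ * y)) := by group
        _ = x * ((x⁻¹ * y) * x) := by rw [h3]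
        _ = y * x := by group

end Sw

end

end Cfsg.Agent.H338.L5
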