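import Cfsg.Agent.H338.L5One

/-!
# The exterior square of the natural module of `SL(5,2)` (helper338)
-/

set_option autoImplicit false

namespace Cfsg.Agent.H338.L5

open Equiv Matrix

/-- Alternating matrices. -/
def Alt : AddSubgroup (Matrix (Fin 5) (Fin 5) (ZMod 2)) where
  carrier := {B | (∀ a b, B a b = B b a) ∧ ∀ a, B a a = 0}
  zero_mem' := ⟨fun _ _ => rfl, fun _ => rfl⟩
  add_mem' := fun h h' => ⟨fun a b => by rw [Matrix.add_apply, Matrix.add_apply, h.1, h'.1],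
    fun a => by rw [Matrix.add_apply, h.2, h'.2, add_zero]⟩
  neg_mem' := fun h => ⟨fun a b => by rw [Matrix.neg_apply, Matrix.neg_apply, h.1],
    fun a => by rw [Matrix.neg_apply, h.2, neg_zero]⟩

theorem mem_Alt {B : Matrix (Fin 5) (Fin 5) (ZMod 2)} :
    B ∈ Alt ↔ (∀ a b, B a b = B b a) ∧ ∀ a, B a a = 0 := Iff.rfl

theorem card_Alt_le : Nat.card Alt ≤ 2 ^ 10 := by
  let F : Alt → (Fin 10 → ZMod 2) := fun B =>
    ![B.1 0 1, B.1 0 2, B.1 0 3, B.1 0 4, B.1 1 2, B.1 1 3, B.1 1 4, B.1 2 3, B.1 2 4, B.1 3 4]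
  have hF : Function.Injective F := by
    rintro ⟨B, hB⟩ ⟨C, hC⟩ h
    have h0 : B 0 1 = C 0 1 := congrFun h 0
    have h1 : B 0 2 = C 0 2 := congrFun h 1
    have h2 : B 0 3 = C 0 3 := congrFun h 2
    have h3 : B 0 4 = C 0 4 := congrFun h 3
    have h4 : B 1 2 = C 1 2 := congrFun h 4
    have h5 : B 1 3 = C 1 3 := congrFun h 5
    have h6 : B 1 4 = C 1 4 := congrFun h 6
    have h7 : B 2 3 = C 2 3 := congrFun h 7
    have h8 : B 2 4 = C 2 4 := congrFun h 8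
    have h9 : B 3 4 = C 3 4 := congrFun h 9
    have key : ∀ a b : Fin 5, a < b → B a b = C a b := by
      intro a b hab
      fin_cases a <;> fin_cases b <;> first | exact absurd hab (by decide) | assumption
    apply Subtype.ext
    ext a b
    show B a b = C a b
    rcases lt_trichotomy a b with h | h | h
    · exact key a b h
    · subst h; rw [hB.2, hC.2]
    · rw [hB.1, hC.1]; exact key b a h
  have h5 := Nat.card_le_card_of_injective F hF
  refine h5.trans ?_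
  rw [Nat.card_fun]
  simp

variable {M : Type*} [AddCommGroup M] {φ : X →* AddMonoid.End M} {f : M →+ ZMod 2}
  {D : Fin 4 → Prop}

/-- `τ` preserves `{0, 1}`. -/
def Pres (τ : Perm (Fin 5)) : Prop := (τ 0 = 0 ∨ τ 0 = 1) ∧ (τ 1 = 0 ∨ τ 1 = 1)

instance (τ : Perm (Fin 5)) : Decidable (Pres τ) := by unfold Pres; infer_instance

def words1 : List (List (Fin 4)) :=
  (([[], [0]] : List (List (Fin 4))).flatMap fun a =>
    ([[], [2], [3, 2]] : List (List (Fin 4))).flatMap fun b =>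
      ([[], [3]] : List (List (Fin 4))).map fun c => a ++ b ++ c)

theorem words1_spec : ∀ τ : Perm (Fin 5), Pres τ → ∃ w ∈ words1, (w.map s).prod = τ := by
  decide +kernel

theorem words1_ne : ∀ w ∈ words1, ∀ i ∈ w, i ≠ 1 := by decide

theorem Eig.perm1 (E : Eig φ f D) (h0 : ¬ D 0) (h2 : ¬ D 2) (h3 : ¬ D 3) (τ : Perm (Fin 5))
    (hτ : Pres τ) (m : M) : f (φ (P τ) m) = f m := by
  obtain ⟨w, hw, rfl⟩ := words1_spec τ hτ
  apply E.word
  intro i hi
  have := words1_ne w hw i hi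
  fin_cases i
  · exact h0
  · exact absurd rfl this
  · exact h2
  · exact h3

theorem pres_inv : ∀ τ : Perm (Fin 5), Pres τ → Pres τ⁻¹ := by decide +kernel

theorem exA : ∀ r s : Fin 5, (r ≠ 0 ∧ r ≠ 1) → (s = 0 ∨ s = 1) →
    ∃ τ : Perm (Fin 5), Pres τ ∧ τ 2 = r ∧ τ 1 = s := by decide +kernel
theorem exB : ∀ r s : Fin 5, (r ≠ 0 ∧ r ≠ 1) → (s ≠ 0 ∧ s ≠ 1) → r ≠ s →
    ∃ τ : Perm (Fin 5), Pres τ ∧ τ 3 = r ∧ τ 2 = s := by decide +kernel
theorem exC : ∀ r s : Fin 5, (r = 0 ∨ r = 1) → (s = 0 ∨ s = 1) → r ≠ s →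
    ∃ τ : Perm (Fin 5), Pres τ ∧ τ 1 = r ∧ τ 0 = s := by decide +kernel
theorem exD : ∀ r s : Fin 5, (r = 0 ∨ r = 1) → (s ≠ 0 ∧ s ≠ 1) →
    ∃ τ : Perm (Fin 5), Pres τ ∧ τ 1 = r ∧ τ 2 = s := by decide +kernel

theorem Eig.T1 (E : Eig φ f D) (h0 : ¬ D 0) (h2 : ¬ D 2) (h3 : ¬ D 3) {r s : Fin 5} (h : r ≠ s)
    (hr : (r ≠ 0 ∧ r ≠ 1) ∨ (s = 0 ∨ s = 1)) (m : M) : f (φ (T h) m) = f m := by
  have hf := E.perm1 h0 h2 h3
  have tri : ∀ s : Fin 5, (s = 0 ∨ s = 1) ∨ (s ≠ 0 ∧ s ≠ 1) := by decide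
  rcases tri r with hr' | hr'
  · have hs : s = 0 ∨ s = 1 := by
      rcases hr with hr | hr
      · rcases hr' with h | h
        · exact absurd h hr.1
        · exact absurd h hr.2
      · exact hr
    obtain ⟨τ, hτ, hτ2, hτ1⟩ := exC r s hr' hs h
    have e : T h = P τ * y 0 * P τ⁻¹ := T_conj τ _ h hτ2 hτ1
    rw [e, mulφ, mulφ, hf τ hτ, E.yy, hf τ⁻¹ (pres_inv τ hτ)]
  · rcases tri s with hs | hs
    · obtain ⟨τ, hτ, hτ2, hτ1⟩ := exA r s hr' hs
      have e : T h = P τ * y 1 * P τ⁻¹ := T_conj τ _ h hτ2 hτ1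
      rw [e, mulφ, mulφ, hf τ hτ, E.yy, hf τ⁻¹ (pres_inv τ hτ)]
    · obtain ⟨τ, hτ, hτ2, hτ1⟩ := exB r s hr' hs h
      have e : T h = P τ * y 2 * P τ⁻¹ := T_conj τ _ h hτ2 hτ1
      rw [e, mulφ, mulφ, hf τ hτ, E.yy, hf τ⁻¹ (pres_inv τ hτ)]

theorem Eig.T1' (E : Eig φ f D) (h0 : ¬ D 0) (h1 : D 1) (h2 : ¬ D 2) (h3 : ¬ D 3) {r s : Fin 5}
    (h : r ≠ s) (hr : r = 0 ∨ r = 1) (hs : s ≠ 0 ∧ s ≠ 1) (m : M) :
    f (φ (T h) m) = f m + f (φ (P (swap r s)) m) := by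
  have hf := E.perm1 h0 h2 h3
  obtain ⟨τ, hτ, hτ1, hτ2⟩ := exD r s hr hs
  have e : T h = P τ * x 1 * P τ⁻¹ := T_conj τ _ h hτ1 hτ2
  have hi := pres_inv τ hτ
  rw [e, mulφ, mulφ, hf τ hτ, E.xx 1 h1, hf τ⁻¹ hi]
  congr 1
  have e2 : n 1 * P τ⁻¹ = P τ⁻¹ * P (swap r s) := by
    rw [← P_s, ← map_mul, ← map_mul]
    congr 1
    have h5 : swap r s = τ * (Cfsg.Agent.H338.L5.s 1) * τ⁻¹ := by
      show swap r s = τ * swap 1 2 * τ⁻¹
      rw [mul_swap_eq_swap_mul, hτ1, hτ2, mul_assoc, mul_inv_cancel, mul_one]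
    rw [h5]
    simp only [← mul_assoc, inv_mul_cancel, one_mul]
  rw [← mulφ, e2, mulφ, hf τ⁻¹ hi]

def gg (a b : Fin 5) : Perm (Fin 5) := swap 1 (swap 0 a b) * swap 0 a

theorem gg_spec : ∀ a b : Fin 5, a ≠ b → gg a b a = 0 ∧ gg a b b = 1 := by decide

theorem TB (B : Matrix (Fin 5) (Fin 5) (ZMod 2)) {c d : Fin 5} (h : c ≠ d) (a b : Fin 5) :
    ((T h : Matrix (Fin 5) (Fin 5) (ZMod 2)) * B) a b = B a b + if a = c then B d b else 0 := by
  rw [T_val, add_mul, one_mul, Matrix.add_apply]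
  congr 1
  split_ifs with h1
  · subst h1
    rw [Matrix.single_mul_apply_same, one_mul]
  · rw [Matrix.single_mul_apply_of_ne _ _ _ _ _ h1]

theorem BT (B : Matrix (Fin 5) (Fin 5) (ZMod 2)) {c d : Fin 5} (h : c ≠ d) (a b : Fin 5) :
    (B * (T h : Matrix (Fin 5) (Fin 5) (ZMod 2))ᵀ) a b = B a b + if b = c then B a d else 0 := by
  have h1 := TB Bᵀ h b a
  rw [← Matrix.transpose_apply ((T h : Matrix (Fin 5) (Fin 5) (ZMod 2)) * Bᵀ),
    Matrix.transpose_mul, Matrix.transpose_transpose] at h1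
  exact h1

/-- The conjugated matrix. -/
theorem TBT (B : Matrix (Fin 5) (Fin 5) (ZMod 2)) {c d : Fin 5} (h : c ≠ d) (a b : Fin 5) :
    ((T h : Matrix (Fin 5) (Fin 5) (ZMod 2)) * B * (T h : Matrix (Fin 5) (Fin 5) (ZMod 2))ᵀ) a b =
      (B a b + if a = c then B d b else 0) +
        if b = c then (B a d + if a = c then B d d else 0) else 0 := by
  rw [BT, TB]
  congr 1
  by_cases h1 : b = c
  · rw [if_pos h1, if_pos h1, TB]
  · rw [if_neg h1, if_neg h1]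

/-- The matrix of a vector. -/
def Psi (φ : X →* AddMonoid.End M) (f : M →+ ZMod 2) :
    M →+ Matrix (Fin 5) (Fin 5) (ZMod 2) where
  toFun m := Matrix.of fun a b => if a = b then 0 else f (φ (P (gg a b)) m)
  map_zero' := by
    ext a b
    rw [Matrix.of_apply]
    simp
  map_add' m m' := by
    ext a b
    rw [Matrix.add_apply, Matrix.of_apply, Matrix.of_apply, Matrix.of_apply]
    split_ifs <;> simp

theorem Psi_same (m : M) (a : Fin 5) : Psi φ f m a a = 0 := by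
  show (if a = a then 0 else f (φ (P (gg a a)) m)) = 0
  rw [if_pos rfl]

theorem Psi_ne (m : M) {a b : Fin 5} (h : a ≠ b) : Psi φ f m a b = f (φ (P (gg a b)) m) := by
  show (if a = b then 0 else f (φ (P (gg a b)) m)) = _
  rw [if_neg h]

theorem Eig.key (E : Eig φ f D) (h0 : ¬ D 0) (h2 : ¬ D 2) (h3 : ¬ D 3) (τ : Perm (Fin 5))
    {a b : Fin 5} (h : a ≠ b) (ha : τ a = 0 ∨ τ a = 1) (hb : τ b = 0 ∨ τ b = 1) (m : M) :
    f (φ (P τ) m) = Psi φ f m a b := by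
  rw [Psi_ne m h]
  have e : P τ = P (τ * (gg a b)⁻¹) * P (gg a b) := by
    rw [← map_mul, inv_mul_cancel_right]
  rw [e, mulφ, E.perm1 h0 h2 h3]
  obtain ⟨g0, g1⟩ := gg_spec a b h
  have e0 : (gg a b)⁻¹ 0 = a := by rw [Perm.inv_eq_iff_eq]; exact g0.symm
  have e1 : (gg a b)⁻¹ 1 = b := by rw [Perm.inv_eq_iff_eq]; exact g1.symm
  refine ⟨?_, ?_⟩
  · rw [Perm.mul_apply, e0]; exact ha
  · rw [Perm.mul_apply, e1]; exact hb

theorem Eig.Psi_symm (E : Eig φ f D) (h0 : ¬ D 0) (h2 : ¬ D 2) (h3 : ¬ D 3) (m : M)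
    (a b : Fin 5) : Psi φ f m a b = Psi φ f m b a := by
  by_cases h : a = b
  · rw [h]
  · obtain ⟨g0, g1⟩ := gg_spec a b h
    rw [Psi_ne m h, E.key h0 h2 h3 _ (Ne.symm h) (Or.inr g1) (Or.inl g0)]

theorem Eig.Psi_T (E : Eig φ f D) (h0 : ¬ D 0) (h1 : D 1) (h2 : ¬ D 2) (h3 : ¬ D 3)
    {c d : Fin 5} (h : c ≠ d) (m : M) : Psi φ f (φ (T h) m) =
      (T h : Matrix (Fin 5) (Fin 5) (ZMod 2)) * Psi φ f m *
        (T h : Matrix (Fin 5) (Fin 5) (ZMod 2))ᵀ := by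
  ext a b
  rw [TBT, Psi_same m d]
  by_cases hab : a = b
  · subst hab
    rw [Psi_same, Psi_same]
    by_cases hac : a = c
    · subst hac
      rw [if_pos rfl, if_pos rfl, if_pos rfl, E.Psi_symm h0 h2 h3 m a d, zero_add, add_zero,
        CharTwo.add_self_eq_zero]
    · rw [if_neg hac, if_neg hac, add_zero, add_zero]
  · obtain ⟨g0, g1⟩ := gg_spec a b hab
    have hT := fun {r s : Fin 5} (h : r ≠ s) => E.T1 h0 h2 h3 h
    have hinj := (gg a b).injective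
    rw [Psi_ne _ hab, ← mulφ, P_conj_T, mulφ]
    by_cases hac : a = c
    · subst hac
      have hbc : ¬ b = a := Ne.symm hab
      rw [if_pos rfl, if_neg hbc, add_zero]
      by_cases hdb : d = b
      · subst hdb
        rw [hT _ (Or.inr (Or.inr g1)), Psi_same, add_zero, Psi_ne _ hab]
      · have hd : gg a b d ≠ 0 ∧ gg a b d ≠ 1 :=
          ⟨fun h5 => h (hinj (g0.trans h5.symm)), fun h5 => hdb (hinj (h5.trans g1.symm))⟩
        rw [E.T1' h0 h1 h2 h3 _ (Or.inl g0) hd, Psi_ne _ hab]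
        congr 1
        rw [← mulφ, ← map_mul]
        apply E.key h0 h2 h3 _ hdb
        · left
          rw [Perm.mul_apply, swap_apply_right, g0]
        · right
          rw [Perm.mul_apply, g1, swap_apply_of_ne_of_ne]
          · rw [g0]; decide
          · exact Ne.symm hd.2
    · rw [if_neg hac, add_zero]
      by_cases hbc : b = c
      · subst hbc
        rw [if_pos rfl, if_neg hab, add_zero]
        by_cases hda : d = a
        · subst hda
          rw [hT _ (Or.inr (Or.inl g0)), Psi_same, add_zero, Psi_ne _ hab]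
        · have hd : gg a b d ≠ 0 ∧ gg a b d ≠ 1 :=
            ⟨fun h5 => hda (hinj (h5.trans g0.symm)), fun h5 => h (hinj (g1.trans h5.symm))⟩
          rw [E.T1' h0 h1 h2 h3 _ (Or.inr g1) hd, Psi_ne _ hab]
          congr 1
          rw [← mulφ, ← map_mul]
          apply E.key h0 h2 h3 _ (Ne.symm hda)
          · left
            rw [Perm.mul_apply, g0, swap_apply_of_ne_of_ne]
            · rw [g1]; decide
            · exact Ne.symm hd.1
          · right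
            rw [Perm.mul_apply, swap_apply_right, g1]
      · rw [if_neg hbc, add_zero, Psi_ne _ hab]
        apply hT
        left
        exact ⟨fun h5 => hac (hinj (g0.trans h5.symm)), fun h5 => hbc (hinj (g1.trans h5.symm))⟩

theorem Eig.Psi_g (E : Eig φ f D) (h0 : ¬ D 0) (h1 : D 1) (h2 : ¬ D 2) (h3 : ¬ D 3)
    (g : X) (m : M) : Psi φ f (φ g m) =
      (g : Matrix (Fin 5) (Fin 5) (ZMod 2)) * Psi φ f m *
        (g : Matrix (Fin 5) (Fin 5) (ZMod 2))ᵀ := by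
  have hg : g ∈ Subgroup.closure {g : X | ∃ (i j : Fin 5) (h : i ≠ j), g = T h} := by
    rw [closure_T]; trivial
  induction hg using Subgroup.closure_induction generalizing m with
  | mem g hg =>
    obtain ⟨i, j, h, rfl⟩ := hg
    exact E.Psi_T h0 h1 h2 h3 h m
  | one =>
    rw [oneφ]
    show Psi φ f m = (1 : Matrix (Fin 5) (Fin 5) (ZMod 2)) * Psi φ f m *
      (1 : Matrix (Fin 5) (Fin 5) (ZMod 2))ᵀ
    rw [one_mul, Matrix.transpose_one, mul_one]
  | mul g h _ _ hg hh =>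
    rw [mulφ, hg, hh]
    show _ = ((g : Matrix (Fin 5) (Fin 5) (ZMod 2)) * (h : Matrix (Fin 5) (Fin 5) (ZMod 2))) *
      Psi φ f m * ((g : Matrix (Fin 5) (Fin 5) (ZMod 2)) *
        (h : Matrix (Fin 5) (Fin 5) (ZMod 2)))ᵀ
    rw [Matrix.transpose_mul]
    simp only [mul_assoc]
  | inv g _ hg =>
    have h4 := hg (φ g⁻¹ m)
    rw [← mulφ, mul_inv_cancel, oneφ] at h4
    rw [h4]
    have h5 : ((g⁻¹ : X) : Matrix (Fin 5) (Fin 5) (ZMod 2)) *
        (g : Matrix (Fin 5) (Fin 5) (ZMod 2)) = 1 :=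
      congrArg Subtype.val (inv_mul_cancel g)
    have h6 : (g : Matrix (Fin 5) (Fin 5) (ZMod 2))ᵀ *
        ((g⁻¹ : X) : Matrix (Fin 5) (Fin 5) (ZMod 2))ᵀ = 1 := by
      rw [← Matrix.transpose_mul, h5, Matrix.transpose_one]
    rw [← mul_assoc, ← mul_assoc, h5, one_mul, mul_assoc, h6, mul_one]

theorem Eig.exists_psi [Finite M] (hcard : Nat.card M = 2 ^ 10) (E : Eig φ f D)
    (hirr : ∀ W : AddSubgroup M, (∀ g, ∀ m ∈ W, φ g m ∈ W) → W = ⊥ ∨ W = ⊤)
    (h0 : ¬ D 0) (h1 : D 1) (h2 : ¬ D 2) (h3 : ¬ D 3) :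
    ∃ ψ : M ≃+ Alt, ∀ g m, (ψ (φ g m) : Matrix (Fin 5) (Fin 5) (ZMod 2)) =
      (g : Matrix (Fin 5) (Fin 5) (ZMod 2)) * ψ m * (g : Matrix (Fin 5) (Fin 5) (ZMod 2))ᵀ := by
  let ψ : M →+ Alt := (Psi φ f).codRestrict Alt fun m =>
    ⟨fun a b => E.Psi_symm h0 h2 h3 m a b, fun a => Psi_same m a⟩
  have hψ : ∀ m, (ψ m : Matrix (Fin 5) (Fin 5) (ZMod 2)) = Psi φ f m := fun m => rfl
  have hker : ψ.ker = ⊥ := by
    rcases hirr ψ.ker (by
      intro g m hm
      rw [AddMonoidHom.mem_ker] at hm ⊢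
      apply Subtype.ext
      rw [hψ, E.Psi_g h0 h1 h2 h3, ← hψ, hm]
      simp) with h | h
    · exact h
    · exfalso
      apply E.ne
      ext m
      have h5 : m ∈ ψ.ker := by rw [h]; trivial
      have h6 := congrArg Subtype.val (AddMonoidHom.mem_ker.1 h5)
      rw [hψ] at h6
      have h7 : Psi φ f m 0 1 = 0 := congrFun (congrFun h6 0) 1
      have h8 := E.key h0 h2 h3 1 (show (0 : Fin 5) ≠ 1 by decide) (Or.inl rfl) (Or.inr rfl) m
      rw [map_one, oneφ] at h8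
      show f m = 0
      rw [h8, h7]
  have hinj : Function.Injective ψ := (AddMonoidHom.ker_eq_bot_iff ψ).1 hker
  have : Finite Alt := Subtype.finite
  have hbij : Function.Bijective ψ := by
    rw [Nat.bijective_iff_injective_and_card]
    refine ⟨hinj, le_antisymm (Nat.card_le_card_of_injective ψ hinj) ?_⟩
    rw [hcard]
    exact card_Alt_le
  exact ⟨AddEquiv.ofBijective ψ hbij, fun g m => E.Psi_g h0 h1 h2 h3 g m⟩

end Cfsg.Agent.H338.L5
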