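import Cfsg.Agent.H338.L5Eigen

/-!
# Unitriangular subgroups of `SL(5,2)` and their fixed points (helper338)
-/

set_option autoImplicit false

namespace Cfsg.Agent.H338.L5

open Matrix

theorem mem_pow_inv {g : X} {H : Submonoid X} (hg : g ∈ H) : g⁻¹ ∈ H := by
  have h1 : g ^ (orderOf g) = 1 := pow_orderOf_eq_one g
  have h2 : 0 < orderOf g := orderOf_pos g
  have h3 : g⁻¹ = g ^ (orderOf g - 1) := by
    rw [inv_eq_iff_mul_eq_one, ← pow_succ', Nat.sub_add_cancel h2, h1]
  rw [h3]
  exact pow_mem hg _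

/-- Unitriangular matrices with respect to the height `k`. -/
def Um (k : Fin 5 → ℕ) : Submonoid X where
  carrier := {g | ∀ i j, ¬ k j < k i → (g : Matrix (Fin 5) (Fin 5) (ZMod 2)) i j = if i = j then 1 else 0}
  one_mem' := by
    intro i j _
    show (1 : Matrix (Fin 5) (Fin 5) (ZMod 2)) i j = _
    rw [Matrix.one_apply]
  mul_mem' := by
    intro g h hg hh i j hij
    show ((g : Matrix (Fin 5) (Fin 5) (ZMod 2)) * (h : Matrix (Fin 5) (Fin 5) (ZMod 2))) i j = _
    rw [Matrix.mul_apply, Finset.sum_eq_single i]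
    · rw [hg i i (lt_irrefl _), if_pos rfl, one_mul, hh i j hij]
    · intro l _ hl
      by_cases hli : k l < k i
      · have h1 : ¬ k j < k l := fun h => hij (h.trans hli)
        rw [hh l j h1, if_neg, mul_zero]
        rintro rfl
        exact hij hli
      · rw [hg i l hli, if_neg (Ne.symm hl), zero_mul]
    · intro h; exact absurd (Finset.mem_univ _) h

def U (k : Fin 5 → ℕ) : Subgroup X := { Um k with inv_mem' := fun h => mem_pow_inv (H := Um k) h }

theorem mem_U {k : Fin 5 → ℕ} {g : X} : g ∈ U k ↔ ∀ i j, ¬ k j < k i →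
    (g : Matrix (Fin 5) (Fin 5) (ZMod 2)) i j = if i = j then 1 else 0 := Iff.rfl

theorem isPGroup_U (k : Fin 5 → ℕ) (hk : ∀ i, k i ≤ 4) : IsPGroup 2 (U k) := by
  rintro ⟨g, hg⟩
  refine ⟨3, Subtype.ext (Subtype.ext ?_)⟩
  show (g : Matrix (Fin 5) (Fin 5) (ZMod 2)) ^ (2 ^ 3) = 1
  let N : Matrix (Fin 5) (Fin 5) (ZMod 2) := (g : Matrix (Fin 5) (Fin 5) (ZMod 2)) - 1
  have hN : ∀ m : ℕ, ∀ i j, k i < k j + m → (N ^ m) i j = 0 := by
    intro m
    induction m with
    | zero =>
      intro i j h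
      rw [pow_zero, Matrix.one_apply, if_neg]
      rintro rfl
      omega
    | succ m ih =>
      intro i j h
      rw [pow_succ', Matrix.mul_apply]
      apply Finset.sum_eq_zero
      intro l _
      by_cases hl : k l < k i
      · rw [ih l j (by omega), mul_zero]
      · have h3 : N i l = 0 := by
          show (g : Matrix (Fin 5) (Fin 5) (ZMod 2)) i l - (1 : Matrix (Fin 5) (Fin 5) (ZMod 2)) i l = 0
          rw [hg i l hl, Matrix.one_apply, sub_self]
        rw [h3, zero_mul]
  have hN8 : N ^ (2 ^ 3) = 0 := by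
    ext i j
    rw [Matrix.zero_apply]
    exact hN _ i j (by have := hk i; omega)
  have h1 : (g : Matrix (Fin 5) (Fin 5) (ZMod 2)) = 1 + N := by
    show _ = 1 + ((g : Matrix (Fin 5) (Fin 5) (ZMod 2)) - 1)
    abel
  rw [h1, add_pow_char_pow_of_commute (p := 2) (n := 3) (Commute.one_left N), one_pow, hN8, add_zero]

theorem T_mem_U {k : Fin 5 → ℕ} {i j : Fin 5} (h : i ≠ j) (hij : k j < k i) : T h ∈ U k := by
  rw [mem_U]
  intro a b hab
  rw [T_val, Matrix.add_apply, Matrix.one_apply, Matrix.single_apply, if_neg (c := i = a ∧ j = b),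
    add_zero]
  rintro ⟨rfl, rfl⟩
  exact hab hij

def up : Fin 5 → ℕ := fun i => 4 - i
def lo : Fin 5 → ℕ := fun i => i

theorem x_mem (i : Fin 4) : x i ∈ U up := T_mem_U _ (by revert i; decide)
theorem y_mem (i : Fin 4) : y i ∈ U lo := T_mem_U _ (by revert i; decide)

variable {M : Type*} [AddCommGroup M]

/-- Fixed vectors of 2-groups. -/
theorem exists_fixed [Finite M] [Nontrivial M] (h2 : ∀ m : M, m + m = 0)
    (φ : X →* AddMonoid.End M) (H : Subgroup X) (hH : IsPGroup 2 H) :
    ∃ v : M, v ≠ 0 ∧ ∀ g ∈ H, φ g v = v := by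
  have : Fact (Nat.Prime 2) := ⟨Nat.prime_two⟩
  let act : MulAction H M :=
    { smul := fun g m => φ (g : X) m
      one_smul := fun m => by
        show φ ((1 : H) : X) m = m
        rw [Subgroup.coe_one, map_one]; rfl
      mul_smul := fun g h m => by
        show φ ((g * h : H) : X) m = φ (g : X) (φ (h : X) m)
        rw [Subgroup.coe_mul, map_mul]; rfl }
  have hcard : 2 ∣ Nat.card M := by
    obtain ⟨m, hm⟩ := exists_ne (0 : M)
    have h1 : addOrderOf m = 2 := by
      apply addOrderOf_eq_prime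
      · rw [two_nsmul]; exact h2 m
      · exact hm
    rw [← h1]
    exact addOrderOf_dvd_natCard m
  have h0 : (0 : M) ∈ MulAction.fixedPoints H M := fun g => by
    show φ (g : X) 0 = 0
    exact map_zero _
  obtain ⟨b, hb, hne⟩ := hH.exists_fixed_point_of_prime_dvd_card_of_fixed_point (α := M) hcard h0
  exact ⟨b, fun h => hne h.symm, fun g hg => hb ⟨g, hg⟩⟩

end Cfsg.Agent.H338.L5
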