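import Cfsg.Agent.H338.M24Orb
import Cfsg.Agent.Schreier.CocodeSys

/-!
# Modules of order `2^11` for `M24`: the even cocode (helper338)

If the vector fixed by an element of order 11 has a stabiliser of index 276, the module is the even
cocode (`exists_pres`), hence has no quadratic offender (`small276`).
-/

set_option autoImplicit false
open scoped Pointwise
open Cfsg MulAction

namespace Cfsg.Agent.H338.M24Orb

open Cfsg.Agent.SporadicStructure.M24IndexAbs Cfsg.Agent.SporadicStructure.M24IndexMain
open Cfsg.Agent.SporadicStructure.M23Index253 (exists_map card_golayPt)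
open Cfsg.Agent.J4Type.DuadStab

variable {A : Type*} [CommGroup A] [Finite A] [MulDistribMulAction M24 A]

/-- Irreducibility. -/
theorem Mod24.irr (M : Mod24 A) (W : Subgroup A) (hW : ∀ g : M24, ∀ a ∈ W, g • a ∈ W) :
    W = ⊥ ∨ W = ⊤ := by
  classical
  have : Fact (Nat.Prime 23) := ⟨by norm_num⟩
  have : Fintype A := Fintype.ofFinite A
  obtain ⟨g, hg1, hg⟩ := exists_order23
  let s : Finset A := Finset.univ.filter fun a => a ∈ W
  have hs : s.card = Nat.card W := by
    rw [Nat.card_eq_fintype_card, Fintype.card_subtype]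
  have h1 := card_filter_modEq hg s (fun a ha =>
    Finset.mem_filter.2 ⟨Finset.mem_univ _, hW g a (Finset.mem_filter.1 ha).2⟩)
  have h2 : s.filter (fun a => g • a = a) = {1} := by
    ext a
    rw [Finset.mem_filter, Finset.mem_singleton]
    constructor
    · rintro ⟨-, h⟩
      exact M.fix23 hg1 hg h
    · rintro rfl
      exact ⟨Finset.mem_filter.2 ⟨Finset.mem_univ _, one_mem _⟩, smul_one g⟩
  rw [h2, Finset.card_singleton, hs] at h1
  have h3 : Nat.card W ∣ 2 ^ 11 := by
    rw [← M.card]; exact Subgroup.card_subgroup_dvd_card _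
  obtain ⟨k, hk, hk'⟩ := (Nat.dvd_prime_pow Nat.prime_two).1 h3
  rw [hk'] at h1
  have h4 : k = 0 ∨ k = 11 := by
    unfold Nat.ModEq at h1
    interval_cases k <;> simp_all
  rcases h4 with h4 | h4
  · left
    apply Subgroup.eq_bot_of_card_eq
    rw [hk', h4, pow_zero]
  · right
    apply Subgroup.eq_top_of_card_eq
    rw [hk', h4, M.card]

omit [Finite A] in
theorem Mod24.smul_ne_one {u : A} (hu : u ≠ 1) (g : M24) : g • u ≠ 1 := by
  intro h
  apply hu
  have := congrArg (fun a => g⁻¹ • a) h
  simpa using this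

/-- Orbits other than that of `v` have length divisible by 253. -/
theorem Mod24.orbit253 (M : Mod24 A) {v : A} (hv : v ≠ 1) (h : x11 • v = v) {u : A} (hu : u ≠ 1)
    (hu' : u ∉ orbit M24 v) : 253 ∣ (stabilizer M24 u).index := by
  classical
  have : Fact (Nat.Prime 11) := ⟨by norm_num⟩
  have : Fact (Nat.Prime 23) := ⟨by norm_num⟩
  have : Fintype A := Fintype.ofFinite A
  obtain ⟨w, hw, hww, huniq⟩ := M.fix11 x11_ne x11_pow
  have hvw : v = w := (huniq v h).resolve_left hv
  subst hvw
  let O : Finset A := Finset.univ.filter fun a => a ∈ orbit M24 u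
  have hmO : ∀ a, a ∈ O ↔ a ∈ orbit M24 u := fun a => by simp [O]
  have hO : O.card = (stabilizer M24 u).index := by
    rw [index_stabilizer, ← Set.ncard_coe_finset]
    congr 1
    ext a
    simp [O]
  have hOi : ∀ g : M24, ∀ a ∈ O, g • a ∈ O := by
    intro g a ha
    rw [hmO] at ha ⊢
    obtain ⟨k, hk⟩ := ha
    exact ⟨g * k, by
      show (g * k) • u = g • a
      have hk' : k • u = a := hk
      rw [mul_smul, hk']⟩
  have hO1 : ∀ a ∈ O, a ≠ 1 := by
    intro a ha
    obtain ⟨k, hk⟩ := (hmO a).1 ha
    have hk' : k • u = a := hk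
    rw [← hk']
    exact Mod24.smul_ne_one hu k
  have h11 : 11 ∣ O.card := by
    have h2 := card_filter_modEq x11_pow O (hOi x11)
    have h3 : O.filter (fun a => x11 • a = a) = ∅ := by
      rw [Finset.filter_eq_empty_iff]
      intro a ha hxa
      rcases huniq a hxa with h4 | h4
      · exact hO1 a ha h4
      · rw [h4] at ha
        apply hu'
        obtain ⟨k, hk⟩ := (hmO v).1 ha
        have hk' : k • u = v := hk
        refine ⟨k⁻¹, ?_⟩
        show k⁻¹ • v = u
        rw [← hk', inv_smul_smul]
    rw [h3, Finset.card_empty] at h2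
    exact (Nat.modEq_zero_iff_dvd).1 h2
  have h23 : 23 ∣ O.card := by
    obtain ⟨g, hg1, hg⟩ := exists_order23
    have h2 := card_filter_modEq hg O (hOi g)
    have h3 : O.filter (fun a => g • a = a) = ∅ := by
      rw [Finset.filter_eq_empty_iff]
      intro a ha hxa
      exact hO1 a ha (M.fix23 hg1 hg hxa)
    rw [h3, Finset.card_empty] at h2
    exact (Nat.modEq_zero_iff_dvd).1 h2
  rw [← hO]
  exact Nat.Coprime.mul_dvd_of_dvd_of_dvd (by norm_num : Nat.Coprime 11 23) h11 h23

/-- The lengths of two different orbits. -/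
theorem Mod24.index_add_le (M : Mod24 A) {u v : A} (hu : u ≠ 1) (hv : v ≠ 1)
    (huv : u ∉ orbit M24 v) : (stabilizer M24 u).index + (stabilizer M24 v).index ≤ 2047 := by
  classical
  rw [index_stabilizer, index_stabilizer]
  have h1 : Disjoint (orbit M24 u) (orbit M24 v) := by
    rw [Set.disjoint_left]
    intro a ha ha'
    apply huv
    rw [← orbit_eq_iff.2 ha', orbit_eq_iff.2 ha]
    exact mem_orbit_self u
  have h2 : insert 1 (orbit M24 u ∪ orbit M24 v) ⊆ (Set.univ : Set A) := Set.subset_univ _
  have h3 := Set.ncard_le_ncard h2 (Set.toFinite _)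
  rw [Set.ncard_insert_of_notMem, Set.ncard_union_eq h1 (Set.toFinite _) (Set.toFinite _),
    Set.ncard_univ, M.card] at h3
  · omega
  · rintro (h4 | h4)
    · obtain ⟨k, hk⟩ := h4
      exact Mod24.smul_ne_one hu k hk
    · obtain ⟨k, hk⟩ := h4
      exact Mod24.smul_ne_one hv k hk

/-- The data in case 276. -/
structure Duad (A : Type*) [CommGroup A] [Finite A] [MulDistribMulAction M24 A] (v : A)
    (D : Finset GolayPt → A) : Prop extends Mod24 A where
  hv : v ≠ 1
  fv : x11 • v = v
  idx : (stabilizer M24 v).index = 276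
  mem : ∀ s : Finset GolayPt, s.card = 2 → D s ∈ orbit M24 v
  eqv : ∀ (g : M24) (s : Finset GolayPt), s.card = 2 → g • D s = D (g • s)
  stab : ∀ s : Finset GolayPt, s.card = 2 → ∀ g : M24, g • D s = D s → g • s = s

theorem exists_duad (M : Mod24 A) {v : A} (hv : v ≠ 1) (fv : x11 • v = v)
    (idx : (stabilizer M24 v).index = 276) : ∃ D : Finset GolayPt → A, Duad A v D := by
  classical
  obtain ⟨s0, hs0, hst⟩ := Cfsg.Agent.S1589.result.2.1 (stabilizer M24 v) idx
  have hst' : ∀ g : M24, g • v = v ↔ g • s0 = s0 := by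
    intro g
    have : g ∈ stabilizer M24 v ↔ g ∈ stabilizer M24 s0 := by rw [hst]
    exact this
  have hex : ∀ s : Finset GolayPt, s.card = 2 → ∃ g : M24, g • s0 = s := fun s hs =>
    exists_smul_eq_finset Cfsg.Agent.S0366.result (by norm_num : 2 ≤ 5) hs0 hs
  let D : Finset GolayPt → A := fun s =>
    if h : s.card = 2 then (Classical.choose (hex s h)) • v else 1
  have hD : ∀ g : M24, D (g • s0) = g • v := by
    intro g
    have h2 : (g • s0).card = 2 := by rw [Finset.card_smul_finset, hs0]
    have h3 := Classical.choose_spec (hex (g • s0) h2)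
    show (if h : (g • s0).card = 2 then (Classical.choose (hex (g • s0) h)) • v else 1) = g • v
    rw [dif_pos h2]
    set k := Classical.choose (hex (g • s0) h2)
    have h4 : (g⁻¹ * k) • s0 = s0 := by rw [mul_smul, h3, inv_smul_smul]
    have h5 := (hst' _).2 h4
    rwa [mul_smul, inv_smul_eq_iff] at h5
  refine ⟨D, M, hv, fv, idx, ?_, ?_, ?_⟩
  · intro s hs
    obtain ⟨g, rfl⟩ := hex s hs
    rw [hD]
    exact ⟨g, rfl⟩
  · intro g s hs
    obtain ⟨k, rfl⟩ := hex s hs
    rw [hD, ← mul_smul, ← mul_smul, hD]
  · intro s hs g hg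
    obtain ⟨k, rfl⟩ := hex s hs
    rw [hD, ← mul_smul] at hg
    have h1 : (k⁻¹ * (g * k)) • v = v := by rw [mul_smul, hg, inv_smul_smul]
    have h2 := (hst' _).1 h1
    rw [mul_smul, inv_smul_eq_iff, mul_smul] at h2
    exact h2

variable {v : A} {D : Finset GolayPt → A}

theorem Duad.ne_one (H : Duad A v D) {s : Finset GolayPt} (hs : s.card = 2) : D s ≠ 1 := by
  obtain ⟨k, hk⟩ := H.mem s hs
  have hk' : k • v = D s := hk
  rw [← hk']
  exact Mod24.smul_ne_one H.hv k

/-- A vector fixed by the pointwise stabiliser of two points. -/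
theorem Duad.eq_of_st2 (H : Duad A v D) {a b : GolayPt} (hab : a ≠ b) {u : A} (hu : u ≠ 1)
    (h : ∀ g ∈ st2 a b, g • u = u) : u = D {a, b} := by
  have : Fact (Nat.Prime 11) := ⟨by norm_num⟩
  obtain ⟨g, hg, hg1, hg11⟩ := exists_prime_elem (st2 a b) 11 (by rw [card_st2 hab]; norm_num)
  obtain ⟨w, hw, hww, huniq⟩ := H.toMod24.fix11 hg1 hg11
  have hc : ({a, b} : Finset GolayPt).card = 2 := Finset.card_pair hab
  have h1 : g • D {a, b} = D {a, b} := by
    rw [H.eqv g _ hc]
    congr 1
    have h2 := mem_st2.1 hg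
    ext x
    rw [Finset.mem_smul_finset]
    constructor
    · rintro ⟨y, hy, rfl⟩
      rw [Finset.mem_insert, Finset.mem_singleton] at hy ⊢
      rcases hy with rfl | rfl
      · exact Or.inl h2.1
      · exact Or.inr h2.2
    · intro hx
      rw [Finset.mem_insert, Finset.mem_singleton] at hx
      rcases hx with rfl | rfl
      · exact ⟨x, by simp, h2.1⟩
      · exact ⟨x, by simp, h2.2⟩
  rw [(huniq u (h g hg)).resolve_left hu, (huniq _ h1).resolve_left (H.ne_one hc)]

theorem smul_pair (g : M24) (a b : GolayPt) : g • ({a, b} : Finset GolayPt) = {g • a, g • b} := by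
  ext x
  rw [Finset.mem_smul_finset]
  constructor
  · rintro ⟨y, hy, rfl⟩
    rw [Finset.mem_insert, Finset.mem_singleton] at hy ⊢
    rcases hy with rfl | rfl
    · exact Or.inl rfl
    · exact Or.inr rfl
  · intro hx
    rw [Finset.mem_insert, Finset.mem_singleton] at hx
    rcases hx with rfl | rfl
    · exact ⟨a, by simp, rfl⟩
    · exact ⟨b, by simp, rfl⟩

/-- `D` is injective on pairs. -/
theorem Duad.inj (H : Duad A v D) {a b c d : GolayPt} (hab : a ≠ b) (hcd : c ≠ d)
    (h : D {a, b} = D {c, d}) : ({a, b} : Finset GolayPt) = {c, d} := by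
  have h1 : ∀ g : M24, g • a = a → g • b = b → g • ({c, d} : Finset GolayPt) = {c, d} := by
    intro g ha hb
    apply H.stab _ (Finset.card_pair hcd)
    rw [← h, H.eqv g _ (Finset.card_pair hab), smul_pair, ha, hb]
  have key : ∀ x y : GolayPt, x ≠ y → (∀ g : M24, g • a = a → g • b = b →
      g • ({x, y} : Finset GolayPt) = {x, y}) → x = a ∨ x = b := by
    intro x y hxy hg
    by_contra hcon
    push Not at hcon
    obtain ⟨z, h2, h3, h4, h5⟩ := exists_ne4 a b x y
    obtain ⟨w, -, -, -, -⟩ := exists_ne4 a b x y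
    obtain ⟨g, e1, e2, e3⟩ : ∃ g : M24, g • a = a ∧ g • b = b ∧ g • x = z := by
      obtain ⟨t, ht1, ht2, ht3⟩ := exists_ne3 a b x
      obtain ⟨t', ht1', ht2', ht3'⟩ := exists_ne3 a b z
      obtain ⟨g, e1, e2, e3, -⟩ := exists_map4 hab (Ne.symm hcon.1) ht1.symm (Ne.symm hcon.2)
        ht2.symm ht3.symm hab h2.symm ht1'.symm h3.symm ht2'.symm ht3'.symm
      exact ⟨g, e1, e2, e3⟩
    have h6 := hg g e1 e2
    have h7 : z ∈ ({x, y} : Finset GolayPt) := by
      rw [← h6, smul_pair, e3]; simp
    rw [Finset.mem_insert, Finset.mem_singleton] at h7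
    rcases h7 with h7 | h7
    · exact h4 h7
    · exact h5 h7
  have hc := key c d hcd h1
  have hd := key d c hcd.symm (by
    intro g ha hb
    rw [Finset.pair_comm]
    exact h1 g ha hb)
  rcases hc with rfl | rfl <;> rcases hd with rfl | rfl
  · exact absurd rfl hcd
  · rfl
  · rw [Finset.pair_comm]
  · exact absurd rfl hcd

/-! ### The triangle relation -/

theorem card_fixing3 {a b c : GolayPt} (hab : a ≠ b) (hac : a ≠ c) (hbc : b ≠ c) :
    Nat.card (fixingSubgroup M24 ({a, b, c} : Set GolayPt)) = 20160 := by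
  have h0 : ({a, b, c} : Set GolayPt).ncard = 3 := by
    rw [Set.ncard_eq_three]
    exact ⟨a, b, c, hab, hac, hbc, rfl⟩
  have h1 := index_fixing (s := ({a, b, c} : Set GolayPt)) (by norm_num : 3 ≤ 5) h0
  have h2 : (fixingSubgroup M24 ({a, b, c} : Set GolayPt)).index = 12144 := by
    apply Nat.eq_of_mul_eq_mul_right (Nat.factorial_pos (24 - 3))
    rw [h1]
    decide +kernel
  have h3 := (fixingSubgroup M24 ({a, b, c} : Set GolayPt)).card_mul_index
  rw [h2, Cfsg.Agent.S0364.result] at h3
  omega

theorem exists_map3 {a b c a' b' c' : GolayPt} (hab : a ≠ b) (hac : a ≠ c)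
    (hbc : b ≠ c) (hab' : a' ≠ b') (hac' : a' ≠ c') (hbc' : b' ≠ c') :
    ∃ g : M24, g • a = a' ∧ g • b = b' ∧ g • c = c' := by
  obtain ⟨t, ht1, ht2, ht3⟩ := exists_ne3 a b c
  obtain ⟨t', ht1', ht2', ht3'⟩ := exists_ne3 a' b' c'
  obtain ⟨g, e1, e2, e3, -⟩ := exists_map4 hab hac ht1.symm hbc
    ht2.symm ht3.symm hab' hac' ht1'.symm hbc' ht2'.symm ht3'.symm
  exact ⟨g, e1, e2, e3⟩

theorem index_triad (s : Finset GolayPt) (hs : s.card = 3) : (stabilizer M24 s).index = 2024 := by
  have h : orbit M24 s = ((Finset.univ.powersetCard 3 : Finset (Finset GolayPt)) :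
      Set (Finset GolayPt)) := by
    ext t
    rw [mem_orbit_iff, Finset.mem_coe, Finset.mem_powersetCard]
    constructor
    · rintro ⟨g, rfl⟩
      exact ⟨Finset.subset_univ _, by rw [Finset.card_smul_finset, hs]⟩
    · rintro ⟨-, ht⟩
      exact exists_smul_eq_finset Cfsg.Agent.S0366.result (by norm_num) hs ht
  rw [index_stabilizer, h, Set.ncard_coe_finset, Finset.card_powersetCard, Finset.card_univ,
    card24]
  decide

/-- A subgroup containing the stabiliser of three points is that stabiliser or has index at most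
253. -/
theorem of_triad {H : Subgroup M24} {a b c : GolayPt} (hab : a ≠ b) (hac : a ≠ c) (hbc : b ≠ c)
    (h : stabilizer M24 ({a, b, c} : Finset GolayPt) ≤ H) : H.index = 2024 ∨ H.index ≤ 253 := by
  classical
  have hc3 : ({a, b, c} : Finset GolayPt).card = 3 := by
    rw [Finset.card_eq_three]; exact ⟨a, b, c, hab, hac, hbc, rfl⟩
  have hT := index_triad _ hc3
  by_cases hH : ∀ g ∈ H, g • ({a, b, c} : Finset GolayPt) = {a, b, c}
  · left
    have h1 : H = stabilizer M24 ({a, b, c} : Finset GolayPt) := le_antisymm hH h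
    rw [h1, hT]
  · right
    push Not at hH
    obtain ⟨g, hg, hgne⟩ := hH
    -- elements of the stabiliser permuting `a`, `b`, `c`
    have hperm : ∀ x y z : GolayPt, ({x, y, z} : Finset GolayPt) = {a, b, c} → ∀ k : M24,
        k • a = x → k • b = y → k • c = z → k ∈ H := by
      intro x y z hxyz k h1 h2 h3
      apply h
      show k • ({a, b, c} : Finset GolayPt) = {a, b, c}
      rw [← hxyz]
      ext w
      rw [Finset.mem_smul_finset]
      constructor
      · rintro ⟨y', hy, rfl⟩
        rw [hxyz] at hy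
        simp only [Finset.mem_insert, Finset.mem_singleton] at hy ⊢
        rcases hy with rfl | rfl | rfl
        · exact Or.inl h1
        · exact Or.inr (Or.inl h2)
        · exact Or.inr (Or.inr h3)
      · intro hw
        rw [hxyz]
        simp only [Finset.mem_insert, Finset.mem_singleton] at hw ⊢
        rcases hw with rfl | rfl | rfl
        · exact ⟨a, Or.inl rfl, h1⟩
        · exact ⟨b, Or.inr (Or.inl rfl), h2⟩
        · exact ⟨c, Or.inr (Or.inr rfl), h3⟩
    have horb : ∀ x ∈ ({a, b, c} : Finset GolayPt), ∃ k ∈ H, k • a = x := by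
      intro x hx
      simp only [Finset.mem_insert, Finset.mem_singleton] at hx
      rcases hx with rfl | rfl | rfl
      · exact ⟨1, H.one_mem, one_smul _ _⟩
      · obtain ⟨k, h1, h2, h3⟩ := exists_map3 hab hac hbc (Ne.symm hab) hbc hac
        exact ⟨k, hperm _ _ _ (by rw [Finset.insert_comm]) k h1 h2 h3, h1⟩
      · obtain ⟨k, h1, h2, h3⟩ := exists_map3 hab hac hbc (Ne.symm hbc) (Ne.symm hac) (Ne.symm hab)
        refine ⟨k, hperm _ _ _ ?_ k h1 h2 h3, h1⟩
        ext w; simp only [Finset.mem_insert, Finset.mem_singleton]; tauto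
    -- a point outside in the orbit of `a`
    obtain ⟨x, hx, hgx⟩ : ∃ x ∈ ({a, b, c} : Finset GolayPt), g • x ∉ ({a, b, c} : Finset GolayPt) := by
      by_contra hcon
      push Not at hcon
      apply hgne
      apply Finset.eq_of_subset_of_card_le
      · intro y hy
        obtain ⟨z, hz, rfl⟩ := Finset.mem_smul_finset.1 hy
        exact hcon z hz
      · rw [Finset.card_smul_finset]
    obtain ⟨k, hk, hka⟩ := horb x hx
    have htr : ∀ y : GolayPt, ∃ k ∈ H, k • a = y := by
      intro y
      by_cases hy : y ∈ ({a, b, c} : Finset GolayPt)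
      · exact horb y hy
      · -- `y` and `g • x` are outside
        simp only [Finset.mem_insert, Finset.mem_singleton, not_or] at hy hgx
        obtain ⟨m, h1, h2, h3, h4⟩ := exists_map4 hab hac (Ne.symm hgx.1) hbc (Ne.symm hgx.2.1)
          (Ne.symm hgx.2.2) hab hac (Ne.symm hy.1) hbc (Ne.symm hy.2.1) (Ne.symm hy.2.2)
        refine ⟨m * (g * k), H.mul_mem (hperm a b c rfl m h1 h2 h3) (H.mul_mem hg hk), ?_⟩
        rw [mul_smul, mul_smul, hka, h4]
    -- the stabiliser of `a` in `H`
    let L : Subgroup M24 := stabilizer M24 ({a, b, c} : Finset GolayPt) ⊓ stabilizer M24 a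
    have hL : 40320 ≤ Nat.card L := by
      -- `L` has the pointwise stabiliser as a proper subgroup
      have hF := card_fixing3 hab hac hbc
      have hFL : fixingSubgroup M24 ({a, b, c} : Set GolayPt) ≤ L := by
        intro m hm
        rw [mem_fixingSubgroup_iff] at hm
        have h1 : m • a = a := hm a (by simp)
        have h2 : m • b = b := hm b (by simp)
        have h3 : m • c = c := hm c (by simp)
        refine ⟨?_, h1⟩
        show m • ({a, b, c} : Finset GolayPt) = {a, b, c}
        ext w
        rw [Finset.mem_smul_finset]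
        simp only [Finset.mem_insert, Finset.mem_singleton]
        constructor
        · rintro ⟨y', (rfl | rfl | rfl), rfl⟩
          · exact Or.inl h1
          · exact Or.inr (Or.inl h2)
          · exact Or.inr (Or.inr h3)
        · rintro (rfl | rfl | rfl)
          · exact ⟨w, Or.inl rfl, h1⟩
          · exact ⟨w, Or.inr (Or.inl rfl), h2⟩
          · exact ⟨w, Or.inr (Or.inr rfl), h3⟩
      obtain ⟨m, h1, h2, h3⟩ := exists_map3 hab hac hbc hac hab (Ne.symm hbc)
      have hmL : m ∈ L := by
        refine ⟨?_, h1⟩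
        show m • ({a, b, c} : Finset GolayPt) = {a, b, c}
        ext w
        rw [Finset.mem_smul_finset]
        simp only [Finset.mem_insert, Finset.mem_singleton]
        constructor
        · rintro ⟨y', (rfl | rfl | rfl), rfl⟩
          · exact Or.inl h1
          · exact Or.inr (Or.inr h2)
          · exact Or.inr (Or.inl h3)
        · rintro (rfl | rfl | rfl)
          · exact ⟨w, Or.inl rfl, h1⟩
          · exact ⟨c, Or.inr (Or.inr rfl), h3⟩
          · exact ⟨b, Or.inr (Or.inl rfl), h2⟩
      have h4 : Nat.card L ≠ 20160 := by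
        intro h5
        have h6 : fixingSubgroup M24 ({a, b, c} : Set GolayPt) = L :=
          Subgroup.eq_of_le_of_card_ge hFL (by rw [h5, hF])
        rw [← h6, mem_fixingSubgroup_iff] at hmL
        have h7 : m • b = b := hmL b (by simp)
        exact hbc (h7.symm.trans h2)
      have h5 : 20160 ∣ Nat.card L := by
        rw [← hF]; exact Subgroup.card_dvd_of_le hFL
      have h6 : 0 < Nat.card L := Nat.card_pos
      obtain ⟨q, hq⟩ := h5
      have h7 : q ≠ 0 := by rintro rfl; omega
      have h8 : q ≠ 1 := by rintro rfl; omega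
      omega
    have hcard : 40320 * 24 ≤ Nat.card H := by
      have h1 := (stabilizer H a).card_mul_index
      rw [index_stabilizer] at h1
      have h2 : (orbit H a) = Set.univ := by
        rw [Set.eq_univ_iff_forall]
        intro y
        obtain ⟨k', hk', hky⟩ := htr y
        exact ⟨⟨k', hk'⟩, hky⟩
      rw [h2, Set.ncard_univ, card_golayPt] at h1
      rw [← h1]
      apply Nat.mul_le_mul_right
      refine hL.trans ?_
      have hLH : ∀ m ∈ L, m ∈ H := fun m hm => h hm.1
      apply Nat.card_le_card_of_injective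
        (fun m : L => (⟨⟨m, hLH m m.2⟩, m.2.2⟩ : stabilizer H a))
      intro m m' hmm
      exact Subtype.ext (congrArg (fun z : stabilizer H a => ((z : H) : M24)) hmm)
    have h2 := H.card_mul_index
    rw [Cfsg.Agent.S0364.result] at h2
    by_contra hlt
    push Not at hlt
    have h3 : 40320 * 24 * 254 ≤ Nat.card H * H.index := Nat.mul_le_mul hcard hlt
    omega

/-- **The triangle relation.** -/
theorem Duad.triangle (H : Duad A v D) {a b c : GolayPt} (hab : a ≠ b) (hac : a ≠ c)
    (hbc : b ≠ c) : D {a, b} * D {b, c} = D {a, c} := by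
  have cab := Finset.card_pair hab
  have cbc := Finset.card_pair hbc
  have cac := Finset.card_pair hac
  by_contra hne
  set u := D {a, b} * D {b, c} * D {a, c} with hu
  have hu1 : u ≠ 1 := by
    intro h
    apply hne
    rw [hu] at h
    have h2 := H.sq (D {a, c})
    calc D {a, b} * D {b, c} = D {a, b} * D {b, c} * (D {a, c} * D {a, c}) := by rw [h2, mul_one]
      _ = D {a, c} := by rw [← mul_assoc, h, one_mul]
  have hle : stabilizer M24 ({a, b, c} : Finset GolayPt) ≤ stabilizer M24 u := by
    intro g hg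
    have hg' : g • ({a, b, c} : Finset GolayPt) = {a, b, c} := hg
    show g • u = u
    have h1 : g • u = D {g • a, g • b} * D {g • b, g • c} * D {g • a, g • c} := by
      rw [hu, smul_mul', smul_mul', H.eqv g _ cab, H.eqv g _ cbc, H.eqv g _ cac, smul_pair,
        smul_pair, smul_pair]
    have hmem : ∀ x ∈ ({a, b, c} : Finset GolayPt), g • x ∈ ({a, b, c} : Finset GolayPt) := by
      intro x hx
      rw [← hg']
      exact Finset.smul_mem_smul_finset hx
    have ha := hmem a (by simp)
    have hb := hmem b (by simp)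
    have hc := hmem c (by simp)
    have hab' : g • a ≠ g • b := fun h => hab (MulAction.injective g h)
    have hac' : g • a ≠ g • c := fun h => hac (MulAction.injective g h)
    have hbc' : g • b ≠ g • c := fun h => hbc (MulAction.injective g h)
    rw [h1]
    generalize g • a = a' at *
    generalize g • b = b' at *
    generalize g • c = c' at *
    simp only [Finset.mem_insert, Finset.mem_singleton] at ha hb hc
    rcases ha with rfl | rfl | rfl <;> rcases hb with rfl | rfl | rfl <;>
      rcases hc with rfl | rfl | rfl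
    all_goals first
      | exact absurd rfl hab'
      | exact absurd rfl hac'
      | exact absurd rfl hbc'
      | skip
    all_goals
      rw [hu]
      try rw [Finset.pair_comm b' a']
      try rw [Finset.pair_comm c' b']
      try rw [Finset.pair_comm c' a']
      try ac_rfl
  -- `u` is not in the orbit of `v`
  have hnv : u ∉ orbit M24 v := by
    intro h
    have h1 : (stabilizer M24 u).index = 276 := by
      rw [← H.idx, index_stabilizer, index_stabilizer, orbit_eq_iff.2 h]
    rcases of_triad hab hac hbc hle with h2 | h2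
    · omega
    · have h3 := Subgroup.index_dvd_of_le hle
      rw [h1, index_triad _ (by
        rw [Finset.card_eq_three]; exact ⟨a, b, c, hab, hac, hbc, rfl⟩)] at h3
      norm_num at h3
  have h1 := H.toMod24.orbit253 H.hv H.fv hu1 hnv
  have h2 := Cfsg.Agent.S1589.result.2.2.2 (stabilizer M24 u)
  have h3 := H.toMod24.index_add_le hu1 H.hv hnv
  rw [H.idx] at h3
  have h4 : 0 < (stabilizer M24 u).index := Nat.pos_of_ne_zero Subgroup.index_ne_zero_of_finite
  rcases of_triad hab hac hbc hle with h5 | h5
  · omega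
  · omega

/-! ### The cocode -/

/-- The 24 generators. -/
noncomputable def gen (D : Finset GolayPt → A) : GolayPt → A := fun i =>
  if i = none then 1 else D {none, i}

theorem Duad.gen_sq (H : Duad A v D) (i : GolayPt) : gen D i * gen D i = 1 := H.sq _

theorem Duad.gen_pair (H : Duad A v D) {i j : GolayPt} (hij : i ≠ j) :
    gen D i * gen D j = D {i, j} := by
  unfold gen
  by_cases hi : i = none
  · subst hi
    rw [if_pos rfl, if_neg (Ne.symm hij), one_mul]
  · by_cases hj : j = none
    · subst hj
      rw [if_neg hi, if_pos rfl, mul_one, Finset.pair_comm]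
    · rw [if_neg hi, if_neg hj, Finset.pair_comm none i]
      exact H.triangle hi hij (Ne.symm hj)

theorem Duad.act_prod (H : Duad A v D) (g : M24) {S : Finset GolayPt} (hS : Even S.card) :
    g • (∏ i ∈ S, gen D i) = ∏ i ∈ S, gen D (g • i) := by
  classical
  have key : ∀ n : ℕ, ∀ S : Finset GolayPt, S.card = 2 * n →
      g • (∏ i ∈ S, gen D i) = ∏ i ∈ S, gen D (g • i) := by
    intro n
    induction n with
    | zero =>
      intro S hS
      have : S = ∅ := Finset.card_eq_zero.1 (by omega)
      subst this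
      rw [Finset.prod_empty, Finset.prod_empty, smul_one]
    | succ n ih =>
      intro S hS
      obtain ⟨i, hi⟩ : S.Nonempty := Finset.card_pos.1 (by omega)
      have h1 : (S.erase i).card = 2 * n + 1 := by
        rw [Finset.card_erase_of_mem hi]; omega
      obtain ⟨j, hj⟩ : (S.erase i).Nonempty := Finset.card_pos.1 (by omega)
      have h2 : ((S.erase i).erase j).card = 2 * n := by
        rw [Finset.card_erase_of_mem hj]; omega
      have hij : i ≠ j := (Finset.ne_of_mem_erase hj).symm
      have hgij : g • i ≠ g • j := fun h => hij (MulAction.injective g h)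
      rw [← Finset.mul_prod_erase S _ hi, ← Finset.mul_prod_erase (S.erase i) _ hj, ← mul_assoc,
        smul_mul', ih _ h2, H.gen_pair hij, H.eqv g _ (Finset.card_pair hij), smul_pair,
        ← H.gen_pair hgij, ← Finset.mul_prod_erase S (fun i => gen D (g • i)) hi,
        ← Finset.mul_prod_erase (S.erase i) (fun i => gen D (g • i)) hj, ← mul_assoc]
  obtain ⟨n, hn⟩ := hS
  exact key n S (by omega)

theorem Duad.prod_two (H : Duad A v D) {S : Finset GolayPt} (hS : S.card = 2) :
    ∏ i ∈ S, gen D i ≠ 1 := by
  obtain ⟨a, b, hab, rfl⟩ := Finset.card_eq_two.1 hS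
  rw [Finset.prod_pair hab, H.gen_pair hab]
  exact H.ne_one hS

theorem Duad.prod_four (H : Duad A v D) {S : Finset GolayPt} (hS : S.card = 4) :
    ∏ i ∈ S, gen D i ≠ 1 := by
  classical
  obtain ⟨a, ha⟩ : S.Nonempty := Finset.card_pos.1 (by omega)
  have h1 : (S.erase a).card = 3 := by rw [Finset.card_erase_of_mem ha]; omega
  obtain ⟨b, c, d, hbc, hbd, hcd, h2⟩ := Finset.card_eq_three.1 h1
  have hb : b ∈ S.erase a := by rw [h2]; simp
  have hc : c ∈ S.erase a := by rw [h2]; simp
  have hd : d ∈ S.erase a := by rw [h2]; simp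
  have hab : a ≠ b := (Finset.ne_of_mem_erase hb).symm
  have hac : a ≠ c := (Finset.ne_of_mem_erase hc).symm
  have had : a ≠ d := (Finset.ne_of_mem_erase hd).symm
  intro h
  rw [← Finset.mul_prod_erase S _ ha, h2, Finset.prod_insert (by simp [hbc, hbd]),
    Finset.prod_pair hcd, H.gen_pair hcd, ← mul_assoc, H.gen_pair hab] at h
  have h3 : D {a, b} = D {c, d} := by
    have h4 := H.sq (D {c, d})
    calc D {a, b} = D {a, b} * (D {c, d} * D {c, d}) := by rw [h4, mul_one]
      _ = D {c, d} := by rw [← mul_assoc, h, one_mul]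
  have h4 := H.inj hab hcd h3
  have h5 : a ∈ ({c, d} : Finset GolayPt) := by rw [← h4]; simp
  simp [hac, had] at h5

/-- The equivariance in terms of words. -/
theorem fix_count7 {g : M24} (hg1 : g ≠ 1) (hg : g ^ 7 = 1) :
    (Finset.univ.filter fun x : GolayPt => g • x = x).card = 3 := by
  obtain ⟨h1, h2⟩ := fix_card card24 (fixBound Cfsg.Agent.S0364.result Cfsg.Agent.S0366.result)
    (by norm_num : Nat.Prime 7) (by norm_num) hg1 hg
  unfold Nat.ModEq at h2
  omega

theorem fix_count11 {g : M24} (hg1 : g ≠ 1) (hg : g ^ 11 = 1) :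
    (Finset.univ.filter fun x : GolayPt => g • x = x).card = 2 := by
  obtain ⟨h1, h2⟩ := fix_card card24 (fixBound Cfsg.Agent.S0364.result Cfsg.Agent.S0366.result)
    (by norm_num : Nat.Prime 11) (by norm_num) hg1 hg
  unfold Nat.ModEq at h2
  omega

/-- A set in the code invariant under elements of order 7 and 11 is empty or everything. -/
theorem trivial_word {S : Finset GolayPt} (hS : S ∈ supports (golayCode : Set (GolayPt → ZMod 2)))
    {f g : M24} (hf1 : f ≠ 1) (hf : f ^ 7 = 1) (hg1 : g ≠ 1) (hg : g ^ 11 = 1)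
    (hfS : ∀ x ∈ S, f • x ∈ S) (hgS : ∀ x ∈ S, g • x ∈ S) : S.card = 0 ∨ S.card = 24 := by
  classical
  have : Fact (Nat.Prime 7) := ⟨by norm_num⟩
  have : Fact (Nat.Prime 11) := ⟨by norm_num⟩
  have h1 := card_filter_modEq hf S hfS
  have h2 := card_filter_modEq hg S hgS
  have h3 : (S.filter fun x => f • x = x).card ≤ 3 := by
    rw [← fix_count7 hf1 hf]
    exact Finset.card_le_card (Finset.filter_subset_filter _ (Finset.subset_univ _))
  have h4 : (S.filter fun x => g • x = x).card ≤ 2 := by
    rw [← fix_count11 hg1 hg]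
    exact Finset.card_le_card (Finset.filter_subset_filter _ (Finset.subset_univ _))
  unfold Nat.ModEq at h1 h2
  rcases SporadicA.GolayBase.card_of_mem_supports hS with h | h | h | h | h <;> omega

open Cfsg.Agent.Schreier.CocodeSys

/-- The map from the code. -/
noncomputable def codeMap (H : Duad A v D) : Multiplicative golayCode →* A where
  toFun w := fw (gen D) ((Multiplicative.toAdd w : golayCode) : GolayPt → ZMod 2)
  map_one' := fw_zero
  map_mul' := fun _ _ => fw_add H.gen_sq _ _

theorem even_word {S : Finset GolayPt} (hS : S ∈ supports (golayCode : Set (GolayPt → ZMod 2))) :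
    Even S.card := by
  rw [Nat.even_iff]
  rcases SporadicA.GolayBase.card_of_mem_supports hS with h | h | h | h | h <;> omega

theorem supp_smul (g : M24) {S : Finset GolayPt}
    (hS : S ∈ supports (golayCode : Set (GolayPt → ZMod 2))) :
    g • S ∈ supports (golayCode : Set (GolayPt → ZMod 2)) := by
  have hg : (g : Equiv.Perm GolayPt) • supports (golayCode : Set (GolayPt → ZMod 2)) =
      supports (golayCode : Set (GolayPt → ZMod 2)) := g.2
  rw [← hg]
  exact Set.smul_mem_smul_set hS

theorem Duad.act_prod' (H : Duad A v D) (g : M24) {S : Finset GolayPt} (hS : Even S.card) :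
    g • (∏ i ∈ S, gen D i) = ∏ i ∈ g • S, gen D i := by
  classical
  rw [H.act_prod g hS]
  have : g • S = S.image (fun i => g • i) := rfl
  rw [this, Finset.prod_image (fun a _ b _ h => MulAction.injective g h)]

theorem symmDiff_univ' (S T : Finset GolayPt) (h : symmDiff S T = Finset.univ) : S = Tᶜ := by
  ext x
  have hx : x ∈ symmDiff S T := by rw [h]; exact Finset.mem_univ x
  rw [Finset.mem_symmDiff] at hx
  rw [Finset.mem_compl]
  tauto

theorem Duad.prod_supp (H : Duad A v D) {S T : Finset GolayPt}
    (h : ∏ i ∈ S, gen D i = ∏ i ∈ T, gen D i) : ∏ i ∈ symmDiff S T, gen D i = 1 := by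
  rw [prod_symmDiff H.gen_sq, h, H.sq]

theorem support₂_one : support₂ (1 : GolayPt → ZMod 2) = Finset.univ := by
  ext x
  simp [support₂]

theorem Duad.prod_univ (H : Duad A v D) : ∏ i : GolayPt, gen D i = 1 := by
  obtain ⟨g, hg1, hg⟩ := exists_order23
  apply H.toMod24.fix23 hg1 hg
  rw [H.act_prod' g (by rw [Finset.card_univ, card24]; decide), Finset.smul_finset_univ]

/-- **The octads.** -/
theorem Duad.octad (H : Duad A v D) (O : Finset GolayPt) (hO : O ∈ octads) :
    ∏ i ∈ O, gen D i = 1 := by
  classical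
  by_contra hne
  -- the code is mapped onto `A`
  have hrange : (codeMap H).range = ⊤ := by
    rcases H.toMod24.irr (codeMap H).range (by
      rintro g _ ⟨w, rfl⟩
      obtain ⟨w', hw', hw''⟩ := supp_smul g ⟨((Multiplicative.toAdd w : golayCode) :
        GolayPt → ZMod 2), (Multiplicative.toAdd w : golayCode).2, rfl⟩
      refine ⟨Multiplicative.ofAdd ⟨w', hw'⟩, ?_⟩
      show fw (gen D) w' = g • fw (gen D) _
      unfold fw
      rw [H.act_prod' g (even_word ⟨_, (Multiplicative.toAdd w : golayCode).2, rfl⟩)]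
      rw [hw'']) with h | h
    · exfalso
      obtain ⟨w, hw, hwO⟩ := hO.1
      have h1 : codeMap H (Multiplicative.ofAdd ⟨w, hw⟩) ∈ (codeMap H).range := ⟨_, rfl⟩
      rw [h, Subgroup.mem_bot] at h1
      apply hne
      rw [← h1]
      show _ = fw (gen D) w
      unfold fw
      rw [hwO]
    · exact h
  have hker : Nat.card (codeMap H).ker = 2 := by
    have h1 := Subgroup.card_mul_index (codeMap H).ker
    rw [Subgroup.index_ker, hrange, Subgroup.card_top, H.card] at h1
    have h2 : Nat.card (Multiplicative golayCode) = 4096 := Cfsg.Agent.S0358.card_golayCode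
    rw [h2] at h1
    omega
  have h1m : (1 : GolayPt → ZMod 2) ∈ golayCode := Submodule.subset_span (Or.inr rfl)
  let z : Multiplicative golayCode := Multiplicative.ofAdd ⟨1, h1m⟩
  have hz : z ∈ (codeMap H).ker := by
    rw [MonoidHom.mem_ker]
    show fw (gen D) 1 = 1
    unfold fw
    rw [support₂_one, H.prod_univ]
  have hz1 : z ≠ 1 := by
    intro h
    have h2 : (1 : GolayPt → ZMod 2) = 0 := congrArg (fun y : Multiplicative golayCode =>
      ((Multiplicative.toAdd y : golayCode) : GolayPt → ZMod 2)) h
    have h3 := congrFun h2 none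
    exact one_ne_zero h3
  have hker' : ∀ y ∈ (codeMap H).ker, y = 1 ∨ y = z := by
    intro y hy
    by_contra hcon
    push Not at hcon
    have h2 : ({1, z, y} : Finset (Multiplicative golayCode)).card ≤ 2 := by
      refine le_trans ?_ hker.le
      have h3 : (({1, z, y} : Finset (Multiplicative golayCode)) :
          Set (Multiplicative golayCode)) ⊆ ((codeMap H).ker : Set (Multiplicative golayCode)) := by
        intro t ht
        simp only [Finset.coe_insert, Finset.coe_singleton, Set.mem_insert_iff,
          Set.mem_singleton_iff] at ht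
        rcases ht with rfl | rfl | rfl
        · exact one_mem _
        · exact hz
        · exact hy
      have h4 := Set.ncard_le_ncard h3 (Set.toFinite _)
      rw [Set.ncard_coe_finset] at h4
      exact h4
    rw [Finset.card_insert_of_notMem, Finset.card_pair (Ne.symm hcon.2)] at h2
    · omega
    · simp [hz1.symm, hcon.1.symm]
  -- the word over a duad
  have hab : (none : GolayPt) ≠ some 0 := by simp
  obtain ⟨γ, hγ⟩ : D {none, some 0} ∈ (codeMap H).range := by rw [hrange]; trivial
  set S := support₂ ((Multiplicative.toAdd γ : golayCode) : GolayPt → ZMod 2) with hSdef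
  have hS : S ∈ supports (golayCode : Set (GolayPt → ZMod 2)) :=
    ⟨_, (Multiplicative.toAdd γ : golayCode).2, rfl⟩
  have hSD : ∏ i ∈ S, gen D i = D {none, some 0} := hγ
  have hinv : ∀ g ∈ st2 none (some 0), ∀ x ∈ S, g • x ∈ S := by
    intro g hg
    have h2 : ∏ i ∈ g • S, gen D i = ∏ i ∈ S, gen D i := by
      rw [← H.act_prod' g (even_word hS), hSD, H.eqv g _ (Finset.card_pair hab), smul_pair,
        (mem_st2.1 hg).1, (mem_st2.1 hg).2]
    have h3 := H.prod_supp h2
    obtain ⟨w, hw, hwS⟩ := SporadicA.GolayBase.symmDiff_mem_supports (supp_smul g hS) hS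
    have h4 : Multiplicative.ofAdd (⟨w, hw⟩ : golayCode) ∈ (codeMap H).ker := by
      rw [MonoidHom.mem_ker]
      show fw (gen D) w = 1
      unfold fw
      rw [hwS, h3]
    rcases hker' _ h4 with h5 | h5
    · have h6 : w = 0 := congrArg (fun y : Multiplicative golayCode =>
        ((Multiplicative.toAdd y : golayCode) : GolayPt → ZMod 2)) h5
      rw [h6] at hwS
      have h7 : symmDiff (g • S) S = ⊥ := by
        rw [← hwS]
        ext x; simp [support₂]
      rw [symmDiff_eq_bot] at h7
      intro x hx
      rw [← h7]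
      exact Finset.smul_mem_smul_finset hx
    · exfalso
      have h6 : w = 1 := congrArg (fun y : Multiplicative golayCode =>
        ((Multiplicative.toAdd y : golayCode) : GolayPt → ZMod 2)) h5
      rw [h6, support₂_one] at hwS
      have h7 := symmDiff_univ' _ _ hwS.symm
      have h8 : g • (none : GolayPt) = none := (mem_st2.1 hg).1
      by_cases hn : (none : GolayPt) ∈ S
      · have h9 := Finset.smul_mem_smul_finset (a := g) hn
        rw [h8, h7, Finset.mem_compl] at h9
        exact h9 hn
      · have h9 : (none : GolayPt) ∈ g • S := by rw [h7, Finset.mem_compl]; exact hn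
        obtain ⟨y, hy, hy'⟩ := Finset.mem_smul_finset.1 h9
        apply hn
        have h10 : y = none := MulAction.injective g (hy'.trans h8.symm)
        rw [← h10]
        exact hy
  have : Fact (Nat.Prime 7) := ⟨by norm_num⟩
  have : Fact (Nat.Prime 11) := ⟨by norm_num⟩
  obtain ⟨f, hf, hf1, hf7⟩ := exists_prime_elem (st2 none (some 0)) 7 (by
    rw [card_st2 hab]; norm_num)
  obtain ⟨g, hg, hg1, hg11⟩ := exists_prime_elem (st2 none (some 0)) 11 (by
    rw [card_st2 hab]; norm_num)
  rcases trivial_word hS hf1 hf7 hg1 hg11 (hinv f hf) (hinv g hg) with h2 | h2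
  · rw [Finset.card_eq_zero.1 h2, Finset.prod_empty] at hSD
    exact H.ne_one (Finset.card_pair hab) hSD.symm
  · have h3 : S = Finset.univ := Finset.eq_univ_of_card _ (by rw [h2, card24])
    rw [h3, H.prod_univ] at hSD
    exact H.ne_one (Finset.card_pair hab) hSD.symm

open Cfsg.Agent.Schreier.CocodeSmall

theorem Duad.pres (H : Duad A v D) : Pres (gen D) := by
  classical
  refine ⟨isCocode_of H.gen_sq H.octad ?_, ?_⟩
  · rintro T (hT | hT)
    · exact H.prod_two hT
    · exact H.prod_four hT
  · let W : Subgroup A :=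
      { carrier := {a | ∃ S : Finset GolayPt, Even S.card ∧ a = ∏ i ∈ S, gen D i}
        one_mem' := ⟨∅, by simp, by simp⟩
        mul_mem' := by
          rintro _ _ ⟨S, hS, rfl⟩ ⟨T, hT, rfl⟩
          exact ⟨symmDiff S T, even_symmDiff hS hT, (prod_symmDiff H.gen_sq S T).symm⟩
        inv_mem' := by
          rintro _ ⟨S, hS, rfl⟩
          exact ⟨S, hS, inv_eq_of_mul_eq_one_left (H.sq _)⟩ }
    rcases H.toMod24.irr W (by
      rintro g _ ⟨S, hS, rfl⟩
      exact ⟨g • S, by rwa [Finset.card_smul_finset], H.act_prod' g hS⟩) with h | h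
    · exfalso
      have hab : (none : GolayPt) ≠ some 0 := by simp
      have h1 : D {none, some 0} ∈ W := ⟨{none, some 0}, by rw [Finset.card_pair hab]; decide, by
        rw [Finset.prod_pair hab, H.gen_pair hab]⟩
      rw [h, Subgroup.mem_bot] at h1
      exact H.ne_one (Finset.card_pair hab) h1
    · intro a
      have h1 : a ∈ W := by rw [h]; trivial
      exact h1

theorem Duad.actE_eq (H : Duad A v D) (g : M24) (a : A) : actE H.pres g a = g • a := by
  have h : actE H.pres g = MulDistribMulAction.toMonoidHom A g := by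
    apply hom_ext H.pres
    intro i j hij
    rw [actE_pair H.pres g hij]
    show _ = g • (gen D i * gen D j)
    rw [H.gen_pair hij, H.eqv g _ (Finset.card_pair hij), smul_pair, ← H.gen_pair]
    · rfl
    · exact fun h => hij (MulAction.injective g h)
  rw [h]
  rfl

/-- **No quadratic offenders, case 276.** -/
theorem small276 (M : Mod24 A) {v : A} (hv : v ≠ 1) (fv : x11 • v = v)
    (idx : (stabilizer M24 v).index = 276) (B : Subgroup M24)
    (hB : ∀ b ∈ B, b * b = 1) (hne : B ≠ ⊥) (A0 : Subgroup A)
    (h1 : ∀ b ∈ B, ∀ a ∈ A0, b • a = a) (h2 : ∀ b ∈ B, ∀ a : A, (b • a) * a ∈ A0) :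
    Nat.card A0 * Nat.card B < 2 ^ 11 := by
  obtain ⟨D, H⟩ := exists_duad M hv fv idx
  apply small H.pres M.card B hB hne A0
  · intro b hb a ha
    rw [H.actE_eq]
    exact h1 b hb a ha
  · intro b hb a
    rw [H.actE_eq]
    exact h2 b hb a

end Cfsg.Agent.H338.M24Orb
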